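import Cfsg.Agent.Lib.GLSemisimple.Classes

/-!
Conjugacy over an arbitrary finite index type, and commutants of matrices with squarefree characteristic polynomial.
-/

set_option autoImplicit false

namespace Cfsg.Agent.GLSemi

open Polynomial Matrix

variable {F : Type*} [Field F]

theorem isSemisimple_of_pow_eq_one' {ι : Type*} [Fintype ι] [DecidableEq ι] {N : ℕ} (hN : (N : F) ≠ 0)
    {M : Matrix ι ι F} (hM : M ^ N = 1) : Module.End.IsSemisimple (Matrix.toLin' M) := by
  refine Module.End.isSemisimple_of_squarefree_aeval_eq_zero (p := X ^ N - 1)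
    ((separable_X_pow_sub_C (1 : F) hN one_ne_zero).squarefree |> fun h => by simpa using h) ?_
  rw [map_sub, map_pow, aeval_X, map_one, ← Matrix.toLin'_pow, hM, Matrix.toLin'_one, ← Module.End.one_eq_id,
    sub_self]

/-- Matrices of order prime to the characteristic with equal characteristic polynomials are similar. -/
theorem exists_unit_conj {ι : Type*} [Fintype ι] [DecidableEq ι] {N : ℕ} (hN : (N : F) ≠ 0) {A B : Matrix ι ι F}
    (hA : A ^ N = 1) (hB : B ^ N = 1) (hc : A.charpoly = B.charpoly) :
    ∃ G : Matrix ι ι F, IsUnit G ∧ G * A = B * G := by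
  obtain ⟨e, he⟩ := exists_equiv_of_charpoly_eq _ _ (isSemisimple_of_pow_eq_one' hN hA)
    (isSemisimple_of_pow_eq_one' hN hB) (by rw [Matrix.charpoly_toLin', Matrix.charpoly_toLin', hc])
  refine ⟨LinearMap.toMatrix' (e : (ι → F) →ₗ[F] (ι → F)), ?_, Matrix.toLin'.injective ?_⟩
  · rw [Matrix.isUnit_iff_isUnit_det, LinearMap.det_toMatrix']
    exact LinearEquiv.isUnit_det' e
  · rw [Matrix.toLin'_mul, Matrix.toLin'_mul, Matrix.toLin'_toMatrix']
    exact LinearMap.ext he

/-- The commutant of a semisimple matrix with squarefree characteristic polynomial is commutative. -/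
theorem commute_of_squarefree {d : ℕ} {N : ℕ} (hN : (N : F) ≠ 0) {M : Matrix (Fin d) (Fin d) F} (hM : M ^ N = 1)
    (hsq : Squarefree M.charpoly) {E E' : Matrix (Fin d) (Fin d) F} (hE : Commute E M) (hE' : Commute E' M) :
    Commute E E' := by
  classical
  set s := M.charpoly with hs
  have hsm : s.Monic := Matrix.charpoly_monic M
  let pb := AdjoinRoot.powerBasis' hsm
  have hdim : pb.dim = d := by
    rw [AdjoinRoot.powerBasis'_dim]
    exact (Matrix.charpoly_natDegree_eq_dim M).trans (Fintype.card_fin d)
  let b := pb.basis.reindex (finCongr hdim)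
  let φ : AdjoinRoot s →ₐ[F] Matrix (Fin d) (Fin d) F := Algebra.leftMulMatrix b
  set L := φ (AdjoinRoot.root s) with hL
  have hdvd : s ∣ X ^ N - 1 := by
    have hnd := (UniqueFactorizationMonoid.squarefree_iff_nodup_normalizedFactors hsm.ne_zero).mp hsq
    refine ((UniqueFactorizationMonoid.prod_normalizedFactors hsm.ne_zero).symm.dvd).trans ?_
    show (⟨_, hnd⟩ : Finset F[X]).val.prod ∣ _
    rw [Finset.prod_val]
    refine Finset.prod_dvd_of_coprime (fun f hf g hg hne => ?_)
      (fun f hf => factor_dvd_of_pow_eq_one hM (UniqueFactorizationMonoid.irreducible_of_normalized_factor f hf)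
        (UniqueFactorizationMonoid.dvd_of_mem_normalizedFactors hf))
    refine (UniqueFactorizationMonoid.irreducible_of_normalized_factor f hf).coprime_iff_not_dvd.mpr fun h => hne ?_
    show f = g
    have ha := (UniqueFactorizationMonoid.irreducible_of_normalized_factor f hf).associated_of_dvd
      (UniqueFactorizationMonoid.irreducible_of_normalized_factor g hg) h
    rw [← UniqueFactorizationMonoid.normalize_normalized_factor f hf,
      ← UniqueFactorizationMonoid.normalize_normalized_factor g hg]
    exact normalize_eq_normalize_iff_associated.mpr ha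
  have hLN : L ^ N = 1 := by
    rw [hL, ← map_pow]
    obtain ⟨c, hc⟩ := hdvd
    have h := congrArg (AdjoinRoot.mk s) hc
    simp only [map_sub, map_pow, AdjoinRoot.mk_X, map_one, map_mul, AdjoinRoot.mk_self, zero_mul, sub_eq_zero] at h
    rw [h, map_one]
  have hLc : L.charpoly = s := by
    have h1 : L.charpoly = (Algebra.leftMulMatrix pb.basis pb.gen).charpoly := by
      rw [hL, AdjoinRoot.powerBasis'_gen, show φ = Algebra.leftMulMatrix b from rfl,
        show Algebra.leftMulMatrix b (AdjoinRoot.root s) =
          Matrix.reindex (finCongr hdim) (finCongr hdim) (Algebra.leftMulMatrix pb.basis (AdjoinRoot.root s)) from ?_,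
        Matrix.charpoly_reindex]
      ext i j
      simp [b, Algebra.leftMulMatrix_apply, LinearMap.toMatrix_apply]
    rw [h1, charpoly_leftMulMatrix]
    show minpoly F (AdjoinRoot.powerBasis' hsm).gen = s
    rw [AdjoinRoot.powerBasis'_gen, AdjoinRoot.minpoly_root hsm.ne_zero, hsm.leadingCoeff, inv_one, map_one, mul_one]
  obtain ⟨G, hG, hGM⟩ := exists_unit_conj hN hM hLN hLc.symm
  obtain ⟨g, rfl⟩ := hG
  -- everything commuting with `L` is a left multiplication
  have key : ∀ D : Matrix (Fin d) (Fin d) F, Commute D L → ∃ x, D = φ x := by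
    intro D hD
    have hall : ∀ x, Commute D (φ x) := by
      intro x
      induction x using AdjoinRoot.induction_on with
      | ih R =>
        rw [← AdjoinRoot.aeval_eq R, ← Polynomial.aeval_algHom_apply]
        exact Algebra.commute_of_mem_adjoin_singleton_of_commute (aeval_mem_adjoin_singleton F L) hD
    let e := Matrix.toLin b b D
    refine ⟨e 1, (Matrix.toLin b b).injective (LinearMap.ext fun x => ?_)⟩
    have h := congrArg (fun T => Matrix.toLin b b T 1) (hall x).eq
    simp only [Matrix.toLin_mul b b b, LinearMap.comp_apply] at h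
    have hφ : ∀ z, Matrix.toLin b b (φ z) = Algebra.lmul F _ z := fun z => by
      rw [show φ z = LinearMap.toMatrix b b (Algebra.lmul F _ z) from Algebra.leftMulMatrix_apply b z,
        Matrix.toLin_toMatrix]
    simp only [hφ] at h
    rw [Algebra.coe_lmul_eq_mul, LinearMap.mul_apply', LinearMap.mul_apply', mul_one] at h
    rw [hφ]
    show e x = e 1 * x
    rw [h]
    exact mul_comm _ _
  set Gi : Matrix (Fin d) (Fin d) F := ((g⁻¹ : (Matrix (Fin d) (Fin d) F)ˣ) : Matrix (Fin d) (Fin d) F)
  have hGi : ∀ x : Matrix (Fin d) (Fin d) F, Gi * ((g : Matrix (Fin d) (Fin d) F) * x) = x := fun x =>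
    Units.inv_mul_cancel_left g x
  have conv : ∀ D : Matrix (Fin d) (Fin d) F, Commute D M → Commute (g * D * Gi) L := by
    intro D hD
    have hgM : (g : Matrix (Fin d) (Fin d) F) * M * Gi = L := by
      rw [hGM, Units.mul_inv_cancel_right]
    rw [← hgM]
    show _ = _
    simp only [mul_assoc, hGi]
    rw [← mul_assoc D, hD.eq, mul_assoc]
  obtain ⟨x, hx⟩ := key _ (conv E hE)
  obtain ⟨y, hy⟩ := key _ (conv E' hE')
  have h : Commute ((g : Matrix (Fin d) (Fin d) F) * E * Gi) (g * E' * Gi) := by
    rw [hx, hy]
    exact (Commute.all x y).map φ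
  have h2 : (g : Matrix (Fin d) (Fin d) F) * (E * E') * Gi = g * (E' * E) * Gi := by
    have := h.eq
    simp only [mul_assoc, hGi] at this ⊢
    exact this
  exact g.isUnit.mul_left_cancel (g⁻¹.isUnit.mul_right_cancel h2)

end Cfsg.Agent.GLSemi
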