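import Cfsg.Agent.Lib.GLSemisimple.DualPoly
import Cfsg.Agent.Lib.GLSemisimple.Commutant
import Cfsg.Agent.S2589

/-!
Semisimple classes of `Sp_{2n}(q)`.
-/

set_option autoImplicit false

namespace Cfsg.Agent.GLSemi

open Polynomial Matrix

variable {F : Type*} [Field F]

/-- Elements of `Sp_{2n}(q)` of order prime to `p` with equal characteristic polynomials are conjugate. -/
theorem sp_isConj [Fintype F] (p : ℕ) [Fact p.Prime] [CharP F p] {n : ℕ}
    (g h : ↥(Matrix.symplecticGroup (Fin n) F)) (hg : (orderOf g).Coprime p) (hh : (orderOf h).Coprime p)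
    (hc : (g : Matrix (Fin n ⊕ Fin n) (Fin n ⊕ Fin n) F).charpoly =
      (h : Matrix (Fin n ⊕ Fin n) (Fin n ⊕ Fin n) F).charpoly) : IsConj g h := by
  refine (S2589.result g h hg).mpr ?_
  have hN : ((orderOf g * orderOf h : ℕ) : F) ≠ 0 := fun h0 =>
    (Fact.out : p.Prime).coprime_iff_not_dvd.1 (Nat.Coprime.symm (hg.mul_left hh))
      ((CharP.cast_eq_zero_iff F p _).1 h0)
  obtain ⟨G, hG, hGg⟩ := exists_unit_conj hN
    (A := (g : Matrix (Fin n ⊕ Fin n) (Fin n ⊕ Fin n) F)) (B := (h : Matrix (Fin n ⊕ Fin n) (Fin n ⊕ Fin n) F))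
    (by rw [← SubmonoidClass.coe_pow, pow_mul, pow_orderOf_eq_one, one_pow]; rfl)
    (by rw [← SubmonoidClass.coe_pow, mul_comm, pow_mul, pow_orderOf_eq_one, one_pow]; rfl) hc
  exact ⟨hG.unit, hGg⟩

/-- Palindromic monic polynomials of degree `2n` with constant coefficient `1`. -/
def PalPoly (F : Type*) [Field F] (n : ℕ) : Set F[X] :=
  {P | P.Monic ∧ P.natDegree = 2 * n ∧ P.coeff 0 = 1 ∧ dual (RingHom.id F) P = P}

theorem charpoly_sp_mem {n : ℕ} {A : Matrix (Fin n ⊕ Fin n) (Fin n ⊕ Fin n) F}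
    (hA : A ∈ Matrix.symplecticGroup (Fin n) F) : A.charpoly ∈ PalPoly F n := by
  have hdet : A.det = 1 := SymplecticGroup.det_eq_one hA
  refine ⟨Matrix.charpoly_monic A, ?_, ?_, ?_⟩
  · rw [Matrix.charpoly_natDegree_eq_dim, Fintype.card_sum, Fintype.card_fin, two_mul]
  · have h := Matrix.det_eq_sign_charpoly_coeff A
    rw [hdet, Fintype.card_sum, Fintype.card_fin, Even.neg_one_pow ⟨n, rfl⟩, one_mul] at h
    exact h.symm
  · have hu : IsUnit A := by rw [Matrix.isUnit_iff_isUnit_det, hdet]; exact isUnit_one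
    rw [← charpoly_inv_transpose_map (RingHom.id F) A hu]
    have hJ : IsUnit (Matrix.J (Fin n) F) := by
      rw [Matrix.isUnit_iff_isUnit_det]
      exact Matrix.isUnit_det_J _ _
    obtain ⟨u, hu'⟩ := hJ
    have h := (SymplecticGroup.mem_iff' (A := A)).mp hA
    rw [← hu'] at h
    have hinv : (A.map (RingHom.id F))ᵀ * ((u : Matrix (Fin n ⊕ Fin n) (Fin n ⊕ Fin n) F) * A *
        ((u⁻¹ : (Matrix (Fin n ⊕ Fin n) (Fin n ⊕ Fin n) F)ˣ) : Matrix (Fin n ⊕ Fin n) (Fin n ⊕ Fin n) F)) = 1 := by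
      show Aᵀ * _ = 1
      rw [← mul_assoc, ← mul_assoc, h, Units.mul_inv]
    rw [Matrix.inv_eq_right_inv hinv, Matrix.coe_units_inv, Matrix.charpoly_units_conj]

theorem det_blocks_charpoly {n : ℕ} (C S Si : Matrix (Fin n) (Fin n) F) (hS : S * Si = 1) :
    (Matrix.fromBlocks C (-S) Si 0).charpoly =
      (((X : F[X]) ^ 2 + 1) • (1 : Matrix (Fin n) (Fin n) F[X]) - (X : F[X]) • C.map Polynomial.C).det := by
  have h1 : (Matrix.fromBlocks C (-S) Si 0).charmatrix * Matrix.fromBlocks ((X : F[X]) • 1) 0 (Si.map Polynomial.C) 1 =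
      Matrix.fromBlocks (((X : F[X]) ^ 2 + 1) • (1 : Matrix (Fin n) (Fin n) F[X]) - (X : F[X]) • C.map Polynomial.C)
        (S.map Polynomial.C) 0 ((X : F[X]) • 1) := by
    rw [Matrix.charmatrix_fromBlocks, Matrix.fromBlocks_multiply]
    have hSS : S.map Polynomial.C * Si.map Polynomial.C = 1 := by
      rw [← Matrix.map_mul, hS, Matrix.map_one _ (map_zero _) (map_one _)]
    have hchar : ∀ M : Matrix (Fin n) (Fin n) F, M.charmatrix = (X : F[X]) • (1 : Matrix (Fin n) (Fin n) F[X]) - M.map Polynomial.C := by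
      intro M
      ext i j
      by_cases h : i = j <;> simp [Matrix.charmatrix_apply, h]
    have hneg : (-S).map Polynomial.C = -(S.map Polynomial.C) := by ext i j; simp
    have h0 : (0 : Matrix (Fin n) (Fin n) F).map Polynomial.C = 0 := by ext i j; simp
    rw [hchar, hchar, hneg, h0]
    simp only [neg_neg, mul_zero, mul_one, zero_add, add_zero, sub_zero, hSS, Matrix.mul_smul, Matrix.smul_mul,
      one_mul, Matrix.neg_mul, neg_add_cancel, smul_sub, smul_smul, ← sq]
    congr 1
    · rw [add_smul, one_smul]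
      abel
    · rw [smul_neg, neg_add_cancel]
  have h2 := congrArg Matrix.det h1
  rw [Matrix.det_mul, Matrix.det_fromBlocks_zero₁₂, Matrix.det_fromBlocks_zero₂₁, Matrix.det_one, mul_one] at h2
  refine mul_right_cancel₀ ?_ h2
  rw [Matrix.det_smul, Matrix.det_one, mul_one]
  exact pow_ne_zero _ X_ne_zero

theorem exists_sym_companion {n : ℕ} {Q : F[X]} (hQ : Q.Monic) (hd : Q.natDegree = n) :
    ∃ C T : Matrix (Fin n) (Fin n) F, C.charpoly = Q ∧ Tᵀ = T ∧ IsUnit T ∧ Cᵀ * T = T * C := by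
  classical
  subst hd
  let pb := AdjoinRoot.powerBasis' hQ
  let b : Module.Basis (Fin Q.natDegree) F (AdjoinRoot Q) := pb.basis.reindex (finCongr (AdjoinRoot.powerBasis'_dim hQ))
  let C := Algebra.leftMulMatrix b (AdjoinRoot.root Q)
  let lam : AdjoinRoot Q → F := fun x => if h : 0 < Q.natDegree then b.repr x ⟨Q.natDegree - 1, by omega⟩ else 0
  have hlam : ∀ (a : Fin Q.natDegree → F) x, lam (x * ∑ k, a k • b k) = ∑ k, a k * lam (x * b k) := by
    intro a x
    simp only [lam]
    split_ifs with h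
    · simp [Finset.mul_sum, map_sum, Finsupp.coe_finsetSum, Finset.sum_apply]
    · simp
  let T : Matrix (Fin Q.natDegree) (Fin Q.natDegree) F := Matrix.of fun i j => lam (b i * b j)
  have hb : ∀ i, b i = AdjoinRoot.root Q ^ (i : ℕ) := fun i => by
    simp [b, pb, PowerBasis.coe_basis, AdjoinRoot.powerBasis'_gen]
  have hsymm : Tᵀ = T := by ext i j; simp [T, mul_comm]
  have hTC : ∀ i j, (T * C) i j = lam (b i * (AdjoinRoot.root Q * b j)) := by
    intro i j
    conv_rhs => rw [← b.sum_repr (AdjoinRoot.root Q * b j)]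
    rw [hlam, Matrix.mul_apply]
    exact Finset.sum_congr rfl fun k _ => by
      rw [show C k j = b.repr (AdjoinRoot.root Q * b j) k from Algebra.leftMulMatrix_eq_repr_mul b _ k j, mul_comm]
      rfl
  refine ⟨C, T, ?_, hsymm, ?_, ?_⟩
  · have h1 : C = Matrix.reindex (finCongr (AdjoinRoot.powerBasis'_dim hQ)) (finCongr (AdjoinRoot.powerBasis'_dim hQ))
        (Algebra.leftMulMatrix pb.basis (AdjoinRoot.root Q)) := by
      ext i j
      simp [C, b, Algebra.leftMulMatrix_apply, LinearMap.toMatrix_apply]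
    rw [h1, Matrix.charpoly_reindex]
    show (Algebra.leftMulMatrix pb.basis (AdjoinRoot.root Q)).charpoly = Q
    rw [← AdjoinRoot.powerBasis'_gen hQ, charpoly_leftMulMatrix, AdjoinRoot.powerBasis'_gen,
      AdjoinRoot.minpoly_root hQ.ne_zero, hQ.leadingCoeff, inv_one, map_one, mul_one]
  · refine Matrix.mulVec_injective_iff_isUnit.mp fun v w hvw => ?_
    by_contra hne
    set a := v - w with ha
    have haT : T *ᵥ a = 0 := by rw [ha, Matrix.mulVec_sub, hvw, sub_self]
    have hne' : (Finset.univ.filter fun k => a k ≠ 0).Nonempty := by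
      by_contra h
      rw [Finset.not_nonempty_iff_eq_empty, Finset.filter_eq_empty_iff] at h
      exact hne (sub_eq_zero.mp (funext fun k => not_not.mp (h (Finset.mem_univ k))))
    set j := (Finset.univ.filter fun k => a k ≠ 0).max' hne' with hj
    have hja : a j ≠ 0 := (Finset.mem_filter.mp (Finset.max'_mem _ hne')).2
    have hpos : 0 < Q.natDegree := lt_of_le_of_lt (Nat.zero_le _) j.isLt
    have h := congrFun haT j.rev
    rw [Matrix.mulVec, dotProduct, Pi.zero_apply, Finset.sum_eq_single j] at h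
    · apply hja
      have hone : T j.rev j = 1 := by
        have hbb : b j.rev * b j = b ⟨Q.natDegree - 1, by omega⟩ := by
          rw [hb, hb, hb, ← pow_add]
          congr 1
          simp only [Fin.val_rev]
          omega
        show lam (b j.rev * b j) = 1
        simp only [lam, dif_pos hpos, hbb, Module.Basis.repr_self, Finsupp.single_eq_same]
      rwa [hone, one_mul] at h
    · intro k _ hk
      rcases lt_or_gt_of_ne hk with hlt | hgt
      · have hlt' : (k : ℕ) < j := hlt
        have hbb : b j.rev * b k = b ⟨(j.rev : ℕ) + k, by rw [Fin.val_rev]; omega⟩ := by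
          rw [hb, hb, hb, ← pow_add]
        have hzero : T j.rev k = 0 := by
          show lam (b j.rev * b k) = 0
          simp only [lam, dif_pos hpos, hbb, Module.Basis.repr_self]
          exact Finsupp.single_eq_of_ne (by simp only [Ne, Fin.ext_iff, Fin.val_rev]; omega)
        rw [hzero, zero_mul]
      · have : a k = 0 := by
          by_contra hak
          exact absurd ((Finset.univ.filter fun k => a k ≠ 0).le_max' k (by simp [hak])) (not_le.mpr hgt)
        rw [this, mul_zero]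
    · exact fun h' => absurd (Finset.mem_univ j) h'
  · ext i j
    have h1 : (Cᵀ * T) i j = (T * C) j i := by
      rw [← Matrix.transpose_apply (T * C), Matrix.transpose_mul, hsymm]
    rw [h1, hTC, hTC]
    congr 1
    ring

theorem exists_sp_charpoly [Fintype F] (p : ℕ) [Fact p.Prime] [CharP F p] {n : ℕ} {Q : F[X]} (hQ : Q.Monic)
    (hd : Q.natDegree = n) :
    ∃ (g : ↥(Matrix.symplecticGroup (Fin n) F)) (C : Matrix (Fin n) (Fin n) F), (orderOf g).Coprime p ∧
      C.charpoly = Q ∧ (g : Matrix (Fin n ⊕ Fin n) (Fin n ⊕ Fin n) F).charpoly =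
        (((X : F[X]) ^ 2 + 1) • (1 : Matrix (Fin n) (Fin n) F[X]) - (X : F[X]) • C.map Polynomial.C).det := by
  obtain ⟨C, T, hC, hT, hTu, hCT⟩ := exists_sym_companion hQ hd
  have hdet := (Matrix.isUnit_iff_isUnit_det T).mp hTu
  have hS : T⁻¹ * T = 1 := Matrix.nonsing_inv_mul T hdet
  have hS' : T * T⁻¹ = 1 := Matrix.mul_nonsing_inv T hdet
  have hmem : Matrix.fromBlocks C (-T⁻¹) T 0 ∈ Matrix.symplecticGroup (Fin n) F := by
    rw [SymplecticGroup.mem_iff', Matrix.J, Matrix.fromBlocks_transpose, Matrix.fromBlocks_multiply,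
      Matrix.fromBlocks_multiply]
    simp [Matrix.transpose_nonsing_inv, hT, hS, hS', hCT]
  let g₀ : ↥(Matrix.symplecticGroup (Fin n) F) := ⟨_, hmem⟩
  obtain ⟨a, m, hm, ham⟩ := Nat.exists_eq_pow_mul_and_not_dvd (orderOf_pos g₀).ne' p (Fact.out : p.Prime).ne_one
  obtain ⟨f, -, hf⟩ := FiniteField.card F p
  refine ⟨g₀ ^ Fintype.card F ^ a, C, ?_, hC, ?_⟩
  · have hdvd : orderOf (g₀ ^ Fintype.card F ^ a) ∣ m := by
      rw [orderOf_dvd_iff_pow_eq_one, ← pow_mul, ← orderOf_dvd_iff_pow_eq_one, ham]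
      exact mul_dvd_mul_right (pow_dvd_pow_of_dvd (hf ▸ dvd_pow_self p f.ne_zero) a) m
    exact Nat.Coprime.coprime_dvd_left hdvd (((Fact.out : p.Prime).coprime_iff_not_dvd.2 hm).symm)
  · rw [SubmonoidClass.coe_pow, ← det_blocks_charpoly C T⁻¹ T hS]
    clear hm ham
    induction a with
    | zero => rw [pow_zero, pow_one]
    | succ a ih => rw [pow_succ, pow_mul, FiniteField.Matrix.charpoly_pow_card, ih]


theorem det_subst_injective {n : ℕ} {C D : Matrix (Fin n) (Fin n) F}
    (h : (((X : F[X]) ^ 2 + 1) • (1 : Matrix (Fin n) (Fin n) F[X]) - (X : F[X]) • C.map Polynomial.C).det =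
      (((X : F[X]) ^ 2 + 1) • (1 : Matrix (Fin n) (Fin n) F[X]) - (X : F[X]) • D.map Polynomial.C).det) :
    C.charpoly = D.charpoly := by
  apply Polynomial.map_injective (algebraMap F (AlgebraicClosure F)) (algebraMap F (AlgebraicClosure F)).injective
  rw [← Matrix.charpoly_map, ← Matrix.charpoly_map]
  apply Polynomial.funext
  intro y
  obtain ⟨x, hx⟩ := IsAlgClosed.exists_root (X ^ 2 - Polynomial.C y * X + 1 : (AlgebraicClosure F)[X])
    (by
      have : (X ^ 2 - Polynomial.C y * X + 1 : (AlgebraicClosure F)[X]).natDegree = 2 := by compute_degree!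
      intro h0
      rw [natDegree_eq_zero_iff_degree_le_zero.mpr h0.le] at this
      omega)
  simp only [IsRoot, eval_add, eval_sub, eval_pow, eval_X, eval_mul, eval_C, eval_one] at hx
  have hx0 : x ≠ 0 := by rintro rfl; simp at hx
  have key : ∀ M : Matrix (Fin n) (Fin n) F,
      aeval x (((X : F[X]) ^ 2 + 1) • (1 : Matrix (Fin n) (Fin n) F[X]) - (X : F[X]) • M.map Polynomial.C).det =
        x ^ n * (M.map (algebraMap F (AlgebraicClosure F))).charpoly.eval y := by
    intro M
    rw [AlgHom.map_det, Matrix.eval_charpoly]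
    have hM : (aeval x).mapMatrix
        (((X : F[X]) ^ 2 + 1) • (1 : Matrix (Fin n) (Fin n) F[X]) - (X : F[X]) • M.map Polynomial.C) =
        x • (Matrix.scalar (Fin n) y - M.map (algebraMap F (AlgebraicClosure F))) := by
      ext i j
      by_cases hij : i = j
      · subst hij
        simp [aeval_C, mul_sub]
        linear_combination hx
      · simp [aeval_C, hij]
        ring
    rw [hM, Matrix.det_smul, Fintype.card_fin]
  have h2 := congrArg (aeval x) h
  rw [key, key] at h2
  exact mul_left_cancel₀ (pow_ne_zero _ hx0) h2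

theorem card_palPoly_le [Finite F] (n : ℕ) :
    Finite ↥(PalPoly F n) ∧ Nat.card ↥(PalPoly F n) ≤ Nat.card F ^ n := by
  let f : ↥(PalPoly F n) → (Fin n → F) := fun P i => P.1.coeff ((i : ℕ) + 1)
  have hinj : Function.Injective f := by
    rintro ⟨P, hP, hPd, hP0, hPs⟩ ⟨R, hR, hRd, hR0, hRs⟩ h
    apply Subtype.ext
    show P = R
    have key : ∀ {S : F[X]}, S.coeff 0 = 1 → S.natDegree = 2 * n → dual (RingHom.id F) S = S → ∀ k,
        S.coeff k = S.coeff (revAt (2 * n) k) := by
      intro S h0 hdS hs k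
      conv_lhs => rw [← hs, coeff_dual, h0, hdS]
      simp
    have low : ∀ k, k ≤ n → P.coeff k = R.coeff k := by
      intro k hk
      rcases Nat.eq_zero_or_pos k with rfl | hk0
      · rw [hP0, hR0]
      · have := congrFun h ⟨k - 1, by omega⟩
        simp only [f] at this
        rwa [show k - 1 + 1 = k by omega] at this
    ext k
    rcases Nat.lt_or_ge n k with hk | hk
    · rcases Nat.lt_or_ge (2 * n) k with hk2 | hk2
      · rw [coeff_eq_zero_of_natDegree_lt (by omega), coeff_eq_zero_of_natDegree_lt (by omega)]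
      · rw [key hP0 hPd hPs, key hR0 hRd hRs, revAt_le hk2]
        exact low _ (by omega)
    · exact low k hk
  refine ⟨Finite.of_injective f hinj, (Nat.card_le_card_of_injective f hinj).trans (le_of_eq ?_)⟩
  rw [Nat.card_fun, Nat.card_fin]

/-- The number of classes of elements of order prime to `p` in `Sp_{2n}(q)`. -/
theorem card_classes_Sp [Fintype F] (p : ℕ) [Fact p.Prime] [CharP F p] (n : ℕ) :
    Nat.card {c : ConjClasses ↥(Matrix.symplecticGroup (Fin n) F) //
      ∃ g : ↥(Matrix.symplecticGroup (Fin n) F), ConjClasses.mk g = c ∧ (orderOf g).Coprime p} =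
      Fintype.card F ^ n := by
  haveI := (card_palPoly_le (F := F) n).1
  let cp : ConjClasses ↥(Matrix.symplecticGroup (Fin n) F) → ↥(PalPoly F n) :=
    Quotient.lift (fun g => ⟨(g : Matrix (Fin n ⊕ Fin n) (Fin n ⊕ Fin n) F).charpoly, charpoly_sp_mem g.2⟩)
      (fun g h hgh => by
        obtain ⟨x, hx⟩ := isConj_iff.mp hgh
        apply Subtype.ext
        rw [← hx]
        show _ = ((x : Matrix (Fin n ⊕ Fin n) (Fin n ⊕ Fin n) F) * (g : Matrix (Fin n ⊕ Fin n) (Fin n ⊕ Fin n) F) *
          ((x⁻¹ : ↥(Matrix.symplecticGroup (Fin n) F)) : Matrix (Fin n ⊕ Fin n) (Fin n ⊕ Fin n) F)).charpoly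
        have h1 : ((x⁻¹ : ↥(Matrix.symplecticGroup (Fin n) F)) : Matrix (Fin n ⊕ Fin n) (Fin n ⊕ Fin n) F) *
            (x : Matrix (Fin n ⊕ Fin n) (Fin n ⊕ Fin n) F) = 1 := congrArg Subtype.val (inv_mul_cancel x)
        rw [Matrix.charpoly_mul_comm, ← mul_assoc, h1, one_mul])
  have hinj : Function.Injective (fun c : {c : ConjClasses ↥(Matrix.symplecticGroup (Fin n) F) //
      ∃ g : ↥(Matrix.symplecticGroup (Fin n) F), ConjClasses.mk g = c ∧ (orderOf g).Coprime p} => cp c.1) := by
    rintro ⟨_, g, rfl, hg⟩ ⟨_, h, rfl, hh⟩ heq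
    exact Subtype.ext (ConjClasses.mk_eq_mk_iff_isConj.mpr (sp_isConj p g h hg hh (congrArg Subtype.val heq)))
  choose g C hg hC hgC using fun Q : {Q : F[X] // Q.Monic ∧ Q.natDegree = n} =>
    exists_sp_charpoly p Q.2.1 Q.2.2
  let emb : {Q : F[X] // Q.Monic ∧ Q.natDegree = n} → {c : ConjClasses ↥(Matrix.symplecticGroup (Fin n) F) //
      ∃ g : ↥(Matrix.symplecticGroup (Fin n) F), ConjClasses.mk g = c ∧ (orderOf g).Coprime p} :=
    fun Q => ⟨ConjClasses.mk (g Q), g Q, rfl, hg Q⟩
  have hemb : Function.Injective emb := by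
    intro Q R hQR
    have h : ((g Q : ↥(Matrix.symplecticGroup (Fin n) F)) : Matrix (Fin n ⊕ Fin n) (Fin n ⊕ Fin n) F).charpoly =
        (g R : Matrix (Fin n ⊕ Fin n) (Fin n ⊕ Fin n) F).charpoly :=
      congrArg (fun c => (cp c.1).1) hQR
    rw [hgC, hgC] at h
    have h' := det_subst_injective h
    rw [hC, hC] at h'
    exact Subtype.ext h'
  have hmon : Nat.card {Q : F[X] // Q.Monic ∧ Q.natDegree = n} = Fintype.card F ^ n := by
    rw [Nat.card_congr ((monicEquivDegreeLT n).trans (degreeLTEquiv F n).toEquiv), Nat.card_fun, Nat.card_fin,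
      Nat.card_eq_fintype_card]
  refine le_antisymm ?_ (hmon ▸ Nat.card_le_card_of_injective emb hemb)
  exact (Nat.card_le_card_of_injective _ hinj).trans ((card_palPoly_le n).2.trans_eq (by rw [Nat.card_eq_fintype_card]))

end Cfsg.Agent.GLSemi
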