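import Cfsg.Agent.Lib.GLSemisimple.DualPoly
import Cfsg.Agent.Lib.GLSemisimple.Commutant
import Cfsg.Agent.Forms59.UnitaryConj
import Cfsg.Agent.Lib.Forms.Witt

/-!
Semisimple unitary matrices: conjugacy, existence, determinants on centralisers, and self-dual polynomials.
-/

set_option autoImplicit false

namespace Cfsg.Agent.GLSemi

open Polynomial Matrix

variable {F : Type*} [Field F] [StarRing F]

local notation "σ" => starRingEnd F

theorem conjTranspose_eq_map {ι : Type*} (M : Matrix ι ι F) : Mᴴ = (M.map σ)ᵀ := rfl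

theorem dual_charpoly_of_unitary {ι : Type*} [Fintype ι] [DecidableEq ι] {M : Matrix ι ι F} (hM : Mᴴ * M = 1) :
    dual σ M.charpoly = M.charpoly := by
  have hu : IsUnit M := IsUnit.of_mul_eq_one_right Mᴴ hM
  rw [← charpoly_inv_transpose_map σ M hu, ← conjTranspose_eq_map, Matrix.inv_eq_right_inv hM]

theorem charpoly_coeff_zero_ne {ι : Type*} [Fintype ι] [DecidableEq ι] {M : Matrix ι ι F} (hM : IsUnit M) :
    M.charpoly.coeff 0 ≠ 0 := by
  have h := (Matrix.isUnit_iff_isUnit_det M).mp hM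
  rw [Matrix.det_eq_sign_charpoly_coeff] at h
  exact right_ne_zero_of_mul h.ne_zero

variable [Fintype F] (θ : F) (hθ : star θ ≠ θ)

include θ hθ

/-- Similar unitary matrices are conjugate by a unitary matrix. -/
theorem exists_unitary_conj {ι : Type*} [Fintype ι] [DecidableEq ι] {A B G : Matrix ι ι F} (hA : Aᴴ * A = 1)
    (hB : Bᴴ * B = 1) (hG : IsUnit G) (h : G * A = B * G) :
    ∃ Y : Matrix ι ι F, Yᴴ * Y = 1 ∧ Y * A = B * Y := by
  have hinv : Aᴴ * (Gᴴ * G) * A = Gᴴ * G := by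
    calc Aᴴ * (Gᴴ * G) * A = (G * A)ᴴ * (G * A) := by rw [conjTranspose_mul]; simp only [mul_assoc]
      _ = Gᴴ * (Bᴴ * B) * G := by rw [h, conjTranspose_mul]; simp only [mul_assoc]
      _ = Gᴴ * G := by rw [hB, mul_one]
  have hcomm : Commute A (Gᴴ * G) := by
    show A * (Gᴴ * G) = (Gᴴ * G) * A
    conv_lhs => rw [← hinv, ← mul_assoc, ← mul_assoc, mul_eq_one_comm.1 hA, one_mul]
  obtain ⟨c, hc, hcc, hcA⟩ := Forms59.exists_conjTranspose_mul_eq θ hθ (Gᴴ * G)
    (by rw [conjTranspose_mul, conjTranspose_conjTranspose]) (hG.star.mul hG)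
  obtain ⟨u, rfl⟩ := hc
  refine ⟨G * (↑u⁻¹ : Matrix ι ι F), ?_, ?_⟩
  · calc (G * (↑u⁻¹ : Matrix ι ι F))ᴴ * (G * ↑u⁻¹) = (↑u⁻¹ : Matrix ι ι F)ᴴ * (Gᴴ * G) * ↑u⁻¹ := by
          rw [conjTranspose_mul]; simp only [mul_assoc]
      _ = ((u : Matrix ι ι F) * ↑u⁻¹)ᴴ * ((u : Matrix ι ι F) * ↑u⁻¹) := by
          rw [← hcc, conjTranspose_mul]; simp only [mul_assoc]
      _ = 1 := by rw [Units.mul_inv, conjTranspose_one, one_mul]
  · rw [mul_assoc, ← ((hcA A hcomm).units_inv_right).eq, ← mul_assoc, h, mul_assoc]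

/-- Semisimple unitary matrices with the same characteristic polynomial are conjugate in the unitary group. -/
theorem exists_unitary_conj_of_charpoly {ι : Type*} [Fintype ι] [DecidableEq ι] {N : ℕ} (hN : (N : F) ≠ 0)
    {A B : Matrix ι ι F} (hA : Aᴴ * A = 1) (hB : Bᴴ * B = 1) (hAN : A ^ N = 1) (hBN : B ^ N = 1)
    (hc : A.charpoly = B.charpoly) : ∃ Y : Matrix ι ι F, Yᴴ * Y = 1 ∧ Y * A = B * Y := by
  obtain ⟨G, hG, h⟩ := exists_unit_conj hN hAN hBN hc
  exact exists_unitary_conj θ hθ hA hB hG h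

/-- Every admissible self-dual polynomial is the characteristic polynomial of a unitary matrix. -/
theorem exists_unitary_charpoly {N : ℕ} (hN : (N : F) ≠ 0) {d : ℕ} {P : F[X]} (hP : P ∈ AdmPoly F d N)
    (hd : dual σ P = P) : ∃ M : Matrix (Fin d) (Fin d) F, Mᴴ * M = 1 ∧ M ^ N = 1 ∧ M.charpoly = P := by
  obtain ⟨M, hMc, hMN⟩ := exists_matrix_pow_eq_one N d P hP.1 hP.2.1 hP.2.2
  have hN0 : N ≠ 0 := fun h => hN (by rw [h, Nat.cast_zero])
  have hu : IsUnit M := IsUnit.of_pow_eq_one hMN hN0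
  have hu' : IsUnit Mᴴ := hu.star
  have hdet : IsUnit (Mᴴ).det := (Matrix.isUnit_iff_isUnit_det _).mp hu'
  have hc' : (Mᴴ⁻¹).charpoly = M.charpoly := by
    rw [conjTranspose_eq_map, charpoly_inv_transpose_map σ M hu, hMc, hd]
  have hN' : (Mᴴ⁻¹) ^ N = 1 := by
    rw [Matrix.inv_pow', ← conjTranspose_pow, hMN, conjTranspose_one, inv_one]
  obtain ⟨G, hG, h⟩ := exists_unit_conj hN hMN hN' hc'.symm
  have hinv : Mᴴ * G * M = G := by
    rw [mul_assoc, h, ← mul_assoc, Matrix.mul_nonsing_inv _ hdet, one_mul]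
  obtain ⟨H, hHu, hH, hHA⟩ := Forms59.exists_hermitian_invariant θ hθ M G hu hG hinv
  obtain ⟨c, hc, hcc, -⟩ := Forms59.exists_conjTranspose_mul_eq θ hθ H hH hHu
  obtain ⟨u, rfl⟩ := hc
  set Ui : Matrix (Fin d) (Fin d) F := ((u⁻¹ : (Matrix (Fin d) (Fin d) F)ˣ) : Matrix (Fin d) (Fin d) F) with hUi
  refine ⟨(u : Matrix (Fin d) (Fin d) F) * M * Ui, ?_, ?_, ?_⟩
  · calc ((u : Matrix (Fin d) (Fin d) F) * M * Ui)ᴴ * ((u : Matrix (Fin d) (Fin d) F) * M * Ui)
        = Uiᴴ * (Mᴴ * ((u : Matrix (Fin d) (Fin d) F)ᴴ * u) * M) * Ui := by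
          simp only [conjTranspose_mul, mul_assoc]
      _ = Uiᴴ * ((u : Matrix (Fin d) (Fin d) F)ᴴ * u) * Ui := by rw [hcc, hHA]
      _ = ((u : Matrix (Fin d) (Fin d) F) * Ui)ᴴ * ((u : Matrix (Fin d) (Fin d) F) * Ui) := by
          rw [conjTranspose_mul]; simp only [mul_assoc]
      _ = 1 := by rw [hUi, Units.mul_inv, conjTranspose_one, one_mul]
  · rw [hUi, Units.conj_pow, hMN, mul_one, Units.mul_inv]
  · rw [hUi, Matrix.coe_units_inv, Matrix.charpoly_units_conj, hMc]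

/-- The determinant maps the unitary centraliser of a semisimple unitary matrix onto the norm-one scalars. -/
theorem exists_unitary_commute_det {n N : ℕ} (hn : 0 < n) (hN : (N : F) ≠ 0) {A : Matrix (Fin n) (Fin n) F}
    (hA : Aᴴ * A = 1) (hAN : A ^ N = 1) {δ : F} (hδ : δ * star δ = 1) :
    ∃ Z : Matrix (Fin n) (Fin n) F, Zᴴ * Z = 1 ∧ Z * A = A * Z ∧ Z.det = δ := by
  classical
  have hss : ∀ a : F, σ (σ a) = a := star_star
  have hP : A.charpoly.Monic := Matrix.charpoly_monic A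
  have hdeg : A.charpoly.natDegree = n := (Matrix.charpoly_natDegree_eq_dim A).trans (Fintype.card_fin n)
  obtain ⟨s, P', hs, hP', hsd, hP'd, hspos, hsP, hsq⟩ := exists_selfDual_factor σ hss hP
    (charpoly_coeff_zero_ne (IsUnit.of_mul_eq_one_right Aᴴ hA)) (dual_charpoly_of_unitary hA) (by omega)
  have hadm : ∀ Q : F[X], Q.Monic → Q ∣ A.charpoly → Q ∈ AdmPoly F Q.natDegree N := fun Q hQ hQd =>
    ⟨hQ, rfl, fun f hf hfQ => factor_dvd_of_pow_eq_one hAN hf (hfQ.trans hQd)⟩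
  obtain ⟨M₁, hM₁, hM₁N, hM₁c⟩ := exists_unitary_charpoly θ hθ hN (hadm s hs (hsP ▸ dvd_mul_right s P')) hsd
  obtain ⟨M₂, hM₂, hM₂N, hM₂c⟩ := exists_unitary_charpoly θ hθ hN (hadm P' hP' (hsP ▸ dvd_mul_left P' s)) hP'd
  -- a commuting element of the first block
  obtain ⟨γ, hγ, hγδ⟩ := Forms59.hilbert90_finite σ hss θ (isUnit_iff_ne_zero.2 (sub_ne_zero.2 (Ne.symm hθ))) δ hδ
  obtain ⟨c, hcM, hcdet⟩ := exists_commuting_det_eq (V := Fin s.natDegree → F) (by simpa using hspos) (Matrix.toLin' M₁)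
    (isSemisimple_of_pow_eq_one hN hM₁N) γ
  set C := LinearMap.toMatrix' c with hC
  have hCM : Commute C M₁ := Matrix.toLin'.injective (by
    rw [Matrix.toLin'_mul, Matrix.toLin'_mul, hC, Matrix.toLin'_toMatrix']
    exact hcM.eq)
  have hCdet : C.det = γ := by rw [hC, LinearMap.det_toMatrix', hcdet]
  have hCu : IsUnit C := by rw [Matrix.isUnit_iff_isUnit_det, hCdet]; exact hγ
  have hM₁' : M₁ * M₁ᴴ = 1 := mul_eq_one_comm.1 hM₁
  have hCHM : Commute Cᴴ M₁ := by
    have h1 : M₁ᴴ * Cᴴ = Cᴴ * M₁ᴴ := by rw [← conjTranspose_mul, ← conjTranspose_mul, hCM.eq]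
    show Cᴴ * M₁ = M₁ * Cᴴ
    calc Cᴴ * M₁ = (M₁ * M₁ᴴ) * (Cᴴ * M₁) := by rw [hM₁', one_mul]
      _ = M₁ * (Cᴴ * M₁ᴴ) * M₁ := by rw [← h1]; simp only [mul_assoc]
      _ = M₁ * Cᴴ := by rw [mul_assoc M₁, mul_assoc Cᴴ, hM₁, mul_one]
  have hnor : Commute C Cᴴ := commute_of_squarefree hN hM₁N (by rw [hM₁c]; exact hsq) hCM hCHM
  obtain ⟨u, hu⟩ := hCu
  set Ui : Matrix (Fin s.natDegree) (Fin s.natDegree) F :=
    ((u⁻¹ : (Matrix (Fin s.natDegree) (Fin s.natDegree) F)ˣ) : Matrix (Fin s.natDegree) (Fin s.natDegree) F) with hUi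
  have hUC : Ui * C = 1 := by rw [hUi, ← hu]; exact u.inv_mul
  have hCU : C * Ui = 1 := mul_eq_one_comm.1 hUC
  have hUH : Commute Ui Cᴴ := by
    have := (show Commute (u : Matrix (Fin s.natDegree) (Fin s.natDegree) F) Cᴴ by rw [hu]; exact hnor).units_inv_left
    exact this
  let Z₁ := C * Uiᴴ
  have hZ₁ : Z₁ᴴ * Z₁ = 1 := by
    show (C * Uiᴴ)ᴴ * (C * Uiᴴ) = 1
    rw [conjTranspose_mul, conjTranspose_conjTranspose, ← mul_assoc (Ui * Cᴴ), mul_assoc Ui, ← hnor.eq,
      ← mul_assoc Ui, hUC, one_mul, ← conjTranspose_mul, hUC, conjTranspose_one]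
  have hUHM : Commute Uiᴴ M₁ := by
    have h1 : Uiᴴ * Cᴴ = 1 := by rw [← conjTranspose_mul, hCU, conjTranspose_one]
    show Uiᴴ * M₁ = M₁ * Uiᴴ
    calc Uiᴴ * M₁ = Uiᴴ * M₁ * (Cᴴ * Uiᴴ) := by rw [mul_eq_one_comm.1 h1, mul_one]
      _ = Uiᴴ * Cᴴ * M₁ * Uiᴴ := by rw [mul_assoc Uiᴴ Cᴴ, hCHM.eq]; simp only [mul_assoc]
      _ = M₁ * Uiᴴ := by rw [h1, one_mul]
  have hZ₁M : Commute Z₁ M₁ := hCM.mul_left hUHM
  have hZ₁det : Z₁.det = δ := by
    have hUdet : γ * Ui.det = 1 := by rw [← hCdet, ← Matrix.det_mul, hCU, Matrix.det_one]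
    show (C * Uiᴴ).det = δ
    rw [Matrix.det_mul, hCdet, Matrix.det_conjTranspose]
    have h1 : star γ * star Ui.det = 1 := by rw [← star_mul', hUdet, star_one]
    calc γ * star Ui.det = δ * star γ * star Ui.det := by
          rw [show δ * star γ = γ from hγδ]
      _ = δ := by rw [mul_assoc, h1, mul_one]
  have hdsum : s.natDegree + P'.natDegree = n := by rw [← hs.natDegree_mul hP', ← hsP, hdeg]
  let e : Fin s.natDegree ⊕ Fin P'.natDegree ≃ Fin n := finSumFinEquiv.trans (finCongr hdsum)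
  let φ := Matrix.reindexAlgEquiv F F e
  have hφH : ∀ X, (φ X)ᴴ = φ Xᴴ := fun X => Matrix.conjTranspose_reindex e e X
  set D := φ (Matrix.fromBlocks M₁ 0 0 M₂)
  set Z₀ := φ (Matrix.fromBlocks Z₁ 0 0 1)
  have hD : Dᴴ * D = 1 := by
    rw [hφH, ← map_mul, Matrix.fromBlocks_conjTranspose, Matrix.fromBlocks_multiply]
    simp [hM₁, hM₂, Matrix.fromBlocks_one]
  have hZ₀ : Z₀ᴴ * Z₀ = 1 := by
    rw [hφH, ← map_mul, Matrix.fromBlocks_conjTranspose, Matrix.fromBlocks_multiply]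
    simp [hZ₁, Matrix.fromBlocks_one]
  have hZD : Z₀ * D = D * Z₀ := by
    rw [← map_mul, ← map_mul, Matrix.fromBlocks_multiply, Matrix.fromBlocks_multiply]
    simp [hZ₁M.eq]
  have hDN : D ^ N = 1 := by
    have hb : ∀ k : ℕ, (Matrix.fromBlocks M₁ 0 0 M₂) ^ k = Matrix.fromBlocks (M₁ ^ k) 0 0 (M₂ ^ k) := by
      intro k
      induction k with
      | zero => simp [Matrix.fromBlocks_one]
      | succ k ihk => simp [pow_succ, ihk, Matrix.fromBlocks_multiply]
    rw [← map_pow, hb, hM₁N, hM₂N, Matrix.fromBlocks_one, map_one]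
  have hDc : A.charpoly = D.charpoly := by
    rw [show D = Matrix.reindex e e (Matrix.fromBlocks M₁ 0 0 M₂) from rfl, Matrix.charpoly_reindex,
      Matrix.charpoly_fromBlocks_zero₁₂, hM₁c, hM₂c, hsP]
  obtain ⟨Y, hY, hYD⟩ := exists_unitary_conj_of_charpoly θ hθ hN hD hA hDN hAN hDc.symm
  have hY' : Y * Yᴴ = 1 := mul_eq_one_comm.1 hY
  have hAeq : A = Y * D * Yᴴ := by rw [hYD, mul_assoc, hY', mul_one]
  have hconj : ∀ X X', Y * X * Yᴴ * (Y * X' * Yᴴ) = Y * (X * X') * Yᴴ := fun X X' => by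
    rw [← mul_assoc (Y * X * Yᴴ), ← mul_assoc (Y * X * Yᴴ), mul_assoc (Y * X) Yᴴ Y, hY, mul_one, mul_assoc Y X X']
  refine ⟨Y * Z₀ * Yᴴ, ?_, ?_, ?_⟩
  · rw [show (Y * Z₀ * Yᴴ)ᴴ = Y * Z₀ᴴ * Yᴴ by
      rw [conjTranspose_mul, conjTranspose_mul, conjTranspose_conjTranspose, mul_assoc], hconj, hZ₀, mul_one, hY']
  · rw [hAeq, hconj, hconj, hZD]
  · rw [mul_assoc, Matrix.det_mul_comm, mul_assoc, hY, mul_one,
      show Z₀ = Matrix.reindex e e (Matrix.fromBlocks Z₁ 0 0 1) from rfl, Matrix.det_reindex_self,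
      Matrix.det_fromBlocks_zero₂₁, hZ₁det, Matrix.det_one, mul_one]

/-- The number of fixed vectors of a semilinear involution `a ↦ c • star (a ∘ rev)` on `F^m`. -/
theorem card_fixed_rev {m : ℕ} {c : F} (hc : c * star c = 1) :
    Nat.card {a : Fin m → F // ∀ i, c * star (a i.rev) = a i} ^ 2 = Fintype.card F ^ m := by
  let T : (Fin m → F) →+ (Fin m → F) :=
    { toFun := fun a i => c * star (a i.rev)
      map_zero' := by funext i; simp
      map_add' := fun a b => by funext i; simp [mul_add] }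
  have hTT : ∀ a, T (T a) = a := by
    intro a
    funext i
    show c * star (c * star (a i.rev.rev)) = a i
    rw [Fin.rev_rev, star_mul', star_star, ← mul_assoc, hc, one_mul]
  have hsmul : ∀ (r : F) a, T (r • a) = star r • T a := fun r a => by
    funext i
    show c * star (r * a i.rev) = star r * (c * star (a i.rev))
    rw [star_mul']
    ring
  let S : (Fin m → F) →+ (Fin m → F) := AddMonoidHom.id _ + T
  have hσ : σ ≠ RingHom.id F := fun h => hθ (RingHom.congr_fun h θ)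
  obtain ⟨y, hy⟩ := Forms.exists_trace_eq hσ star_star (map_one σ)
  have hη : star (θ - star θ) = -(θ - star θ) := by rw [star_sub, star_star, neg_sub]
  have hη0 : θ - star θ ≠ 0 := sub_ne_zero.2 (Ne.symm hθ)
  have hrange : Nat.card S.range = Nat.card {a : Fin m → F // ∀ i, c * star (a i.rev) = a i} := by
    refine Nat.card_congr (Equiv.subtypeEquivRight fun a => ⟨?_, fun ha => ?_⟩)
    · rintro ⟨b, rfl⟩ i
      show T (b + T b) i = (b + T b) i
      rw [map_add, hTT, add_comm]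
    · refine ⟨y • a, ?_⟩
      show y • a + T (y • a) = a
      rw [hsmul, show T a = a from funext ha, ← add_smul, show y + star y = 1 from hy, one_smul]
  have hker : Nat.card S.ker = Nat.card {a : Fin m → F // ∀ i, c * star (a i.rev) = a i} := by
    refine Nat.card_congr (Equiv.subtypeEquiv
      ⟨fun a => (θ - star θ) • a, fun a => (θ - star θ)⁻¹ • a, fun a => by simp [smul_smul, inv_mul_cancel₀ hη0],
        fun a => by simp [smul_smul, mul_inv_cancel₀ hη0]⟩ fun a => ?_)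
    show a + T a = 0 ↔ ∀ i, T ((θ - star θ) • a) i = ((θ - star θ) • a) i
    rw [← funext_iff, hsmul, hη, neg_smul, ← smul_neg, (smul_right_injective _ hη0).eq_iff]
    exact ⟨fun h => neg_eq_of_add_eq_zero_left h, fun h => add_eq_zero_iff_eq_neg.mpr h.symm⟩
  have h := AddSubgroup.card_eq_card_quotient_mul_card_addSubgroup S.ker
  rw [Nat.card_congr (QuotientAddGroup.quotientKerEquivRange S).toEquiv, hker, hrange, Nat.card_fun,
    Nat.card_eq_fintype_card (α := F), Nat.card_fin] at h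
  rw [h, sq]

/-- The number of self-dual monic polynomials of degree `m + 1` with given constant coefficient. -/
theorem card_selfDual {m : ℕ} {c : F} (hc : c * star c = 1) :
    Nat.card {P : F[X] // P.Monic ∧ P.natDegree = m + 1 ∧ P.coeff 0 = c ∧ dual σ P = P} ^ 2 =
      Fintype.card F ^ m := by
  have hc0 : c ≠ 0 := left_ne_zero_of_mul_eq_one hc
  have hcinv : (σ c)⁻¹ = c := inv_eq_of_mul_eq_one_left hc
  rw [← card_fixed_rev θ hθ (m := m) hc]
  congr 1
  let mk : (Fin m → F) → F[X] := fun a => X ^ (m + 1) + (C c + ∑ i : Fin m, C (a i) * X ^ ((i : ℕ) + 1))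
  have hdegr : ∀ a : Fin m → F, (C c + ∑ i : Fin m, C (a i) * X ^ ((i : ℕ) + 1)).degree < ((m + 1 : ℕ) : WithBot ℕ) := by
    intro a
    rw [degree_lt_iff_coeff_zero]
    intro k hk
    rw [coeff_add, coeff_C, if_neg (by omega), zero_add, finsetSum_coeff]
    refine Finset.sum_eq_zero fun i _ => ?_
    rw [coeff_C_mul_X_pow, if_neg (by omega)]
  have hmonic : ∀ a, (mk a).Monic := fun a => monic_X_pow_add (hdegr a)
  have hnat : ∀ a, (mk a).natDegree = m + 1 := fun a => by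
    apply natDegree_eq_of_degree_eq_some
    rw [degree_add_eq_left_of_degree_lt (by rw [degree_X_pow]; exact hdegr a), degree_X_pow]
  have h0 : ∀ a, (mk a).coeff 0 = c := fun a => by
    simp [mk, coeff_X_pow]
  have hco : ∀ a (i : Fin m), (mk a).coeff ((i : ℕ) + 1) = a i := by
    intro a i
    simp only [mk, coeff_add, coeff_X_pow, coeff_C, finsetSum_coeff, coeff_C_mul_X_pow]
    rw [if_neg (by omega), if_neg (by omega), zero_add, zero_add, Finset.sum_eq_single i]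
    · rw [if_pos rfl]
    · exact fun j _ hj => if_neg (by omega)
    · exact fun h => absurd (Finset.mem_univ i) h
  have hrev : ∀ i : Fin m, revAt (m + 1) ((i : ℕ) + 1) = (i.rev : ℕ) + 1 := fun i => by
    rw [revAt_le (by omega), Fin.val_rev]
    omega
  refine Nat.card_congr
    { toFun := fun P => ⟨fun i => P.1.coeff ((i : ℕ) + 1), fun i => ?_⟩
      invFun := fun a => ⟨mk a.1, hmonic a.1, hnat a.1, h0 a.1, ?_⟩
      left_inv := fun P => ?_
      right_inv := fun a => Subtype.ext (funext fun i => hco a.1 i) }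
  · obtain ⟨P, hP, hdeg, hP0, hd⟩ := P
    show c * star (P.coeff ((i.rev : ℕ) + 1)) = P.coeff ((i : ℕ) + 1)
    conv_rhs => rw [← hd, coeff_dual, hdeg, hP0, hrev, hcinv]
    rfl
  · ext k
    rw [coeff_dual, h0, hnat, hcinv]
    rcases Nat.lt_or_ge k (m + 2) with hk | hk
    · rcases Nat.eq_zero_or_pos k with rfl | hk0
      · rw [revAt_zero, ← hnat a.1, (hmonic a.1).coeff_natDegree, map_one, mul_one, h0]
      · rcases Nat.lt_or_ge k (m + 1) with hk1 | hk1
        · obtain ⟨j, rfl⟩ : ∃ j : Fin m, k = (j : ℕ) + 1 := ⟨⟨k - 1, by omega⟩, by simp only; omega⟩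
          rw [hrev, hco, hco]
          exact a.2 j
        · obtain rfl : k = m + 1 := by omega
          rw [revAt_le le_rfl, Nat.sub_self, h0, ← hnat a.1, (hmonic a.1).coeff_natDegree]
          exact hc
    · rw [revAt_eq_self_of_lt (by omega), coeff_eq_zero_of_natDegree_lt (by rw [hnat]; omega), map_zero, mul_zero]
  · obtain ⟨P, hP, hdeg, hP0, hd⟩ := P
    apply Subtype.ext
    ext k
    show (mk _).coeff k = P.coeff k
    rcases Nat.eq_zero_or_pos k with rfl | hk0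
    · rw [h0, hP0]
    rcases Nat.lt_or_ge k (m + 1) with hk1 | hk1
    · obtain ⟨j, rfl⟩ : ∃ j : Fin m, k = (j : ℕ) + 1 := ⟨⟨k - 1, by omega⟩, by simp only; omega⟩
      rw [hco]
    rcases eq_or_lt_of_le hk1 with rfl | hk2
    · have h1 := (hmonic fun i : Fin m => P.coeff ((i : ℕ) + 1)).coeff_natDegree
      rw [hnat] at h1
      rw [h1, ← hdeg, hP.coeff_natDegree]
    · rw [coeff_eq_zero_of_natDegree_lt (by rw [hnat]; omega), coeff_eq_zero_of_natDegree_lt (by omega)]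

end Cfsg.Agent.GLSemi
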