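import Cfsg.Agent.Lib.GLSemisimple.Classes

/-!
The exponent `q^(n!) - 1` of the elements of order prime to the characteristic, and counting monic polynomials.
-/

set_option autoImplicit false

namespace Cfsg.Agent.GLSemi

open Polynomial Matrix

variable {F : Type*} [Field F] [Fintype F]

/-- The uniform exponent of semisimple elements of `GL_n`. -/
def ssExp (F : Type*) [Fintype F] (n : ℕ) : ℕ := Fintype.card F ^ n.factorial - 1

theorem natCast_ssExp (n : ℕ) : (ssExp F n : F) = -1 := by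
  rw [ssExp, Nat.cast_sub (Nat.one_le_pow _ _ Fintype.card_pos), Nat.cast_pow, FiniteField.cast_card_eq_zero,
    zero_pow n.factorial_ne_zero, Nat.cast_one, zero_sub]

theorem ssExp_coprime {p : ℕ} [Fact p.Prime] [CharP F p] (n : ℕ) : (ssExp F n).Coprime p := by
  rw [Nat.coprime_comm, (Fact.out : p.Prime).coprime_iff_not_dvd, ← CharP.cast_eq_zero_iff F p, natCast_ssExp]
  exact neg_ne_zero.mpr one_ne_zero

theorem dvd_X_pow_ssExp_sub_one {n : ℕ} {f : F[X]} (hf : Irreducible f) (hdeg : f.natDegree ≤ n)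
    (hX : ¬ f ∣ X) : f ∣ X ^ ssExp F n - 1 := by
  have h := (hf.natDegree_dvd_iff_dvd_X_pow_card_pow_sub_X).mp
    (Nat.dvd_factorial hf.natDegree_pos hdeg)
  rw [Nat.card_eq_fintype_card] at h
  have he : (X : F[X]) ^ Fintype.card F ^ n.factorial - X = X * (X ^ ssExp F n - 1) := by
    rw [mul_sub, mul_one, ← pow_succ', ssExp, Nat.sub_add_cancel (Nat.one_le_pow _ _ Fintype.card_pos)]
  rw [he] at h
  exact (hf.prime.dvd_or_dvd h).resolve_left hX

theorem admPoly_ssExp (n : ℕ) :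
    AdmPoly F n (ssExp F n) = {P : F[X] | P.Monic ∧ P.natDegree = n ∧ P.coeff 0 ≠ 0} := by
  have hX : ¬ (X : F[X]) ∣ X ^ ssExp F n - 1 := by
    rw [X_dvd_iff, coeff_sub, coeff_one_zero, coeff_X_pow]
    rcases eq_or_ne (ssExp F n) 0 with h | h
    · have := natCast_ssExp (F := F) n
      rw [h, Nat.cast_zero] at this
      exact absurd this.symm (neg_ne_zero.mpr one_ne_zero)
    · rw [if_neg (fun h' => h h'.symm), zero_sub]
      exact neg_ne_zero.mpr one_ne_zero
  ext P
  constructor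
  · rintro ⟨hP, hdeg, hall⟩
    exact ⟨hP, hdeg, fun h0 => hX (hall X irreducible_X (X_dvd_iff.mpr h0))⟩
  · rintro ⟨hP, hdeg, h0⟩
    refine ⟨hP, hdeg, fun f hf hfd => dvd_X_pow_ssExp_sub_one hf ((natDegree_le_of_dvd hfd hP.ne_zero).trans
      hdeg.le) fun hfX => h0 ?_⟩
    exact X_dvd_iff.mp (((hf.associated_of_dvd irreducible_X hfX).symm.dvd).trans hfd)

theorem pow_ssExp_eq_one {p : ℕ} [Fact p.Prime] [CharP F p] {n : ℕ} (hn : 0 < n) {g : GL (Fin n) F}
    (hg : (orderOf g).Coprime p) : g ^ ssExp F n = 1 := by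
  have hm : ((orderOf g : ℕ) : F) ≠ 0 := by
    rw [Ne, CharP.cast_eq_zero_iff F p]
    exact fun h => (Fact.out : p.Prime).not_dvd_one (hg ▸ Nat.dvd_gcd h dvd_rfl)
  have hgm : (g : Matrix (Fin n) (Fin n) F) ^ orderOf g = 1 := by
    rw [← Units.val_pow_eq_pow_val, pow_orderOf_eq_one, Units.val_one]
  have hN : ((ssExp F n : ℕ) : F) ≠ 0 := by rw [natCast_ssExp]; exact neg_ne_zero.mpr one_ne_zero
  have hP : (g : Matrix (Fin n) (Fin n) F).charpoly ∈ AdmPoly F n (ssExp F n) := by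
    rw [admPoly_ssExp]
    refine ⟨Matrix.charpoly_monic _, (Matrix.charpoly_natDegree_eq_dim _).trans (Fintype.card_fin n), ?_⟩
    rw [charpoly_coeff_zero]
    exact mul_ne_zero (pow_ne_zero _ (neg_ne_zero.mpr one_ne_zero)) (Matrix.GeneralLinearGroup.det_ne_zero g)
  obtain ⟨M, hMc, hMN⟩ := exists_matrix_pow_eq_one _ n _ hP.1 hP.2.1 hP.2.2
  obtain ⟨X, hX1, hX2⟩ := exists_conj_det hn (N := orderOf g * ssExp F n)
    (by rw [Nat.cast_mul]; exact mul_ne_zero hm hN)
    (by rw [pow_mul, hgm, one_pow]) (by rw [mul_comm, pow_mul, hMN, one_pow]) hMc.symm one_ne_zero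
  let x := Matrix.GeneralLinearGroup.mkOfDetNeZero X (by rw [hX1]; exact one_ne_zero)
  apply Units.ext
  rw [Units.val_pow_eq_pow_val, Units.val_one]
  have key : ∀ k : ℕ, X * (g : Matrix (Fin n) (Fin n) F) ^ k = M ^ k * X := by
    intro k
    induction k with
    | zero => simp
    | succ k ih => rw [pow_succ, ← mul_assoc, ih, mul_assoc, hX2, ← mul_assoc, ← pow_succ]
  have h := key (ssExp F n)
  rw [hMN, one_mul] at h
  exact (x.isUnit.mul_left_cancel (h.trans (mul_one X).symm))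

theorem coprime_iff_pow_ssExp {p : ℕ} [Fact p.Prime] [CharP F p] {n : ℕ} (hn : 0 < n) (g : GL (Fin n) F) :
    (orderOf g).Coprime p ↔ g ^ ssExp F n = 1 :=
  ⟨pow_ssExp_eq_one hn, fun h => (ssExp_coprime n).coprime_dvd_left (orderOf_dvd_of_pow_eq_one h)⟩

theorem coprime_iff_pow_ssExp_SL {p : ℕ} [Fact p.Prime] [CharP F p] {n : ℕ} (hn : 0 < n)
    (g : Matrix.SpecialLinearGroup (Fin n) F) : (orderOf g).Coprime p ↔ g ^ ssExp F n = 1 := by
  have hinj := Matrix.SpecialLinearGroup.toGL_injective (R := F) (n := Fin n)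
  rw [← orderOf_injective _ hinj g, coprime_iff_pow_ssExp hn, ← map_pow, ← map_one Matrix.SpecialLinearGroup.toGL,
    hinj.eq_iff]

omit [Fintype F] in
theorem coeff_zero_monicEquiv {n : ℕ} (hn : 0 < n) (P : {P : F[X] // P.Monic ∧ P.natDegree = n}) :
    degreeLTEquiv F n (monicEquivDegreeLT n P) ⟨0, hn⟩ = P.1.coeff 0 := by
  show P.1.eraseLead.coeff 0 = _
  rw [eraseLead_coeff_of_ne]
  rw [P.2.2]; exact hn.ne

omit [Fintype F] in
/-- Monic polynomials of degree `m+1` with prescribed constant term. -/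
noncomputable def monicConstEquiv (m : ℕ) (Q : F → Prop) :
    {P : F[X] // P.Monic ∧ P.natDegree = m + 1 ∧ Q (P.coeff 0)} ≃ {a : F // Q a} × (Fin m → F) :=
  ((Equiv.subtypeEquivRight fun P => (and_assoc).symm).trans
    (Equiv.subtypeSubtypeEquivSubtypeInter (fun P : F[X] => P.Monic ∧ P.natDegree = m + 1)
      (fun P => Q (P.coeff 0))).symm).trans <|
  (((monicEquivDegreeLT (m + 1)).trans (degreeLTEquiv F (m + 1)).toEquiv).trans
    (Fin.consEquiv fun _ => F).symm).subtypeEquiv (q := fun z : F × (Fin m → F) => Q z.1) (fun P => by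
      have h := coeff_zero_monicEquiv (Nat.succ_pos m) P
      simp only [Equiv.trans_apply, Fin.consEquiv_symm_apply]
      exact iff_of_eq (congrArg Q h.symm)) |>.trans
  (Equiv.prodSubtypeFstEquivSubtypeProd (p := Q))

theorem card_monic_const_ne_zero {n : ℕ} (hn : 1 ≤ n) :
    Nat.card {P : F[X] // P.Monic ∧ P.natDegree = n ∧ P.coeff 0 ≠ 0} =
      (Fintype.card F - 1) * Fintype.card F ^ (n - 1) := by
  classical
  obtain ⟨m, rfl⟩ := Nat.exists_eq_add_of_le hn
  rw [add_comm 1 m, Nat.card_congr (monicConstEquiv m (fun a => a ≠ 0)), Nat.card_prod, Nat.card_eq_fintype_card,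
    Nat.card_eq_fintype_card, Fintype.card_fun, Fintype.card_fin, Fintype.card_subtype_compl,
    Fintype.card_subtype_eq, Nat.add_sub_cancel]

theorem card_monic_const_eq {n : ℕ} (hn : 1 ≤ n) (c : F) :
    Nat.card {P : F[X] // P.Monic ∧ P.natDegree = n ∧ P.coeff 0 = c} = Fintype.card F ^ (n - 1) := by
  classical
  obtain ⟨m, rfl⟩ := Nat.exists_eq_add_of_le hn
  rw [add_comm 1 m, Nat.card_congr (monicConstEquiv m (fun a => a = c)), Nat.card_prod, Nat.card_eq_fintype_card,
    Nat.card_eq_fintype_card, Fintype.card_fun, Fintype.card_fin, Fintype.card_subtype_eq, one_mul,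
    Nat.add_sub_cancel]

end Cfsg.Agent.GLSemi
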