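import Cfsg.Agent.Lib.GLSemisimple.TupleCount

/-!
Elementary divisors of invertible matrices: the number of classes of `GL_n` is at most the number of tuples.
-/

set_option autoImplicit false

namespace Cfsg.Agent.GLSemi

open Polynomial Module Matrix

universe u

variable {F : Type u} [Field F]

/-- Families with the same multiset of moduli give isomorphic products of cyclic modules. -/
theorem nonempty_pi_quot_equiv {ι κ : Type u} [Fintype ι] [Fintype κ] (g : ι → F[X]) (g' : κ → F[X])
    (h : Finset.univ.val.map g = Finset.univ.val.map g') :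
    Nonempty ((∀ i, F[X] ⧸ Submodule.span F[X] {g i}) ≃ₗ[F[X]] ∀ j, F[X] ⧸ Submodule.span F[X] {g' j}) := by
  classical
  have hc : ∀ c, Fintype.card {i // g i = c} = Fintype.card {j // g' j = c} := by
    intro c
    have h1 := congrArg (Multiset.count c) h
    simp only [Multiset.count_map, ← Finset.filter_val, ← Finset.card_def] at h1
    rw [Fintype.card_subtype, Fintype.card_subtype]
    simpa only [eq_comm] using h1
  let σ : ι ≃ κ := Equiv.ofFiberEquiv fun c => (Fintype.equivOfCardEq (hc c))
  have hσ : ∀ i, g' (σ i) = g i := fun i => Equiv.ofFiberEquiv_map _ i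
  exact ⟨(LinearEquiv.piCongrRight fun i => Submodule.quotEquivOfEq _ _ (by rw [hσ i])).trans
    (LinearEquiv.piCongrLeft F[X] (fun j => F[X] ⧸ Submodule.span F[X] {g' j}) σ)⟩

/-- Admissible elementary divisor data. -/
def IsDivData (n : ℕ) (s : Multiset (F[X] × ℕ)) : Prop :=
  (∀ z ∈ s, z.1.Monic ∧ Irreducible z.1 ∧ z.1.coeff 0 ≠ 0 ∧ 1 ≤ z.2 ∧ z.2 ≤ n) ∧
    (s.map fun z => z.2 * z.1.natDegree).sum = n

/-- The matrix has the elementary divisors `s`. -/
def HasDivData {n : ℕ} (M : Matrix (Fin n) (Fin n) F) (s : Multiset (F[X] × ℕ)) : Prop :=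
  ∃ (ι : Type u) (_ : Fintype ι) (z : ι → F[X] × ℕ), Finset.univ.val.map z = s ∧
    Nonempty (AEval' (Matrix.toLin' M) ≃ₗ[F[X]] ∀ i, F[X] ⧸ Submodule.span F[X] {(z i).1 ^ (z i).2})

theorem exists_divData {n : ℕ} (g : GL (Fin n) F) :
    ∃ s, IsDivData n s ∧ HasDivData (g : Matrix (Fin n) (Fin n) F) s := by
  classical
  set f := Matrix.toLin' (g : Matrix (Fin n) (Fin n) F) with hf
  obtain ⟨ι, _, p, hp, e, ⟨L⟩⟩ := Module.equiv_directSum_of_isTorsion
    (R := F[X]) (M := AEval' f) (Module.AEval.isTorsion_of_finiteDimensional F (Fin n → F) f)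
  let ι' := {i : ι // e i ≠ 0}
  let L1 := L.trans (DirectSum.linearEquivFunOnFintype F[X] ι _)
  -- drop the trivial summands and normalise
  have hspan : ∀ i, Submodule.span F[X] {normalize (p i) ^ e i} = Submodule.span F[X] {p i ^ e i} := fun i => by
    exact Ideal.span_singleton_eq_span_singleton.mpr (normalize_associated _).pow_pow
  haveI hsub : ∀ i : {i : ι // ¬ e i ≠ 0}, Subsingleton (F[X] ⧸ Submodule.span F[X] {p i.1 ^ e i.1}) := fun i => by
    rw [Submodule.Quotient.subsingleton_iff, not_not.mp i.2, pow_zero]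
    exact Ideal.span_singleton_one
  let L2 : AEval' f ≃ₗ[F[X]] ∀ i : ι', F[X] ⧸ Submodule.span F[X] {normalize (p i.1) ^ e i.1} :=
    L1.trans ((LinearEquiv.ofBijective
      (LinearMap.pi fun i : ι' => LinearMap.proj (R := F[X]) (φ := fun j => F[X] ⧸ Submodule.span F[X] {p j ^ e j}) i.1)
      ⟨fun a b hab => funext fun i => if h : e i ≠ 0 then congrFun hab ⟨i, h⟩
          else @Subsingleton.elim _ (hsub ⟨i, h⟩) _ _,
        fun a => ⟨fun i => if h : e i ≠ 0 then a ⟨i, h⟩ else 0, funext fun i => dif_pos i.2⟩⟩).trans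
      (LinearEquiv.piCongrRight fun i => Submodule.quotEquivOfEq _ _ (hspan i.1).symm))
  have hdeg : ∀ i : ι', finrank F (F[X] ⧸ Submodule.span F[X] {normalize (p i.1) ^ e i.1}) =
      e i.1 * (normalize (p i.1)).natDegree := fun i =>
    finrank_quotient_span_eq_natDegree.trans (natDegree_pow _ _)
  have hfd : ∀ i : ι', FiniteDimensional F (F[X] ⧸ Submodule.span F[X] {normalize (p i.1) ^ e i.1}) := fun i =>
    FiniteDimensional.of_finrank_pos (by
      rw [hdeg i]
      exact Nat.mul_pos (Nat.pos_of_ne_zero i.2)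
        ((associated_normalize (p i.1)).irreducible (hp i.1)).natDegree_pos)
  have hsum : ∑ i : ι', e i.1 * (normalize (p i.1)).natDegree = n := by
    simp_rw [← hdeg]
    rw [← Module.finrank_pi_fintype, ← (L2.restrictScalars F).finrank_eq, ← (AEval'.of f).finrank_eq]
    exact Module.finrank_fin_fun F
  have hX : ∀ x : AEval' f, (X : F[X]) • x = 0 → x = 0 := by
    intro x hx
    obtain ⟨v, rfl⟩ := (AEval'.of f).surjective x
    rw [Module.AEval.X_smul_of, map_eq_zero_iff _ (AEval'.of f).injective] at hx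
    have hv : f v = 0 := hx
    rw [hf, Matrix.toLin'_apply] at hv
    rw [map_eq_zero_iff _ (AEval'.of f).injective]
    exact (Matrix.mulVec_injective_iff_isUnit.mpr g.isUnit) (by rw [hv, Matrix.mulVec_zero])
  refine ⟨Finset.univ.val.map fun i : ι' => (normalize (p i.1), e i.1), ⟨?_, ?_⟩,
    ι', inferInstance, _, rfl, ⟨L2⟩⟩
  · intro z hz
    obtain ⟨i, -, rfl⟩ := Multiset.mem_map.mp hz
    have hirr : Irreducible (normalize (p i.1)) := (associated_normalize (p i.1)).irreducible (hp i.1)
    refine ⟨Polynomial.monic_normalize (hp i.1).ne_zero, hirr, fun h0 => ?_, Nat.pos_of_ne_zero i.2, ?_⟩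
    · obtain ⟨c, hc⟩ : X ∣ normalize (p i.1) ^ e i.1 := dvd_pow (X_dvd_iff.mpr h0) i.2
      let y : ∀ j : ι', F[X] ⧸ Submodule.span F[X] {normalize (p j.1) ^ e j.1} :=
        Pi.single i (Submodule.Quotient.mk c)
      have hy : (X : F[X]) • y = 0 := by
        rw [show (X : F[X]) • y = Pi.single i ((X : F[X]) • Submodule.Quotient.mk c) from (Pi.single_smul i _ _).symm,
          ← Submodule.Quotient.mk_smul, smul_eq_mul, ← hc, Pi.single_eq_zero_iff, Submodule.Quotient.mk_eq_zero]
        exact Submodule.mem_span_singleton_self _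
      have hy0 : y = 0 := by
        have := hX (L2.symm y) (by rw [← map_smul, hy, map_zero])
        exact (map_eq_zero_iff _ L2.symm.injective).mp this
      simp only [y, Pi.single_eq_zero_iff, Submodule.Quotient.mk_eq_zero, Ideal.mem_span_singleton] at hy0
      rw [hc] at hy0
      have hc0 : c ≠ 0 := fun h => by simp [h, pow_ne_zero _ hirr.ne_zero] at hc
      have h2 := natDegree_le_of_dvd hy0 hc0
      rw [natDegree_mul X_ne_zero hc0, natDegree_X] at h2
      omega
    · calc e i.1 ≤ e i.1 * (normalize (p i.1)).natDegree := Nat.le_mul_of_pos_right _ hirr.natDegree_pos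
        _ ≤ n := hsum ▸ Finset.single_le_sum (f := fun j : ι' => e j.1 * (normalize (p j.1)).natDegree)
              (fun j _ => Nat.zero_le _) (Finset.mem_univ i)
  · rw [Multiset.map_map]
    exact hsum

theorem isConj_of_divData {n : ℕ} {g h : GL (Fin n) F} {s : Multiset (F[X] × ℕ)}
    (hg : HasDivData (g : Matrix (Fin n) (Fin n) F) s) (hh : HasDivData (h : Matrix (Fin n) (Fin n) F) s) :
    IsConj g h := by
  obtain ⟨ι, _, z, hz, ⟨A⟩⟩ := hg
  obtain ⟨κ, _, w, hw, ⟨B⟩⟩ := hh
  obtain ⟨C⟩ := nonempty_pi_quot_equiv (fun i => (z i).1 ^ (z i).2) (fun j => (w j).1 ^ (w j).2) (by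
    rw [← hw] at hz
    have h1 := congrArg (Multiset.map fun y : F[X] × ℕ => y.1 ^ y.2) hz
    rwa [Multiset.map_map, Multiset.map_map] at h1)
  let T := (A.trans C).trans B.symm
  let f := Matrix.toLin' (g : Matrix (Fin n) (Fin n) F)
  let f' := Matrix.toLin' (h : Matrix (Fin n) (Fin n) F)
  let e : (Fin n → F) ≃ₗ[F] (Fin n → F) :=
    ((AEval'.of f).trans (T.restrictScalars F)).trans (AEval'.of f').symm
  have he : ∀ v, e (f v) = f' (e v) := by
    intro v
    show (AEval'.of f').symm (T ((AEval'.of f) (f v))) = f' ((AEval'.of f').symm (T ((AEval'.of f) v)))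
    rw [← AEval'.of_symm_X_smul, ← map_smul, Module.AEval.X_smul_of]
    rfl
  let E := LinearMap.toMatrix' (e : (Fin n → F) →ₗ[F] (Fin n → F))
  have hE : E.det ≠ 0 := by
    rw [LinearMap.det_toMatrix']
    exact (LinearEquiv.isUnit_det' e).ne_zero
  have hEA : E * (g : Matrix (Fin n) (Fin n) F) = (h : Matrix (Fin n) (Fin n) F) * E :=
    Matrix.toLin'.injective (by
      rw [Matrix.toLin'_mul, Matrix.toLin'_mul, Matrix.toLin'_toMatrix']
      exact LinearMap.ext he)
  refine isConj_iff.mpr ⟨Matrix.GeneralLinearGroup.mkOfDetNeZero E hE, ?_⟩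
  rw [mul_inv_eq_iff_eq_mul]
  exact Units.ext hEA

theorem card_conjClasses_GL_le [Fintype F] {n : ℕ} (hn : 0 < n) :
    Nat.card (ConjClasses (GL (Fin n) F)) ≤ Fintype.card F ^ n := by
  classical
  have hdata : ∀ c : ConjClasses (GL (Fin n) F), ∃ s, IsDivData n s ∧
      HasDivData ((Quotient.out c : GL (Fin n) F) : Matrix (Fin n) (Fin n) F) s :=
    fun c => exists_divData _
  choose S hS1 hS2 using hdata
  let a : ConjClasses (GL (Fin n) F) → Fin n → F[X] := fun c k =>
    (((S c).filter fun z => z.2 = (k : ℕ) + 1).map Prod.fst).prod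
  have hnf : ∀ c k, UniqueFactorizationMonoid.normalizedFactors (a c k) =
      ((S c).filter fun z => z.2 = (k : ℕ) + 1).map Prod.fst := by
    intro c k
    have hmem : ∀ f ∈ ((S c).filter fun z => z.2 = (k : ℕ) + 1).map Prod.fst, f.Monic ∧ Irreducible f := by
      intro f hf
      obtain ⟨z, hz, rfl⟩ := Multiset.mem_map.mp hf
      exact ⟨((hS1 c).1 z (Multiset.mem_of_mem_filter hz)).1, ((hS1 c).1 z (Multiset.mem_of_mem_filter hz)).2.1⟩
    rw [UniqueFactorizationMonoid.normalizedFactors_prod_eq _ fun f hf => (hmem f hf).2]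
    conv_rhs => rw [← Multiset.map_id (Multiset.map Prod.fst _)]
    exact Multiset.map_congr rfl fun f hf => (hmem f hf).1.normalize_eq_self
  have hmem : ∀ c, a c ∈ TupSet F n n := by
    intro c
    refine ⟨fun k => ⟨?_, ?_⟩, ?_⟩
    · exact monic_multiset_prod_of_monic _ _ fun z hz => ((hS1 c).1 z (Multiset.mem_of_mem_filter hz)).1
    · rw [coeff_zero_multiset_prod, Multiset.map_map]
      refine Multiset.prod_ne_zero fun h0 => ?_
      obtain ⟨z, hz, hz0⟩ := Multiset.mem_map.mp h0
      exact ((hS1 c).1 z (Multiset.mem_of_mem_filter hz)).2.2.1 hz0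
    · refine Eq.trans ?_ (hS1 c).2
      have hd : ∀ k : Fin n, (a c k).natDegree =
          (((S c).filter fun z => z.2 = (k : ℕ) + 1).map fun z => z.1.natDegree).sum := fun k => by
        rw [natDegree_multiset_prod_of_monic, Multiset.map_map]
        · rfl
        · intro f hf
          obtain ⟨z, hz, rfl⟩ := Multiset.mem_map.mp hf
          exact ((hS1 c).1 z (Multiset.mem_of_mem_filter hz)).1
      simp_rw [hd, ← Multiset.sum_map_mul_left]
      have hb : ∀ z ∈ S c, 1 ≤ z.2 ∧ z.2 ≤ n := fun z hz => ((hS1 c).1 z hz).2.2.2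
      clear hd
      generalize S c = s at hb ⊢
      induction s using Multiset.induction_on with
      | empty => simp
      | cons z t ih =>
        rw [Multiset.map_cons, Multiset.sum_cons, ← ih fun w hw => hb w (Multiset.mem_cons_of_mem hw)]
        obtain ⟨h1, h2⟩ := hb z (Multiset.mem_cons_self _ _)
        have hstep : ∀ k : Fin n, (((z ::ₘ t).filter fun y => y.2 = (k : ℕ) + 1).map fun y =>
            ((k : ℕ) + 1) * y.1.natDegree).sum = (if (⟨z.2 - 1, by omega⟩ : Fin n) = k then z.2 * z.1.natDegree else 0) +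
            ((t.filter fun y => y.2 = (k : ℕ) + 1).map fun y => ((k : ℕ) + 1) * y.1.natDegree).sum := by
          intro k
          rw [Multiset.filter_cons]
          by_cases hk : z.2 = (k : ℕ) + 1
          · rw [if_pos hk, if_pos (Fin.ext (by simp only; omega))]
            simp [hk]
          · rw [if_neg hk, if_neg (fun h => hk (by rw [← h]; simp only; omega))]
            simp
        simp_rw [hstep]
        rw [Finset.sum_add_distrib, Finset.sum_ite_eq, if_pos (Finset.mem_univ _)]
  have hinj : Function.Injective fun c => (⟨a c, hmem c⟩ : TupSet F n n) := by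
    intro c d h
    have h' : ∀ k, a c k = a d k := fun k => congrFun (congrArg Subtype.val h) k
    have hs : S c = S d := by
      refine Multiset.ext.mpr fun z => ?_
      by_cases hz : 1 ≤ z.2 ∧ z.2 ≤ n
      · let k : Fin n := ⟨z.2 - 1, by omega⟩
        have key : ∀ s : Multiset (F[X] × ℕ), ((s.filter fun y => y.2 = (k : ℕ) + 1).map Prod.fst).count z.1 = s.count z := by
          intro s
          rw [Multiset.count_map, Multiset.filter_filter, Multiset.count_eq_card_filter_eq]
          congr 1
          refine Multiset.filter_congr fun y _ => ?_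
          have hk : (k : ℕ) + 1 = z.2 := by simp only [k]; omega
          rw [hk]
          exact ⟨fun ⟨p, q⟩ => (Prod.ext p.symm q).symm, fun e => ⟨by rw [e], by rw [e]⟩⟩
        rw [← key, ← key, ← hnf, ← hnf, h' k]
      · rw [Multiset.count_eq_zero_of_notMem fun hm => hz ((hS1 c).1 z hm).2.2.2,
          Multiset.count_eq_zero_of_notMem fun hm => hz ((hS1 d).1 z hm).2.2.2]
    have hc := isConj_of_divData (hS2 c) (hs ▸ hS2 d)
    rw [← ConjClasses.mk_eq_mk_iff_isConj] at hc
    exact (Quotient.out_eq c).symm.trans (hc.trans (Quotient.out_eq d))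
  haveI := (tup_bound (F := F) n n).1
  exact (Nat.card_le_card_of_injective _ hinj).trans (card_tupSet_le hn)

end Cfsg.Agent.GLSemi
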