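import Cfsg.Agent.Lib.GLSemisimple.Classes

/-!
The dual of a polynomial with respect to a field automorphism `σ` of order at most two: the monic polynomial whose
roots are the inverses of the images of the roots.
-/

set_option autoImplicit false

namespace Cfsg.Agent.GLSemi

open Polynomial Matrix

variable {F : Type*} [Field F]

/-- `σ`-dual polynomial. -/
noncomputable def dual (σ : F →+* F) (P : F[X]) : F[X] := C (σ (P.coeff 0))⁻¹ * P.reverse.map σ

variable (σ : F →+* F)

theorem coeff_dual (P : F[X]) (i : ℕ) :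
    (dual σ P).coeff i = (σ (P.coeff 0))⁻¹ * σ (P.coeff (revAt P.natDegree i)) := by
  rw [dual, coeff_C_mul, coeff_map, coeff_reverse]

theorem dual_mul (P Q : F[X]) : dual σ (P * Q) = dual σ P * dual σ Q := by
  rw [dual, dual, dual, reverse_mul_of_domain, Polynomial.map_mul, mul_coeff_zero, map_mul, mul_inv, map_mul C]
  ring

theorem natDegree_dual {P : F[X]} (hP0 : P.coeff 0 ≠ 0) : (dual σ P).natDegree = P.natDegree := by
  rw [dual, natDegree_C_mul (inv_ne_zero ((map_ne_zero σ).mpr hP0)), natDegree_map, reverse_natDegree,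
    natTrailingDegree_eq_zero.mpr (Or.inr hP0), Nat.sub_zero]

theorem monic_dual {P : F[X]} (hP0 : P.coeff 0 ≠ 0) : (dual σ P).Monic := by
  rw [Monic, leadingCoeff, natDegree_dual σ hP0, coeff_dual, revAt_le le_rfl, Nat.sub_self]
  exact inv_mul_cancel₀ ((map_ne_zero σ).mpr hP0)

theorem coeff_zero_dual {P : F[X]} (hP : P.Monic) : (dual σ P).coeff 0 = (σ (P.coeff 0))⁻¹ := by
  rw [coeff_dual, revAt_zero, hP.coeff_natDegree, map_one, mul_one]

theorem dual_dual (hσ : ∀ a, σ (σ a) = a) {P : F[X]} (hP : P.Monic) (hP0 : P.coeff 0 ≠ 0) :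
    dual σ (dual σ P) = P := by
  have h : σ (P.coeff 0) ≠ 0 := (map_ne_zero σ).mpr hP0
  ext i
  rw [coeff_dual, coeff_zero_dual σ hP, natDegree_dual σ hP0, coeff_dual, revAt_invol, map_mul σ (σ (P.coeff 0))⁻¹,
    map_inv₀, inv_inv, hσ, hσ, mul_inv_cancel_left₀ hP0]

theorem dual_dvd {P Q : F[X]} (h : P ∣ Q) : dual σ P ∣ dual σ Q := by
  obtain ⟨R, rfl⟩ := h
  exact ⟨dual σ R, dual_mul σ P R⟩

theorem coeff_zero_ne_of_dvd {P Q : F[X]} (h : P ∣ Q) (hQ : Q.coeff 0 ≠ 0) : P.coeff 0 ≠ 0 := by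
  obtain ⟨R, rfl⟩ := h
  rw [mul_coeff_zero] at hQ
  exact left_ne_zero_of_mul hQ

theorem irreducible_dual (hσ : ∀ a, σ (σ a) = a) {f : F[X]} (hf : Irreducible f) (hfm : f.Monic)
    (hf0 : f.coeff 0 ≠ 0) : Irreducible (dual σ f) := by
  have hm := monic_dual σ hf0
  have hdf := natDegree_dual σ hf0
  refine (hm.irreducible_iff_natDegree').mpr ⟨fun h => ?_, fun a b ha hb hab => ?_⟩
  · have := hf.natDegree_pos
    rw [h, natDegree_one] at hdf
    omega
  · have hab0 : (a * b).coeff 0 ≠ 0 := by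
      rw [hab, coeff_zero_dual σ hfm]
      exact inv_ne_zero ((map_ne_zero σ).mpr hf0)
    rw [mul_coeff_zero] at hab0
    have h := congrArg (dual σ) hab
    rw [dual_dual σ hσ hfm hf0, dual_mul] at h
    rw [Finset.mem_Ioc]
    rintro ⟨hpos, hle⟩
    rcases hf.isUnit_or_isUnit h.symm with hu | hu
    · have := natDegree_eq_zero_of_isUnit hu
      rw [natDegree_dual σ (left_ne_zero_of_mul hab0)] at this
      have hsum := hdf
      rw [← hab, ha.natDegree_mul hb, this] at hsum
      omega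
    · have := natDegree_eq_zero_of_isUnit hu
      rw [natDegree_dual σ (right_ne_zero_of_mul hab0)] at this
      omega

/-- The charpoly of the inverse of the transpose of `σ(M)`. -/
theorem charpoly_inv_transpose_map {ι : Type*} [Fintype ι] [DecidableEq ι] (M : Matrix ι ι F) (hM : IsUnit M) :
    (((M.map σ)ᵀ)⁻¹).charpoly = dual σ M.charpoly := by
  have hu : IsUnit (M.map σ)ᵀ := (Matrix.isUnit_transpose _).mpr (hM.map σ.mapMatrix)
  rw [Matrix.charpoly_inv _ hu, ← Matrix.reverse_charpoly, Matrix.charpoly_transpose, Matrix.charpoly_map,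
    Matrix.det_transpose, show (M.map σ).det = σ M.det from (RingHom.map_det σ M).symm, dual, Ring.inverse_eq_inv']
  have hrev : (M.charpoly.map σ).reverse = M.charpoly.reverse.map σ := by
    rw [reverse, reverse, natDegree_map, reflect_map]
  have h0 : σ (M.charpoly.coeff 0) = (-1) ^ Fintype.card ι * σ M.det := by
    rw [Matrix.det_eq_sign_charpoly_coeff, map_mul, map_pow, map_neg, map_one, ← mul_assoc, ← mul_pow]
    simp
  rw [hrev, h0, mul_inv, map_mul C, ← inv_pow, inv_neg, inv_one, map_pow, map_neg, map_one]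

/-- A self-dual polynomial has a self-dual monic divisor which is an irreducible or a product of two dual ones. -/
theorem exists_selfDual_factor (hσ : ∀ a, σ (σ a) = a) {P : F[X]} (hP : P.Monic) (hP0 : P.coeff 0 ≠ 0)
    (hd : dual σ P = P) (hdeg : 0 < P.natDegree) :
    ∃ s P' : F[X], s.Monic ∧ P'.Monic ∧ dual σ s = s ∧ dual σ P' = P' ∧ 0 < s.natDegree ∧ P = s * P' ∧
      Squarefree s := by
  obtain ⟨f, hfm, hfi, hfP⟩ := Polynomial.exists_monic_irreducible_factor P
    (fun h => by have := natDegree_eq_zero_of_isUnit h; omega)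
  have hf0 := coeff_zero_ne_of_dvd hfP hP0
  have hfd : dual σ f ∣ P := hd ▸ dual_dvd σ hfP
  have main : ∀ s : F[X], s.Monic → dual σ s = s → s ∣ P → 0 < s.natDegree → Squarefree s →
      ∃ s P' : F[X], s.Monic ∧ P'.Monic ∧ dual σ s = s ∧ dual σ P' = P' ∧ 0 < s.natDegree ∧ P = s * P' ∧
        Squarefree s := by
    rintro s hs hsd ⟨P', rfl⟩ hpos hsq
    refine ⟨s, P', hs, hs.of_mul_monic_left hP, hsd, ?_, hpos, rfl, hsq⟩
    rw [dual_mul, hsd] at hd
    exact mul_left_cancel₀ hs.ne_zero hd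
  by_cases h : dual σ f = f
  · exact main f hfm h hfP hfi.natDegree_pos hfi.squarefree
  · have hi := irreducible_dual σ hσ hfi hfm hf0
    have hco : IsCoprime f (dual σ f) := hfi.coprime_iff_not_dvd.mpr fun hdvd =>
      h (eq_of_monic_of_associated hfm (monic_dual σ hf0) (hfi.associated_of_dvd hi hdvd)).symm
    refine main (f * dual σ f) (hfm.mul (monic_dual σ hf0)) ?_ (hco.mul_dvd hfP hfd) ?_ ?_
    · rw [dual_mul, dual_dual σ hσ hfm hf0, mul_comm]
    · rw [hfm.natDegree_mul (monic_dual σ hf0)]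
      have := hfi.natDegree_pos
      omega
    · exact (squarefree_mul_iff).mpr ⟨hco.isRelPrime, hfi.squarefree, hi.squarefree⟩

end Cfsg.Agent.GLSemi
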