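import Cfsg.Agent.Lib.GLSemisimple.Unitary
import Cfsg.Agent.Lib.GLSemisimple.Count
import Cfsg.Prelude.Def_Classical

/-!
Semisimple classes of `SU_n(q)`.
-/

set_option autoImplicit false

namespace Cfsg.Agent.GLSemi

open Polynomial Matrix

variable {F : Type*} [Field F] [Fintype F] {q : ℕ}

/-- The matrix of an element of `SU_n(q)`. -/
abbrev suMat {n : ℕ} (g : ↥(Cfsg.SU n F q)) : Matrix (Fin n) (Fin n) F :=
  ((g : Matrix.SpecialLinearGroup (Fin n) F) : Matrix (Fin n) (Fin n) F)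

theorem suMat_unitary [StarRing F] (hs : ∀ x : F, star x = x ^ q) {n : ℕ} (g : ↥(Cfsg.SU n F q)) :
    (suMat g)ᴴ * suMat g = 1 :=
  (Forms59.mem_GU_iff_conjTranspose hs (Matrix.SpecialLinearGroup.toGL g.1)).mp g.2

theorem exists_suMat [StarRing F] (hs : ∀ x : F, star x = x ^ q) {n : ℕ} {Y : Matrix (Fin n) (Fin n) F}
    (hY : Yᴴ * Y = 1) (hdet : Y.det = 1) : ∃ g : ↥(Cfsg.SU n F q), suMat g = Y :=
  ⟨⟨⟨Y, hdet⟩, (Forms59.mem_GU_iff_conjTranspose hs (Matrix.SpecialLinearGroup.toGL ⟨Y, hdet⟩)).mpr hY⟩, rfl⟩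

theorem suMat_pow_eq_one {n N : ℕ} {g : ↥(Cfsg.SU n F q)} : suMat g ^ N = 1 ↔ g ^ N = 1 := by
  rw [← Matrix.SpecialLinearGroup.coe_pow, ← Subgroup.coe_pow]
  exact ⟨fun h => Subtype.ext (Subtype.ext h), fun h => by rw [h]; rfl⟩

/-- Elements of `SU_n(q)` of order prime to the characteristic with equal characteristic polynomials. -/
theorem su_isConj (hF : Fintype.card F = q ^ 2) {n N : ℕ} (hN : (N : F) ≠ 0) (g h : ↥(Cfsg.SU n F q))
    (hg : g ^ N = 1) (hh : h ^ N = 1) (hc : (suMat g).charpoly = (suMat h).charpoly) : IsConj g h := by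
  letI : StarRing F := Forms59.starRingOfCard hF
  have hs : ∀ x : F, star x = x ^ q := fun x => rfl
  obtain ⟨θ, hθ⟩ := (Forms59.card_sq_facts hF).2.2.2
  rcases Nat.eq_zero_or_pos n with rfl | hn
  · exact isConj_iff.mpr ⟨1, Subtype.ext (Subtype.ext (Subsingleton.elim _ _))⟩
  have hA := suMat_unitary hs g
  obtain ⟨Y, hY, hYg⟩ := exists_unitary_conj_of_charpoly θ hθ hN hA (suMat_unitary hs h)
    (suMat_pow_eq_one.mpr hg) (suMat_pow_eq_one.mpr hh) hc
  have hd : Y.det * star Y.det = 1 := by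
    have := congrArg Matrix.det hY
    rw [Matrix.det_mul, Matrix.det_conjTranspose, Matrix.det_one, mul_comm] at this
    exact this
  obtain ⟨Z, hZ, hZg, hZd⟩ := exists_unitary_commute_det θ hθ hn hN hA (suMat_pow_eq_one.mpr hg)
    (δ := star Y.det) (by rw [star_star, mul_comm]; exact hd)
  obtain ⟨x, hx⟩ := exists_suMat hs (Y := Y * Z)
    (by rw [conjTranspose_mul, mul_assoc, ← mul_assoc Yᴴ, hY, one_mul, hZ]) (by rw [Matrix.det_mul, hZd, hd])
  refine isConj_iff.mpr ⟨x, ?_⟩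
  rw [mul_inv_eq_iff_eq_mul]
  apply Subtype.ext
  apply Subtype.ext
  show suMat x * suMat g = suMat h * suMat x
  rw [hx, mul_assoc, hZg, ← mul_assoc, hYg, mul_assoc]

theorem suMat_coprime_iff {p : ℕ} [Fact p.Prime] [CharP F p] {n : ℕ} (hn : 0 < n) (g : ↥(Cfsg.SU n F q)) :
    (orderOf g).Coprime p ↔ g ^ ssExp F n = 1 := by
  rw [← Subgroup.orderOf_coe, coprime_iff_pow_ssExp_SL hn, ← Subgroup.coe_pow, OneMemClass.coe_eq_one]

/-- The number of classes of elements of order prime to `p` in `SU_n(q)`. -/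
theorem card_classes_SU (hF : Fintype.card F = q ^ 2) (p : ℕ) [Fact p.Prime] [CharP F p] {n : ℕ} (hn : 1 ≤ n) :
    Nat.card {c : ConjClasses ↥(Cfsg.SU n F q) //
      ∃ g : ↥(Cfsg.SU n F q), ConjClasses.mk g = c ∧ (orderOf g).Coprime p} = q ^ (n - 1) := by
  letI : StarRing F := Forms59.starRingOfCard hF
  have hs : ∀ x : F, star x = x ^ q := fun x => rfl
  obtain ⟨θ, hθ⟩ := (Forms59.card_sq_facts hF).2.2.2
  obtain ⟨m, rfl⟩ : ∃ m, n = m + 1 := ⟨n - 1, by omega⟩
  have hN : ((ssExp F (m + 1) : ℕ) : F) ≠ 0 := by rw [natCast_ssExp]; exact neg_ne_zero.mpr one_ne_zero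
  have hc : ((-1 : F) ^ (m + 1)) * star ((-1 : F) ^ (m + 1)) = 1 := by
    rw [star_pow, star_neg, star_one, ← mul_pow]
    simp
  have hcard := card_selfDual θ hθ (m := m) hc
  let cp : ConjClasses ↥(Cfsg.SU (m + 1) F q) → F[X] :=
    Quotient.lift (fun g => (suMat g).charpoly) (fun g h hgh => by
      obtain ⟨x, hx⟩ := isConj_iff.mp hgh
      rw [← hx]
      show _ = ((Matrix.SpecialLinearGroup.toGL (x.1 * g.1 * x.1⁻¹) : GL (Fin (m + 1)) F) :
        Matrix (Fin (m + 1)) (Fin (m + 1)) F).charpoly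
      rw [map_mul, map_mul, map_inv, Units.val_mul, Units.val_mul, Matrix.coe_units_inv]
      exact (Matrix.charpoly_units_conj _ _).symm)
  have heq : Nat.card {c : ConjClasses ↥(Cfsg.SU (m + 1) F q) //
      ∃ g : ↥(Cfsg.SU (m + 1) F q), ConjClasses.mk g = c ∧ (orderOf g).Coprime p} =
      Nat.card {P : F[X] // P.Monic ∧ P.natDegree = m + 1 ∧ P.coeff 0 = (-1) ^ (m + 1) ∧
        dual (starRingEnd F) P = P} := by
    refine Nat.card_congr (Equiv.ofBijective (fun c => ⟨cp c.1, ?_⟩) ⟨?_, ?_⟩)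
    · obtain ⟨g, hg, -⟩ := c.2
      rw [← hg]
      exact ⟨Matrix.charpoly_monic _, (Matrix.charpoly_natDegree_eq_dim _).trans (Fintype.card_fin _),
        (charpoly_coeff_zero (suMat g)).trans (by rw [g.1.prop, mul_one]),
        dual_charpoly_of_unitary (suMat_unitary hs g)⟩
    · rintro ⟨_, g, rfl, hg⟩ ⟨_, h, rfl, hh⟩ heq'
      exact Subtype.ext (ConjClasses.mk_eq_mk_iff_isConj.mpr (su_isConj hF hN g h
        ((suMat_coprime_iff (by omega) g).mp hg) ((suMat_coprime_iff (by omega) h).mp hh)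
        (congrArg Subtype.val heq')))
    · rintro ⟨P, hP, hdeg, hP0, hPd⟩
      have hadm : P ∈ AdmPoly F (m + 1) (ssExp F (m + 1)) := by
        rw [admPoly_ssExp]
        exact ⟨hP, hdeg, by rw [hP0]; exact left_ne_zero_of_mul_eq_one hc⟩
      obtain ⟨M, hM, hMN, hMc⟩ := exists_unitary_charpoly θ hθ hN hadm hPd
      have hdet : M.det = 1 := by
        have h := charpoly_coeff_zero M
        rw [hMc, hP0] at h
        exact mul_left_cancel₀ (left_ne_zero_of_mul_eq_one hc) (h.symm.trans (mul_one _).symm)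
      obtain ⟨g, hg⟩ := exists_suMat hs hM hdet
      have hgN : g ^ ssExp F (m + 1) = 1 := suMat_pow_eq_one.mp (by rw [hg]; exact hMN)
      exact ⟨⟨ConjClasses.mk g, g, rfl, (suMat_coprime_iff (by omega) g).mpr hgN⟩,
        Subtype.ext (show (suMat g).charpoly = P by rw [hg]; exact hMc)⟩
  rw [heq]
  apply Nat.pow_left_injective two_ne_zero
  show _ ^ 2 = _ ^ 2
  rw [hcard, hF, ← pow_mul, ← pow_mul, Nat.add_sub_cancel, mul_comm]

end Cfsg.Agent.GLSemi
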