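import Cfsg.Agent.Lib.GLSemisimple.Conj

/-!
A semisimple element commuting with a non-trivial nilpotent map has a repeated factor in its characteristic
polynomial; degrees of the irreducible factors of `X^r - 1`.
-/

set_option autoImplicit false

namespace Cfsg.Agent.UniComm

open Polynomial Module

variable {F : Type*} [Field F]

theorem aeval_restrict_coe {V : Type*} [AddCommGroup V] [Module F V] {f : Module.End F V} {U : Submodule F V}
    (hU : ∀ x ∈ U, f x ∈ U) (P : F[X]) (x : U) :
    ((aeval (f.restrict hU) P x : U) : V) = aeval f P (x : V) := by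
  induction P using Polynomial.induction_on' with
  | add p q hp hq =>
    rw [map_add, map_add, LinearMap.add_apply, LinearMap.add_apply, Submodule.coe_add, hp, hq]
  | monomial k c =>
    rw [aeval_monomial, aeval_monomial, Module.End.mul_apply, Module.End.mul_apply,
      Module.algebraMap_end_apply, Module.algebraMap_end_apply, Submodule.coe_smul]
    congr 1
    induction k with
    | zero => rfl
    | succ k ih =>
      rw [pow_succ', pow_succ', Module.End.mul_apply, Module.End.mul_apply, ← ih]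
      rfl

theorem dvd_of_apply_eq_zero {V : Type*} [AddCommGroup V] [Module F V] (f : Module.End F V) {P Q : F[X]}
    (hP : Irreducible P) {v : V} (hv : v ≠ 0) (hPv : aeval f P v = 0) (hQv : aeval f Q v = 0) : P ∣ Q := by
  by_contra hnd
  obtain ⟨a, b, hab⟩ := hP.coprime_iff_not_dvd.mpr hnd
  have h := congrArg (fun R => aeval f R v) hab
  simp only [map_add, map_mul, map_one, LinearMap.add_apply, Module.End.mul_apply, hPv, hQv, map_zero, add_zero,
    Module.End.one_apply] at h
  exact hv h.symm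

theorem exists_sq_dvd_charpoly {V : Type*} [AddCommGroup V] [Module F V] [FiniteDimensional F V]
    (f N : Module.End F V) (hf : f.IsSemisimple) (hN : IsNilpotent N) (hN0 : N ≠ 0) (hc : Commute N f) :
    ∃ P : F[X], Irreducible P ∧ P * P ∣ f.charpoly := by
  classical
  have hcomm : ∀ x, N (f x) = f (N x) := fun x => LinearMap.congr_fun hc x
  obtain ⟨k, hk⟩ := hN
  obtain ⟨j, hj, hj1⟩ : ∃ j, N ^ j ≠ 0 ∧ N ^ (j + 1) = 0 := by
    by_contra hcon
    push Not at hcon
    have hall : ∀ i, N ^ (i + 1) ≠ 0 := by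
      intro i
      induction i with
      | zero => rwa [zero_add, pow_one]
      | succ i ih => exact hcon (i + 1) ih
    rcases k with _ | k
    · rw [pow_zero] at hk
      exact hN0 (by rw [← mul_one N, hk, mul_zero])
    · exact hall k hk
  have hj0 : 0 < j := Nat.pos_of_ne_zero fun h => hN0 (by rw [h, zero_add, pow_one] at hj1; exact hj1)
  set K := LinearMap.ker N with hK
  have hKinv : ∀ x ∈ K, f x ∈ K := fun x hx => by
    rw [hK, LinearMap.mem_ker, hcomm, LinearMap.mem_ker.mp hx, map_zero]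
  obtain ⟨C, hC, hcompl⟩ := (Module.End.isSemisimple_iff.mp hf) K (by
    rw [Module.End.mem_invtSubmodule]; exact hKinv)
  rw [Module.End.mem_invtSubmodule] at hC
  have hCinv : ∀ x ∈ C, f x ∈ C := hC
  -- the characteristic polynomial splits
  have hsplit : f.charpoly = (f.restrict hKinv).charpoly * (f.restrict hCinv).charpoly := by
    rw [← LinearMap.charpoly_prodMap, ← (Submodule.prodEquivOfIsCompl K C hcompl).charpoly_conj]
    congr 1
    ext x
    obtain ⟨⟨a, b⟩, rfl⟩ := (Submodule.prodEquivOfIsCompl K C hcompl).surjective x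
    rw [LinearEquiv.conj_apply_apply, LinearEquiv.symm_apply_apply]
    simp [LinearMap.coe_restrict_apply]
  -- a vector in `ker N ∩ range N`
  let E : Submodule F V := LinearMap.range N ⊓ K
  have hEinv : ∀ x ∈ E, f x ∈ E := by
    rintro x ⟨⟨w, rfl⟩, hx⟩
    exact ⟨⟨f w, hcomm w⟩, hKinv _ hx⟩
  obtain ⟨w, hw⟩ : ∃ w, (N ^ j) w ≠ 0 := by
    by_contra h
    push Not at h
    exact hj (LinearMap.ext h)
  have hwE : (N ^ j) w ∈ E := by
    refine ⟨⟨(N ^ (j - 1)) w, ?_⟩, ?_⟩
    · rw [← Module.End.mul_apply, ← pow_succ', Nat.sub_add_cancel hj0]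
    · show (N ^ j) w ∈ LinearMap.ker N
      rw [LinearMap.mem_ker, ← Module.End.mul_apply, ← pow_succ', hj1, LinearMap.zero_apply]
  have hnu : ¬ IsUnit (f.restrict hEinv).charpoly := by
    intro h
    have h0 := natDegree_eq_zero_of_isUnit h
    rw [LinearMap.charpoly_natDegree] at h0
    haveI : Subsingleton E := finrank_zero_iff.mp h0
    exact hw (congrArg Subtype.val (Subsingleton.elim (⟨_, hwE⟩ : E) 0))
  obtain ⟨P, hP, hPd⟩ := WfDvdMonoid.exists_irreducible_factor hnu (LinearMap.charpoly_monic _).ne_zero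
  obtain ⟨v, hv, hPv⟩ := GLSemi.exists_ne_zero_aeval_apply_eq_zero _ hP hPd
  have hv0 : (v : V) ≠ 0 := fun h => hv (Subtype.ext h)
  have hPv' : aeval f P (v : V) = 0 := by rw [← aeval_restrict_coe hEinv, hPv]; rfl
  have hPK : P ∣ (f.restrict hKinv).charpoly := by
    refine dvd_of_apply_eq_zero f hP hv0 hPv' ?_
    have h := aeval_restrict_coe hKinv (f.restrict hKinv).charpoly ⟨v, v.2.2⟩
    rw [LinearMap.aeval_self_charpoly] at h
    simpa using h.symm
  have hPC : P ∣ (f.restrict hCinv).charpoly := by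
    refine dvd_of_apply_eq_zero f hP hv0 hPv' ?_
    obtain ⟨w, hw⟩ := v.2.1
    obtain ⟨⟨a, c⟩, hac⟩ := (Submodule.prodEquivOfIsCompl K C hcompl).surjective w
    rw [Submodule.coe_prodEquivOfIsCompl'] at hac
    have hvc : (v : V) = N (c : V) := by
      rw [← hw, ← hac, map_add, LinearMap.mem_ker.mp a.2, zero_add]
    have hcc : aeval f (f.restrict hCinv).charpoly (c : V) = 0 := by
      rw [← aeval_restrict_coe hCinv, LinearMap.aeval_self_charpoly]; rfl
    have hcommQ : Commute N (aeval f (f.restrict hCinv).charpoly) := by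
      refine Polynomial.induction_on (f.restrict hCinv).charpoly (fun a => ?_) (fun p q hp hq => ?_) (fun k a hk => ?_)
      · rw [aeval_C]; exact Algebra.commute_algebraMap_right a N
      · rw [map_add]; exact hp.add_right hq
      · rw [map_mul, aeval_C, map_pow, aeval_X]
        exact (Algebra.commute_algebraMap_right a N).mul_right (hc.pow_right _)
    rw [hvc, ← Module.End.mul_apply, ← hcommQ.eq, Module.End.mul_apply, hcc, map_zero]
  exact ⟨P, hP, hsplit ▸ mul_dvd_mul hPK hPC⟩

theorem natDegree_factor [Fintype F] {r : ℕ} (hr : r.Prime) (hrF : (r : F) ≠ 0) {f : F[X]} (hf : Irreducible f)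
    (hfd : f ∣ X ^ r - 1) (hf1 : ¬ f ∣ X - 1) :
    f.natDegree = orderOf (Fintype.card F : ZMod r) ∧
      ∀ α : AdjoinRoot f, α = AdjoinRoot.root f → α ^ r = 1 ∧ α ≠ 1 := by
  haveI : Fact (Irreducible f) := ⟨hf⟩
  haveI : Fact r.Prime := ⟨hr⟩
  haveI : Module.Finite F (AdjoinRoot f) := (AdjoinRoot.powerBasis hf.ne_zero).finite
  haveI : Finite (AdjoinRoot f) := Module.finite_of_finite F
  set α := AdjoinRoot.root f with hα
  have hα1 : α ^ r = 1 := by
    have h := AdjoinRoot.mk_eq_zero.mpr hfd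
    simpa [sub_eq_zero] using h
  have hαne : α ≠ 1 := by
    intro h
    apply hf1
    rw [← AdjoinRoot.mk_eq_zero, map_sub, AdjoinRoot.mk_X, map_one, ← hα, h, sub_self]
  have hα0 : α ≠ 0 := fun h => by rw [h, zero_pow hr.ne_zero] at hα1; exact zero_ne_one hα1
  have hord : orderOf α = r := orderOf_eq_prime hα1 hαne
  have hq1 : ∀ i, 1 ≤ Fintype.card F ^ i := fun i => Nat.one_le_pow _ _ Fintype.card_pos
  have hd : orderOf (Fintype.card F : ZMod r) ∣ f.natDegree := by
    have h1 : orderOf (Units.mk0 α hα0) ∣ Nat.card (AdjoinRoot f)ˣ := orderOf_dvd_natCard _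
    rw [← orderOf_units, Units.val_mk0, hord, Nat.card_units,
      Module.natCard_eq_pow_finrank (K := F), (AdjoinRoot.powerBasis hf.ne_zero).finrank, AdjoinRoot.powerBasis_dim,
      Nat.card_eq_fintype_card] at h1
    rw [orderOf_dvd_iff_pow_eq_one]
    rw [← ZMod.natCast_eq_zero_iff, Nat.cast_sub (hq1 _), Nat.cast_pow, Nat.cast_one, sub_eq_zero] at h1
    exact h1
  have hd2 : f.natDegree ∣ orderOf (Fintype.card F : ZMod r) := by
    rw [hf.natDegree_dvd_iff_dvd_X_pow_card_pow_sub_X, Nat.card_eq_fintype_card]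
    have h2 : r ∣ Fintype.card F ^ orderOf (Fintype.card F : ZMod r) - 1 := by
      rw [← ZMod.natCast_eq_zero_iff, Nat.cast_sub (hq1 _), Nat.cast_pow, Nat.cast_one, pow_orderOf_eq_one, sub_self]
    obtain ⟨c, hc⟩ := h2
    have e : (X : F[X]) ^ Fintype.card F ^ orderOf (Fintype.card F : ZMod r) - X = X * ((X ^ r) ^ c - 1) := by
      rw [mul_sub, mul_one, ← pow_mul, ← pow_succ', ← hc, Nat.sub_add_cancel (hq1 _)]
    rw [e]
    exact (hfd.trans (sub_one_dvd_pow_sub_one (X ^ r : F[X]) c)).mul_left X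
  exact ⟨Nat.dvd_antisymm hd2 hd, fun a ha => by subst ha; exact ⟨hα1, hαne⟩⟩

end Cfsg.Agent.UniComm
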