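import Cfsg.Agent.Lib.GLSemisimple.DualPoly
import Cfsg.Agent.Lib.GLSemisimple.UnipotentCommute

/-!
Counting self-dual polynomials built from the factors of `X^r - 1`.
-/

set_option autoImplicit false

namespace Cfsg.Agent.GLSemi

universe u

open Polynomial UniqueFactorizationMonoid

variable {F : Type*} [Field F]

/-- Products of a linear polynomial and blocks of equal degree, each block having a factor of its own. -/
theorem card_blockPoly [DecidableEq F] (n i : ℕ) (hi : 0 < i) (L : F[X]) (hL : L.Monic) (hLi : Irreducible L)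
    (hL1 : L.natDegree = 1) (S : Finset F[X]) (φ : F[X] → F[X])
    (hS : ∀ g ∈ S, g.Monic ∧ g.natDegree = i)
    (hφ : ∀ g ∈ S, φ g ≠ L ∧ ∀ h ∈ S, (normalizedFactors h).count (φ g) = if h = g then 1 else 0) :
    Nat.card {P : F[X] // P.natDegree = n ∧ P ∈ Submonoid.closure (insert L (S : Set F[X]))} =
      Nat.choose (n / i + S.card) S.card := by
  classical
  set m := n / i with hm
  let g : Option ↥S → F[X] := fun o => o.elim (L ^ i) (fun f => f.1)
  let b : Sym (Option ↥S) m → F[X] := fun s => L ^ (n % i) * ((s : Multiset (Option ↥S)).map g).prod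
  have hgd : ∀ o, (g o).natDegree = i ∧ (g o).Monic := by
    intro o
    rcases o with _ | x
    · exact ⟨by simp [g, natDegree_pow, hL1], hL.pow i⟩
    · exact ⟨(hS x.1 x.2).2, (hS x.1 x.2).1⟩
  have hpm : ∀ s : Multiset (Option ↥S), (s.map g).prod.Monic := fun s =>
    monic_multiset_prod_of_monic _ _ fun o _ => (hgd o).2
  have hinj : Function.Injective b := by
    intro s s' h
    have hc : ∀ x : ↥S, (s : Multiset (Option ↥S)).count (some x) = (s' : Multiset (Option ↥S)).count (some x) := by
      intro x
      have hLc : ∀ k : ℕ, (normalizedFactors (L ^ k)).count (φ x.1) = 0 := fun k => by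
        rw [normalizedFactors_pow, normalizedFactors_irreducible hLi, hL.normalize_eq_self, Multiset.count_nsmul,
          Multiset.count_singleton, if_neg (hφ x.1 x.2).1, mul_zero]
      have key : ∀ s : Multiset (Option ↥S),
          (normalizedFactors (s.map g).prod).count (φ x.1) = s.count (some x) := by
        intro s
        induction s using Multiset.induction_on with
        | empty => simp
        | cons o t ih =>
          rw [Multiset.map_cons, Multiset.prod_cons, normalizedFactors_mul (hgd o).2.ne_zero (hpm t).ne_zero,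
            Multiset.count_add, ih, Multiset.count_cons, add_comm]
          congr 1
          rcases o with _ | y
          · rw [if_neg (by simp)]
            exact hLc i
          · rw [show g (some y) = y.1 from rfl, (hφ x.1 x.2).2 y.1 y.2]
            exact if_congr ⟨fun e => by rw [Subtype.ext e], fun e => by rw [Option.some.inj e]⟩ rfl rfl
      have h1 := congrArg (fun P => (normalizedFactors P).count (φ x.1)) h
      simp only [b, normalizedFactors_mul (hL.pow _).ne_zero (hpm _).ne_zero, Multiset.count_add, key, hLc,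
        zero_add] at h1
      exact h1
    apply Sym.coe_injective
    ext o
    rcases o with _ | x
    · have h1 : (Finset.univ.sum fun o => (s : Multiset (Option ↥S)).count o) = m :=
        (Multiset.sum_count_eq_card (fun a _ => Finset.mem_univ a)).trans Sym.card_coe
      have h2 : (Finset.univ.sum fun o => (s' : Multiset (Option ↥S)).count o) = m :=
        (Multiset.sum_count_eq_card (fun a _ => Finset.mem_univ a)).trans Sym.card_coe
      rw [Fintype.sum_option] at h1 h2
      rw [Finset.sum_congr rfl fun x _ => hc x] at h1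
      omega
    · exact hc x
  have hdegp : ∀ s : Multiset (Option ↥S), (s.map g).prod.natDegree = i * s.card := by
    intro s
    induction s using Multiset.induction_on with
    | empty => simp
    | cons o t ih =>
      rw [Multiset.map_cons, Multiset.prod_cons, (hgd o).2.natDegree_mul (hpm t), ih, (hgd o).1, Multiset.card_cons,
        mul_add_one, add_comm]
  have hrange : Set.range b = {P | P.natDegree = n ∧ P ∈ Submonoid.closure (insert L (S : Set F[X]))} := by
    ext P
    constructor
    · rintro ⟨s, rfl⟩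
      refine ⟨?_, mul_mem (pow_mem (Submonoid.subset_closure (Set.mem_insert _ _)) _) ?_⟩
      · show (L ^ (n % i) * ((s : Multiset (Option ↥S)).map g).prod).natDegree = n
        rw [(hL.pow _).natDegree_mul (hpm _), natDegree_pow, hL1, mul_one, hdegp, Sym.card_coe]
        exact Nat.mod_add_div n i
      · refine Submonoid.multiset_prod_mem _ _ fun f hf => ?_
        obtain ⟨o, -, rfl⟩ := Multiset.mem_map.mp hf
        rcases o with _ | x
        · exact pow_mem (Submonoid.subset_closure (Set.mem_insert L _)) i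
        · exact Submonoid.subset_closure (Set.mem_insert_of_mem _ x.2)
    · rintro ⟨hdeg, hP⟩
      obtain ⟨a, T, rfl, -⟩ : ∃ (a : ℕ) (T : Multiset (Option ↥S)), P = L ^ a * (T.map g).prod ∧ ∀ o ∈ T, o ≠ none := by
        clear hdeg
        induction hP using Submonoid.closure_induction with
        | mem x hx =>
          rcases Set.mem_insert_iff.mp hx with rfl | hx
          · exact ⟨1, 0, by simp, by simp⟩
          · exact ⟨0, {some ⟨x, hx⟩}, by simp [g], by simp⟩
        | one => exact ⟨0, 0, by simp, by simp⟩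
        | mul x y _ _ hx hy =>
          obtain ⟨a, T, rfl, hT⟩ := hx
          obtain ⟨c, U, rfl, hU⟩ := hy
          refine ⟨a + c, T + U, by rw [pow_add, Multiset.map_add, Multiset.prod_add]; ring, fun o ho => ?_⟩
          rcases Multiset.mem_add.mp ho with h | h
          exacts [hT o h, hU o h]
      rw [(hL.pow _).natDegree_mul (hpm _), natDegree_pow, hL1, mul_one, hdegp] at hdeg
      have hle : T.card ≤ m := by rw [hm, Nat.le_div_iff_mul_le hi, mul_comm]; omega
      refine ⟨⟨T + Multiset.replicate (m - T.card) none, by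
        rw [Multiset.card_add, Multiset.card_replicate]; omega⟩, ?_⟩
      show L ^ (n % i) * ((T + Multiset.replicate (m - T.card) none).map g).prod = _
      rw [Multiset.map_add, Multiset.prod_add, Multiset.map_replicate, Multiset.prod_replicate,
        mul_comm (T.map g).prod, ← mul_assoc]
      congr 1
      show L ^ (n % i) * (L ^ i) ^ (m - T.card) = L ^ a
      rw [← pow_mul, ← pow_add]
      congr 1
      have h1 := Nat.mod_add_div n i
      have h2 : i * T.card ≤ i * m := Nat.mul_le_mul_left i hle
      rw [Nat.mul_sub]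
      rw [← hm] at h1
      omega
  show Nat.card ↥{P : F[X] | P.natDegree = n ∧ P ∈ Submonoid.closure (insert L (S : Set F[X]))} = _
  rw [← hrange, Nat.card_range_of_injective hinj, Nat.card_eq_fintype_card, Sym.card_sym_eq_multichoose,
    Fintype.card_option, Fintype.card_coe, Nat.multichoose_eq]
  rw [Nat.add_right_comm, Nat.add_sub_cancel, Nat.add_comm S.card m, Nat.choose_symm_add]

/-- The irreducible factors of `X^r - 1` other than `X - 1`. -/
noncomputable def cycFactors (F : Type*) [Field F] [DecidableEq F] (r : ℕ) : Finset F[X] :=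
  (normalizedFactors (cyclotomic r F)).toFinset

theorem cycFactors_spec [Fintype F] [DecidableEq F] {r : ℕ} (hr : r.Prime) (hrF : (r : F) ≠ 0) :
    (∀ g ∈ cycFactors F r, g.Monic ∧ Irreducible g ∧ g ∣ X ^ r - 1 ∧ ¬ g ∣ X - 1 ∧
        g.natDegree = orderOf (Fintype.card F : ZMod r) ∧ g ≠ X - C 1) ∧
      (∀ g : F[X], g.Monic → Irreducible g → (g ∣ X ^ r - 1 ↔ g = X - C 1 ∨ g ∈ cycFactors F r)) ∧
      (cycFactors F r).card * orderOf (Fintype.card F : ZMod r) = r - 1 := by
  haveI : Fact r.Prime := ⟨hr⟩
  have hne := cyclotomic_ne_zero r F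
  have h1 : ¬ (X - C 1 : F[X]) ∣ cyclotomic r F := by
    rw [dvd_iff_isRoot, IsRoot, eval_one_cyclotomic_prime]
    exact hrF
  have hmul : cyclotomic r F * (X - 1) = X ^ r - 1 := cyclotomic_prime_mul_X_sub_one F r
  have hspec : ∀ g ∈ cycFactors F r, g.Monic ∧ Irreducible g ∧ g ∣ X ^ r - 1 ∧ ¬ g ∣ X - 1 ∧
      g.natDegree = orderOf (Fintype.card F : ZMod r) ∧ g ≠ X - C 1 := by
    intro g hg
    have hg' := Multiset.mem_toFinset.mp hg
    have hgi := irreducible_of_normalized_factor g hg'
    have hgd : g ∣ cyclotomic r F := dvd_of_mem_normalizedFactors hg'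
    have hgm : g.Monic := by
      rw [← normalize_normalized_factor g hg']
      exact monic_normalize hgi.ne_zero
    have hgr : g ∣ X ^ r - 1 := hmul ▸ hgd.mul_right _
    have hg1 : ¬ g ∣ X - 1 := fun h => h1 (by
      rw [← C_1] at h
      exact ((hgi.associated_of_dvd (irreducible_X_sub_C 1) h).symm.dvd).trans hgd)
    refine ⟨hgm, hgi, hgr, hg1, (UniComm.natDegree_factor hr hrF hgi hgr hg1).1, fun h => hg1 ?_⟩
    rw [h, C_1]
  refine ⟨hspec, fun g hgm hgi => ?_, ?_⟩
  · rw [← hmul, hgi.prime.dvd_mul, or_comm]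
    refine or_congr ⟨fun h => ?_, fun h => ?_⟩ ⟨fun h => ?_, fun h => ?_⟩
    · rw [← C_1] at h
      exact eq_of_monic_of_associated hgm (monic_X_sub_C 1) (hgi.associated_of_dvd (irreducible_X_sub_C 1) h)
    · rw [h, C_1]
    · obtain ⟨g', hg', hass⟩ := exists_mem_normalizedFactors_of_dvd hne hgi h
      have hg'' : g' ∈ cycFactors F r := Multiset.mem_toFinset.mpr hg'
      rwa [eq_of_monic_of_associated hgm (hspec g' hg'').1 hass]
    · exact dvd_of_mem_normalizedFactors (Multiset.mem_toFinset.mp h)
  · have hsq : Squarefree (cyclotomic r F) :=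
      ((separable_X_pow_sub_C (1 : F) hrF one_ne_zero).squarefree |> fun h => by
        rw [C_1, ← hmul] at h
        exact h.of_mul_left)
    have hnd := (squarefree_iff_nodup_normalizedFactors hne).mp hsq
    have hd := natDegree_eq_of_degree_eq (degree_eq_degree_of_associated (prod_normalizedFactors hne))
    rw [natDegree_cyclotomic, Nat.totient_prime hr, natDegree_multiset_prod _ (zero_notMem_normalizedFactors _)] at hd
    rw [← hd, Multiset.map_congr rfl fun g hg => (hspec g (Multiset.mem_toFinset.mpr hg)).2.2.2.2.1,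
      Multiset.map_const', Multiset.sum_replicate, smul_eq_mul, cycFactors, Multiset.toFinset_card_of_nodup hnd]

variable (σ : F →+* F)

/-- Self-dual polynomials all of whose irreducible factors divide `X^r - 1`. -/
def SelfDualAdm (n r : ℕ) : Set F[X] := {P | P ∈ AdmPoly F n r ∧ dual σ P = P}

theorem dual_X_pow_sub_one {r : ℕ} (hr : 0 < r) : dual σ (X ^ r - 1 : F[X]) = X ^ r - 1 := by
  ext k
  have hdeg : (X ^ r - 1 : F[X]).natDegree = r := by rw [← C_1, natDegree_X_pow_sub_C]
  rw [coeff_dual, hdeg]
  rcases Nat.lt_or_ge r k with hk | hk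
  · rw [revAt_eq_self_of_lt hk]
    simp only [coeff_sub, coeff_X_pow, coeff_one]
    split_ifs <;> first | omega | simp
  · rw [revAt_le hk]
    simp only [coeff_sub, coeff_X_pow, coeff_one]
    split_ifs <;> first | omega | simp

theorem dual_X_sub_one : dual σ (X - C 1 : F[X]) = X - C 1 := by
  have h := dual_X_pow_sub_one σ one_pos
  rwa [pow_one, ← C_1] at h

theorem dual_one : dual σ (1 : F[X]) = 1 := by
  rw [dual, ← C_1, reverse_C, map_C, coeff_C_zero, map_one, inv_one, ← C_mul, mul_one]

/-- The number of self-dual polynomials built from the factors of `X^r - 1`, all factors behaving alike. -/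
theorem card_selfDualAdm [Fintype F] [DecidableEq F] (hσ : ∀ a, σ (σ a) = a) {r : ℕ} (hr : r.Prime) (hrF : (r : F) ≠ 0)
    (n : ℕ) {i s : ℕ} (hi : i = orderOf (Fintype.card F : ZMod r)) (hs : s * i = r - 1) (fixed : Prop) [Decidable fixed]
    (hfix : ∀ f ∈ cycFactors F r, dual σ f = f ↔ fixed) :
    Nat.card ↥(SelfDualAdm σ n r) =
      if fixed then Nat.choose (n / i + s) s else Nat.choose (n / (2 * i) + s / 2) (s / 2) := by
  classical
  obtain ⟨hspec, hfac, hcard⟩ := cycFactors_spec (F := F) hr hrF
  set T := cycFactors F r with hT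
  set L : F[X] := X - C 1 with hL
  have hr0 : (X ^ r - 1 : F[X]).coeff 0 ≠ 0 := by
    rw [coeff_sub, coeff_X_pow, if_neg hr.pos.ne, coeff_one_zero, zero_sub]
    exact neg_ne_zero.mpr one_ne_zero
  have hTd : ∀ f ∈ T, dual σ f ∈ T ∧ dual σ (dual σ f) = f := by
    intro f hf
    obtain ⟨hm, hirr, hd, -, -, hne⟩ := hspec f hf
    have hf0 := coeff_zero_ne_of_dvd hd hr0
    refine ⟨?_, dual_dual σ hσ hm hf0⟩
    rcases (hfac _ (monic_dual σ hf0) (irreducible_dual σ hσ hirr hm hf0)).mp
      (dual_X_pow_sub_one σ hr.pos ▸ dual_dvd σ hd) with h | h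
    · exact absurd (by rw [← dual_dual σ hσ hm hf0, h, dual_X_sub_one]) hne
    · exact h
  let blk : F[X] → F[X] := fun f => if dual σ f = f then f else f * dual σ f
  have hblk : ∀ f ∈ T, (blk f).Monic ∧ dual σ (blk f) = blk f ∧
      normalizedFactors (blk f) = if dual σ f = f then {f} else {f, dual σ f} := by
    intro f hf
    obtain ⟨hm, hirr, hd, -, -, -⟩ := hspec f hf
    obtain ⟨hm', hirr', -, -, -, -⟩ := hspec _ (hTd f hf).1
    by_cases h : dual σ f = f
    · simp only [blk, if_pos h]
      exact ⟨hm, h, by rw [normalizedFactors_irreducible hirr, hm.normalize_eq_self]⟩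
    · simp only [blk, if_neg h]
      refine ⟨hm.mul hm', by rw [dual_mul, (hTd f hf).2, mul_comm], ?_⟩
      rw [normalizedFactors_mul hm.ne_zero hm'.ne_zero, normalizedFactors_irreducible hirr,
        normalizedFactors_irreducible hirr', hm.normalize_eq_self, hm'.normalize_eq_self]
      rfl
  set S := T.image blk with hS
  choose φ' hφ' using fun g (hg : g ∈ S) => Finset.mem_image.mp hg
  let φ : F[X] → F[X] := fun g => if hg : g ∈ S then φ' g hg else 0
  have hφmem : ∀ g ∈ S, φ g ∈ T ∧ blk (φ g) = g := fun g hg => by simp only [φ, dif_pos hg]; exact hφ' g hg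
  have hsd : ∀ P, P ∈ SelfDualAdm σ n r ↔ P.natDegree = n ∧ P ∈ Submonoid.closure (insert L (S : Set F[X])) := by
    have hgen : ∀ x ∈ insert L (S : Set F[X]), x.Monic ∧ dual σ x = x ∧
        ∀ f : F[X], Irreducible f → f ∣ x → f ∣ X ^ r - 1 := by
      intro x hx
      rcases Set.mem_insert_iff.mp hx with rfl | hx
      · exact ⟨monic_X_sub_C 1, dual_X_sub_one σ, fun f _ hf => hf.trans ((hfac L (monic_X_sub_C 1)
          (irreducible_X_sub_C 1)).mpr (Or.inl rfl))⟩
      · obtain ⟨f, hf, rfl⟩ := Finset.mem_image.mp (Finset.mem_coe.mp hx)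
        refine ⟨(hblk f hf).1, (hblk f hf).2.1, fun z hz hzd => ?_⟩
        by_cases h : dual σ f = f
        · simp only [blk, if_pos h] at hzd
          exact hzd.trans (hspec f hf).2.2.1
        · simp only [blk, if_neg h] at hzd
          rcases hz.prime.dvd_or_dvd hzd with h' | h'
          · exact h'.trans (hspec f hf).2.2.1
          · exact h'.trans (hspec _ (hTd f hf).1).2.2.1
    have hmain : ∀ d, ∀ P : F[X], P.Monic → P.natDegree = d → dual σ P = P →
        (∀ f : F[X], Irreducible f → f ∣ P → f ∣ X ^ r - 1) → P ∈ Submonoid.closure (insert L (S : Set F[X])) := by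
      intro d
      induction' d using Nat.strong_induction_on with d ih
      intro P hP hdeg hPd hall
      rcases Nat.eq_zero_or_pos d with rfl | hd0
      · rw [hP.natDegree_eq_zero.mp hdeg]
        exact one_mem _
      obtain ⟨f, hfm, hfi, hfP⟩ := Polynomial.exists_monic_irreducible_factor P
        (fun h => by have := natDegree_eq_zero_of_isUnit h; omega)
      have step : ∀ g ∈ insert L (S : Set F[X]), 0 < g.natDegree → g ∣ P →
          P ∈ Submonoid.closure (insert L (S : Set F[X])) := by
        rintro g hg hpos ⟨P', rfl⟩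
        obtain ⟨hgm, hgd, -⟩ := hgen g hg
        have hP' := hgm.of_mul_monic_left hP
        rw [dual_mul, hgd] at hPd
        rw [hgm.natDegree_mul hP'] at hdeg
        exact mul_mem (Submonoid.subset_closure hg) (ih _ (by omega) P' hP' rfl (mul_left_cancel₀ hgm.ne_zero hPd)
          fun z hz hzd => hall z hz (hzd.mul_left g))
      rcases (hfac f hfm hfi).mp (hall f hfi hfP) with rfl | hf
      · exact step _ (Set.mem_insert _ _) (by rw [hL, natDegree_X_sub_C]; exact one_pos) hfP
      · refine step (blk f) (Set.mem_insert_of_mem _ (Finset.mem_coe.mpr (Finset.mem_image_of_mem _ hf))) ?_ ?_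
        · by_cases h : dual σ f = f
          · simp only [blk, if_pos h]; exact hfi.natDegree_pos
          · simp only [blk, if_neg h]
            rw [hfm.natDegree_mul (hspec _ (hTd f hf).1).1]
            have := hfi.natDegree_pos
            omega
        · by_cases h : dual σ f = f
          · simp only [blk, if_pos h]; exact hfP
          · simp only [blk, if_neg h]
            refine IsCoprime.mul_dvd (hfi.coprime_iff_not_dvd.mpr fun hd => h ?_) hfP (hPd ▸ dual_dvd σ hfP)
            exact (eq_of_monic_of_associated hfm (hspec _ (hTd f hf).1).1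
              (hfi.associated_of_dvd (hspec _ (hTd f hf).1).2.1 hd)).symm
    intro P
    constructor
    · rintro ⟨⟨hP, hdeg, hall⟩, hPd⟩
      exact ⟨hdeg, hmain n P hP hdeg hPd hall⟩
    · rintro ⟨hdeg, hP⟩
      have : P.Monic ∧ dual σ P = P ∧ ∀ f : F[X], Irreducible f → f ∣ P → f ∣ X ^ r - 1 := by
        clear hdeg
        induction hP using Submonoid.closure_induction with
        | mem x hx => exact hgen x hx
        | one => exact ⟨monic_one, dual_one σ, fun f hf h => absurd (isUnit_of_dvd_one h) hf.not_isUnit⟩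
        | mul x y _ _ hx hy =>
          exact ⟨hx.1.mul hy.1, by rw [dual_mul, hx.2.1, hy.2.1], fun f hf h =>
            (hf.prime.dvd_or_dvd h).elim (hx.2.2 f hf) (hy.2.2 f hf)⟩
      exact ⟨⟨this.1, hdeg, this.2.2⟩, this.2.1⟩
  rw [Nat.card_congr (Equiv.subtypeEquivRight hsd)]
  have hi0 : 0 < i := by
    rcases Nat.eq_zero_or_pos i with h | h
    · rw [h, mul_zero] at hs; have := hr.two_le; omega
    · exact h
  rw [← hi] at hcard
  have hTs : T.card = s := Nat.eq_of_mul_eq_mul_right hi0 (hcard.trans hs.symm)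
  have hcount : ∀ g ∈ S, φ g ≠ L ∧ ∀ h ∈ S, (normalizedFactors h).count (φ g) = if h = g then 1 else 0 := by
    intro g hg
    obtain ⟨hf, hfg⟩ := hφmem g hg
    refine ⟨(hspec _ hf).2.2.2.2.2, fun h hh => ?_⟩
    obtain ⟨e, he, rfl⟩ := Finset.mem_image.mp hh
    rw [(hblk e he).2.2]
    by_cases hb : blk e = g
    · rw [if_pos hb]
      rw [← hfg] at hb
      set f := φ g
      clear hh
      by_cases h : dual σ e = e
      · rw [if_pos h]
        have : f = e := by
          have h2 := congrArg normalizedFactors hb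
          rw [(hblk e he).2.2, (hblk f hf).2.2, if_pos h] at h2
          split_ifs at h2 with h3
          · exact (Multiset.singleton_inj.mp h2).symm
          · exact absurd (congrArg Multiset.card h2) (by simp)
        simp [this]
      · rw [if_neg h]
        have hmem : f ∈ ({e, dual σ e} : Multiset F[X]) := by
          have h2 := congrArg normalizedFactors hb
          rw [(hblk e he).2.2, (hblk f hf).2.2, if_neg h] at h2
          rw [h2]
          split_ifs <;> simp
        rw [Multiset.insert_eq_cons, Multiset.count_cons, Multiset.count_singleton]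
        rcases Multiset.mem_cons.mp hmem with h' | h'
        · rw [if_neg (fun hh => h (hh.symm.trans h')), if_pos h']
        · rw [Multiset.mem_singleton] at h'
          rw [if_pos h', if_neg (fun hh => h (h'.symm.trans hh))]
    · rw [if_neg hb, Multiset.count_eq_zero]
      intro hmem
      apply hb
      rw [← hfg]
      have hcases : φ g = e ∨ φ g = dual σ e := by
        by_cases h : dual σ e = e
        · rw [if_pos h, Multiset.mem_singleton] at hmem; exact Or.inl hmem
        · rw [if_neg h] at hmem; simpa using hmem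
      rcases hcases with h' | h'
      · rw [h']
      · by_cases h : dual σ e = e
        · rw [h', h]
        · rw [h']
          simp only [blk]
          rw [if_neg h, (hTd e he).2, if_neg (Ne.symm h), mul_comm]
  by_cases hfx : fixed
  · rw [if_pos hfx]
    have hb : ∀ f ∈ T, blk f = f := fun f hf => if_pos ((hfix f hf).mpr hfx)
    have hScard : S.card = s := by
      rw [hS, Finset.card_image_of_injOn fun a ha b hb' h => by rwa [hb a ha, hb b hb'] at h, hTs]
    rw [card_blockPoly n i hi0 L (monic_X_sub_C 1) (irreducible_X_sub_C 1) (natDegree_X_sub_C 1) S φ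
      (fun g hg => ?_) hcount, hScard]
    obtain ⟨hf, hfg⟩ := hφmem g hg
    rw [← hfg]
    exact ⟨(hblk _ hf).1, by rw [hb _ hf, hi]; exact (hspec _ hf).2.2.2.2.1⟩
  · rw [if_neg hfx]
    have hb : ∀ f ∈ T, dual σ f ≠ f := fun f hf h => hfx ((hfix f hf).mp h)
    have hScard : S.card = s / 2 := by
      have h2 : T.card = 2 * S.card := by
        rw [Finset.card_eq_sum_card_image blk T, ← hS, Finset.sum_const_nat (m := 2), mul_comm]
        intro g hg
        obtain ⟨hf, hfg⟩ := hφmem g hg
        rw [Finset.card_eq_two]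
        refine ⟨φ g, dual σ (φ g), (hb _ hf).symm, ?_⟩
        ext e
        rw [Finset.mem_filter, Finset.mem_insert, Finset.mem_singleton]
        constructor
        · rintro ⟨he, heq⟩
          have hmem : e ∈ normalizedFactors g := by
            rw [← heq, (hblk e he).2.2, if_neg (hb e he)]
            simp
          rw [← hfg, (hblk _ hf).2.2, if_neg (hb _ hf)] at hmem
          simpa using hmem
        · rintro (rfl | rfl)
          · exact ⟨hf, hfg⟩
          · refine ⟨(hTd _ hf).1, ?_⟩
            conv_rhs => rw [← hfg]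
            simp only [blk]
            rw [(hTd _ hf).2, if_neg (hb _ hf).symm, if_neg (hb _ hf), mul_comm]
      omega
    rw [card_blockPoly n (2 * i) (by omega) L (monic_X_sub_C 1) (irreducible_X_sub_C 1) (natDegree_X_sub_C 1) S φ
      (fun g hg => ?_) hcount, hScard]
    obtain ⟨hf, hfg⟩ := hφmem g hg
    refine ⟨hfg ▸ (hblk _ hf).1, ?_⟩
    rw [← hfg]
    simp only [blk, if_neg (hb _ hf)]
    rw [(hspec _ hf).1.natDegree_mul (hspec _ (hTd _ hf).1).1, (hspec _ hf).2.2.2.2.1,
      (hspec _ (hTd _ hf).1).2.2.2.2.1, hi]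
    ring

/-- The dual root. -/
theorem aeval_dual_root {K : Type*} [Field K] [Algebra F K] (τ : K →+* K)
    (hτ : ∀ c, τ (algebraMap F K c) = algebraMap F K (σ c)) {f : F[X]} {α : K} (hα : α ≠ 0) (h : aeval α f = 0) :
    aeval (τ α)⁻¹ (dual σ f) = 0 := by
  have h1 : eval₂ (algebraMap F K) (τ α) (f.map σ) = 0 := by
    rw [eval₂_map]
    have h2 := hom_eval₂ f (algebraMap F K) τ α
    rw [show eval₂ (algebraMap F K) α f = 0 from h, map_zero] at h2
    rw [show (algebraMap F K).comp σ = τ.comp (algebraMap F K) from RingHom.ext fun c => (hτ c).symm]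
    exact h2.symm
  have hne : τ α ≠ 0 := (map_ne_zero τ).mpr hα
  haveI := invertibleOfNonzero hne
  have hrev : (f.map σ).reverse = f.reverse.map σ := by rw [reverse, reverse, natDegree_map, reflect_map]
  have h3 := (eval₂_reverse_eq_zero_iff (algebraMap F K) (τ α) (f.map σ)).mpr h1
  rw [invOf_eq_inv, hrev] at h3
  rw [dual, map_mul, aeval_def, aeval_def, h3, mul_zero]

/-- When are the factors of `X^r - 1` self-dual? -/
theorem dual_eq_self_iff {F : Type u} [Field F] (σ : F →+* F) [Fintype F] [DecidableEq F] (hσ : ∀ a, σ (σ a) = a) {r : ℕ} (hr : r.Prime) (hrF : (r : F) ≠ 0)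
    {e : ℕ} (he : ∀ K : Type u, ∀ (_ : Field K) (_ : Algebra F K), ∃ τ : K →+* K,
      (∀ c, τ (algebraMap F K c) = algebraMap F K (σ c)) ∧ ∀ x, τ x = x ^ e)
    {f : F[X]} (hf : f ∈ cycFactors F r) :
    dual σ f = f ↔ ∃ j : ℕ, (Fintype.card F : ZMod r) ^ j = -(e : ZMod r) := by
  obtain ⟨hfm, hfi, hfr, hf1, -, -⟩ := (cycFactors_spec (F := F) hr hrF).1 f hf
  obtain ⟨-, hroot⟩ := UniComm.natDegree_factor hr hrF hfi hfr hf1
  obtain ⟨hα1, hαne⟩ := hroot _ rfl
  haveI : Fact (Irreducible f) := ⟨hfi⟩
  haveI : Fact r.Prime := ⟨hr⟩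
  haveI : Module.Finite F (AdjoinRoot f) := (AdjoinRoot.powerBasis hfi.ne_zero).finite
  haveI : Finite (AdjoinRoot f) := Module.finite_of_finite F
  obtain ⟨p, hp⟩ := CharP.exists F
  haveI : Fact p.Prime := ⟨CharP.char_is_prime F p⟩
  set α := AdjoinRoot.root f with hα
  have hα0 : α ≠ 0 := fun h => by rw [h, zero_pow hr.ne_zero] at hα1; exact zero_ne_one hα1
  have hord : orderOf α = r := orderOf_eq_prime hα1 hαne
  have hαf : aeval α f = 0 := by rw [hα, AdjoinRoot.aeval_eq, AdjoinRoot.mk_self]
  obtain ⟨τ, hτ, hτe⟩ := he (AdjoinRoot f) inferInstance inferInstance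
  have hβ : aeval (τ α)⁻¹ (dual σ f) = 0 := aeval_dual_root σ τ hτ hα0 hαf
  rw [hτe] at hβ
  have hf0 : f.coeff 0 ≠ 0 := coeff_zero_ne_of_dvd hfr (by
    rw [coeff_sub, coeff_X_pow, if_neg hr.pos.ne, coeff_one_zero, zero_sub]
    exact neg_ne_zero.mpr one_ne_zero)
  have hpow : ∀ a b : ℕ, α ^ a * α ^ b = 1 ↔ (a : ZMod r) + b = 0 := fun a b => by
    rw [← pow_add, ← orderOf_dvd_iff_pow_eq_one, hord, ← ZMod.natCast_eq_zero_iff, Nat.cast_add]
  constructor
  · intro h
    rw [h] at hβ
    have hmin : minpoly F ((α ^ e)⁻¹) = f := (minpoly.eq_of_irreducible_of_monic hfi hβ hfm).symm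
    obtain ⟨g, hg⟩ := minpoly.exists_algEquiv_of_root (K := F) (L := AdjoinRoot f) (x := α) (y := (α ^ e)⁻¹)
      (Algebra.IsAlgebraic.isAlgebraic _) (by rw [hmin]; exact hαf)
    obtain ⟨j, hj⟩ := FiniteField.exists_forall_apply_eq_pow (k := F) p (AdjoinRoot f) g
    rw [hj, Nat.card_eq_fintype_card] at hg
    refine ⟨j, ?_⟩
    have h1 : α ^ (Fintype.card F ^ j) * α ^ e = 1 := by rw [hg, inv_mul_cancel₀ (pow_ne_zero _ hα0)]
    rw [hpow, Nat.cast_pow] at h1
    exact eq_neg_of_add_eq_zero_left h1
  · rintro ⟨j, hj⟩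
    have h1 : α ^ (Fintype.card F ^ j) * α ^ e = 1 := by
      rw [hpow, Nat.cast_pow, hj, neg_add_cancel]
    have h2 : aeval (α ^ (Fintype.card F ^ j)) f = 0 := by
      clear hj h1
      induction j with
      | zero => rwa [pow_zero, pow_one]
      | succ j ih => rw [pow_succ, pow_mul, ← Polynomial.expand_aeval, FiniteField.expand_card, map_pow, ih,
          zero_pow Fintype.card_pos.ne']
    rw [eq_inv_of_mul_eq_one_left h1] at h2
    have hi := irreducible_dual σ hσ hfi hfm hf0
    exact (minpoly.eq_of_irreducible_of_monic hi hβ (monic_dual σ hf0)).trans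
      (minpoly.eq_of_irreducible_of_monic hfi h2 hfm).symm

end Cfsg.Agent.GLSemi
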