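import Cfsg.Agent.Lib.GLSemisimple.Conj

/-!
Classes of `GL_n` and `SL_n` over a finite field made of elements killed by `X^N - 1`, `N` prime to the
characteristic, correspond to monic polynomials of degree `n` whose irreducible factors divide `X^N - 1`.
-/

set_option autoImplicit false

namespace Cfsg.Agent.GLSemi

open Polynomial Matrix Module

variable {F : Type*} [Field F]

theorem isSemisimple_of_pow_eq_one {n N : ℕ} (hN : (N : F) ≠ 0) {M : Matrix (Fin n) (Fin n) F}
    (hM : M ^ N = 1) : Module.End.IsSemisimple (Matrix.toLin' M) := by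
  refine Module.End.isSemisimple_of_squarefree_aeval_eq_zero (p := X ^ N - 1)
    ((separable_X_pow_sub_C (1 : F) hN one_ne_zero).squarefree |> fun h => by simpa using h) ?_
  rw [map_sub, map_pow, aeval_X, map_one, ← Matrix.toLin'_pow, hM, Matrix.toLin'_one, ← Module.End.one_eq_id,
    sub_self]

/-- Two matrices of finite order prime to the characteristic with the same characteristic polynomial are
conjugate, by a matrix of any prescribed nonzero determinant when the field is finite. -/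
theorem exists_conj_det [Finite F] {n N : ℕ} (hn : 0 < n) (hN : (N : F) ≠ 0) {A B : Matrix (Fin n) (Fin n) F}
    (hA : A ^ N = 1) (hB : B ^ N = 1) (hc : A.charpoly = B.charpoly) {d : F} (hd : d ≠ 0) :
    ∃ X : Matrix (Fin n) (Fin n) F, X.det = d ∧ X * A = B * X := by
  have hA' := isSemisimple_of_pow_eq_one hN hA
  obtain ⟨e, he⟩ := exists_equiv_of_charpoly_eq _ _ hA' (isSemisimple_of_pow_eq_one hN hB)
    (by rw [Matrix.charpoly_toLin', Matrix.charpoly_toLin', hc])
  let E := LinearMap.toMatrix' (e : (Fin n → F) →ₗ[F] (Fin n → F))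
  have hE : E.det ≠ 0 := by
    rw [LinearMap.det_toMatrix']
    exact (LinearEquiv.isUnit_det' e).ne_zero
  have hEA : E * A = B * E := Matrix.toLin'.injective (by
    rw [Matrix.toLin'_mul, Matrix.toLin'_mul, Matrix.toLin'_toMatrix']
    exact LinearMap.ext he)
  obtain ⟨c, hc1, hc2⟩ := exists_commuting_det_eq (by simpa using hn) _ hA' (d / E.det)
  refine ⟨E * LinearMap.toMatrix' c, ?_, ?_⟩
  · rw [Matrix.det_mul, show (LinearMap.toMatrix' c).det = d / E.det by rw [LinearMap.det_toMatrix', hc2],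
      mul_div_cancel₀ _ hE]
  · have h : LinearMap.toMatrix' c * A = A * LinearMap.toMatrix' c := Matrix.toLin'.injective (by
      rw [Matrix.toLin'_mul, Matrix.toLin'_mul, Matrix.toLin'_toMatrix']
      exact hc1)
    rw [mul_assoc, h, ← mul_assoc, hEA, mul_assoc]

theorem factor_dvd_of_pow_eq_one {n N : ℕ} {M : Matrix (Fin n) (Fin n) F} (hM : M ^ N = 1) {f : F[X]}
    (hf : Irreducible f) (hdvd : f ∣ M.charpoly) : f ∣ X ^ N - 1 := by
  obtain ⟨v, hv, hfv⟩ := exists_ne_zero_aeval_apply_eq_zero (Matrix.toLin' M) hf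
    (by rwa [Matrix.charpoly_toLin'])
  by_contra hnd
  obtain ⟨a, b, hab⟩ := hf.coprime_iff_not_dvd.mpr hnd
  have h := congrArg (fun P => aeval (Matrix.toLin' M) P v) hab
  simp only [map_add, map_mul, map_one, LinearMap.add_apply, Module.End.mul_apply, hfv, map_zero,
    Module.End.one_apply, map_sub, map_pow, aeval_X] at h
  rw [← Matrix.toLin'_pow, hM, Matrix.toLin'_one, ← Module.End.one_eq_id, sub_self] at h
  exact hv (by simpa using h.symm)

/-- Block realisation of a monic polynomial whose irreducible factors divide `X^N - 1`. -/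
theorem exists_matrix_pow_eq_one (N : ℕ) : ∀ (n : ℕ) (P : F[X]), P.Monic → P.natDegree = n →
    (∀ f : F[X], Irreducible f → f ∣ P → f ∣ X ^ N - 1) →
    ∃ M : Matrix (Fin n) (Fin n) F, M.charpoly = P ∧ M ^ N = 1 := by
  intro n
  induction' n using Nat.strong_induction_on with n ih
  intro P hP hdeg hall
  rcases Nat.eq_zero_or_pos n with rfl | hn
  · exact ⟨1, by rw [hP.natDegree_eq_zero.mp hdeg, Matrix.charpoly, Matrix.det_fin_zero], Subsingleton.elim _ _⟩
  obtain ⟨f, hfm, hfi, hfd⟩ := Polynomial.exists_monic_irreducible_factor P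
    (fun h => by have := natDegree_eq_zero_of_isUnit h; omega)
  obtain ⟨Q, rfl⟩ := hfd
  have hQ : Q.Monic := hfm.of_mul_monic_left hP
  have hdeg' : f.natDegree + Q.natDegree = n := by rw [← hfm.natDegree_mul hQ, hdeg]
  have hfpos := hfi.natDegree_pos
  obtain ⟨M₂, hM₂c, hM₂⟩ := ih Q.natDegree (by omega) Q hQ rfl
    (fun g hg hgd => hall g hg (hgd.mul_left f))
  haveI : Fact (Irreducible f) := ⟨hfi⟩
  let pb := AdjoinRoot.powerBasis hfi.ne_zero
  let M₁ := Algebra.leftMulMatrix pb.basis pb.gen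
  have hM₁c : M₁.charpoly = f := by
    rw [charpoly_leftMulMatrix, AdjoinRoot.powerBasis_gen, AdjoinRoot.minpoly_root hfi.ne_zero,
      hfm.leadingCoeff, inv_one, map_one, mul_one]
  have hM₁ : M₁ ^ N = 1 := by
    have h0 : AdjoinRoot.root f ^ N - 1 = 0 := by
      obtain ⟨c, hc⟩ := hall f hfi (dvd_mul_right f Q)
      have := congrArg (AdjoinRoot.mk f) hc
      simpa using this
    rw [← map_pow, AdjoinRoot.powerBasis_gen, sub_eq_zero.mp h0, map_one]
  let e : Fin pb.dim ⊕ Fin Q.natDegree ≃ Fin n :=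
    finSumFinEquiv.trans (finCongr (by rw [AdjoinRoot.powerBasis_dim]; exact hdeg'))
  refine ⟨Matrix.reindexAlgEquiv F F e (Matrix.fromBlocks M₁ 0 0 M₂), ?_, ?_⟩
  · rw [Matrix.reindexAlgEquiv_apply, Matrix.charpoly_reindex, Matrix.charpoly_fromBlocks_zero₁₂, hM₁c, hM₂c]
  · have hb : ∀ k : ℕ, (Matrix.fromBlocks M₁ 0 0 M₂) ^ k = Matrix.fromBlocks (M₁ ^ k) 0 0 (M₂ ^ k) := by
      intro k
      induction k with
      | zero => simp [Matrix.fromBlocks_one]
      | succ k ihk => simp [pow_succ, ihk, Matrix.fromBlocks_multiply]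
    rw [← map_pow, hb, hM₁, hM₂, Matrix.fromBlocks_one, map_one]

/-- Polynomials admissible as characteristic polynomials of elements killed by `X^N - 1`. -/
def AdmPoly (F : Type*) [Field F] (n N : ℕ) : Set F[X] :=
  {P | P.Monic ∧ P.natDegree = n ∧ ∀ f : F[X], Irreducible f → f ∣ P → f ∣ X ^ N - 1}

theorem card_classes_GL [Finite F] {n N : ℕ} (hn : 0 < n) (hN : (N : F) ≠ 0) :
    Nat.card {c : ConjClasses (GL (Fin n) F) // ∃ g, ConjClasses.mk g = c ∧ g ^ N = 1} =
      Nat.card ↥(AdmPoly F n N) := by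
  let cp : ConjClasses (GL (Fin n) F) → F[X] :=
    Quotient.lift (fun g : GL (Fin n) F => (g : Matrix (Fin n) (Fin n) F).charpoly) (fun g h hgh => by
      obtain ⟨x, hx⟩ := isConj_iff.mp hgh
      rw [← hx, Units.val_mul, Units.val_mul, Matrix.coe_units_inv]
      exact (Matrix.charpoly_units_conj x _).symm)
  refine Nat.card_congr (Equiv.ofBijective (fun c => ⟨cp c.1, ?_⟩) ⟨?_, ?_⟩)
  · obtain ⟨g, hg, hgN⟩ := c.2
    rw [← hg]
    have hM : (g : Matrix (Fin n) (Fin n) F) ^ N = 1 := by rw [← Units.val_pow_eq_pow_val, hgN, Units.val_one]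
    exact ⟨Matrix.charpoly_monic _, (Matrix.charpoly_natDegree_eq_dim _).trans (Fintype.card_fin n),
      fun f hf hfd => factor_dvd_of_pow_eq_one hM hf hfd⟩
  · rintro ⟨_, g, rfl, hg⟩ ⟨_, h, rfl, hh⟩ heq
    have heq' : (g : Matrix (Fin n) (Fin n) F).charpoly = (h : Matrix (Fin n) (Fin n) F).charpoly :=
      congrArg Subtype.val heq
    obtain ⟨X, hX1, hX2⟩ := exists_conj_det hn hN (by rw [← Units.val_pow_eq_pow_val, hg, Units.val_one])
      (by rw [← Units.val_pow_eq_pow_val, hh, Units.val_one]) heq' one_ne_zero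
    apply Subtype.ext
    refine ConjClasses.mk_eq_mk_iff_isConj.mpr (isConj_iff.mpr
      ⟨Matrix.GeneralLinearGroup.mkOfDetNeZero X (by rw [hX1]; exact one_ne_zero), ?_⟩)
    rw [mul_inv_eq_iff_eq_mul]
    exact Units.ext hX2
  · rintro ⟨P, hP, hdeg, hall⟩
    obtain ⟨M, hMc, hMN⟩ := exists_matrix_pow_eq_one N n P hP hdeg hall
    have hN0 : N ≠ 0 := fun h => hN (by rw [h, Nat.cast_zero])
    let g : GL (Fin n) F := Units.ofPowEqOne M N hMN hN0
    exact ⟨⟨ConjClasses.mk g, g, rfl, Units.pow_ofPowEqOne hMN hN0⟩, Subtype.ext hMc⟩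

theorem charpoly_coeff_zero {n : ℕ} (M : Matrix (Fin n) (Fin n) F) :
    M.charpoly.coeff 0 = (-1) ^ n * M.det := by
  rw [Matrix.det_eq_sign_charpoly_coeff, ← mul_assoc, Fintype.card_fin, ← mul_pow, neg_one_mul, neg_neg, one_pow,
    one_mul]

theorem card_classes_SL [Finite F] {n N : ℕ} (hn : 0 < n) (hN : (N : F) ≠ 0) :
    Nat.card {c : ConjClasses (Matrix.SpecialLinearGroup (Fin n) F) //
        ∃ g, ConjClasses.mk g = c ∧ g ^ N = 1} =
      Nat.card {P : F[X] // P ∈ AdmPoly F n N ∧ P.coeff 0 = (-1) ^ n} := by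
  let cp : ConjClasses (Matrix.SpecialLinearGroup (Fin n) F) → F[X] :=
    Quotient.lift (fun g : Matrix.SpecialLinearGroup (Fin n) F => (g : Matrix (Fin n) (Fin n) F).charpoly)
      (fun g h hgh => by
        obtain ⟨x, hx⟩ := isConj_iff.mp hgh
        rw [← hx]
        show _ = ((Matrix.SpecialLinearGroup.toGL (x * g * x⁻¹) : GL (Fin n) F) :
          Matrix (Fin n) (Fin n) F).charpoly
        rw [map_mul, map_mul, map_inv, Units.val_mul, Units.val_mul, Matrix.coe_units_inv]
        exact (Matrix.charpoly_units_conj _ _).symm)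
  refine Nat.card_congr (Equiv.ofBijective (fun c => ⟨cp c.1, ?_⟩) ⟨?_, ?_⟩)
  · obtain ⟨g, hg, hgN⟩ := c.2
    rw [← hg]
    have hM : (g : Matrix (Fin n) (Fin n) F) ^ N = 1 := by
      rw [← Matrix.SpecialLinearGroup.coe_pow, hgN, Matrix.SpecialLinearGroup.coe_one]
    refine ⟨⟨Matrix.charpoly_monic _, (Matrix.charpoly_natDegree_eq_dim _).trans (Fintype.card_fin n),
      fun f hf hfd => factor_dvd_of_pow_eq_one hM hf hfd⟩, ?_⟩
    exact (charpoly_coeff_zero _).trans (by rw [g.prop, mul_one])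
  · rintro ⟨_, g, rfl, hg⟩ ⟨_, h, rfl, hh⟩ heq
    have heq' : (g : Matrix (Fin n) (Fin n) F).charpoly = (h : Matrix (Fin n) (Fin n) F).charpoly :=
      congrArg Subtype.val heq
    obtain ⟨X, hX1, hX2⟩ := exists_conj_det hn hN
      (by rw [← Matrix.SpecialLinearGroup.coe_pow, hg, Matrix.SpecialLinearGroup.coe_one])
      (by rw [← Matrix.SpecialLinearGroup.coe_pow, hh, Matrix.SpecialLinearGroup.coe_one]) heq' one_ne_zero
    apply Subtype.ext
    let x : Matrix.SpecialLinearGroup (Fin n) F := ⟨X, hX1⟩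
    refine ConjClasses.mk_eq_mk_iff_isConj.mpr (isConj_iff.mpr ⟨x, ?_⟩)
    rw [mul_inv_eq_iff_eq_mul]
    exact Subtype.ext hX2
  · rintro ⟨P, ⟨hP, hdeg, hall⟩, h0⟩
    obtain ⟨M, hMc, hMN⟩ := exists_matrix_pow_eq_one N n P hP hdeg hall
    have hdet : M.det = 1 := by
      have h := charpoly_coeff_zero M
      rw [hMc, h0] at h
      exact (mul_right_eq_self₀.mp h.symm).resolve_right (pow_ne_zero _ (neg_ne_zero.mpr one_ne_zero))
    let g : Matrix.SpecialLinearGroup (Fin n) F := ⟨M, hdet⟩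
    exact ⟨⟨ConjClasses.mk g, g, rfl, Subtype.ext (by rw [Matrix.SpecialLinearGroup.coe_pow]; exact hMN)⟩,
      Subtype.ext hMc⟩

end Cfsg.Agent.GLSemi
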