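import Cfsg.Agent.Lib.GLSemisimple.UnipotentCommute
import Cfsg.Agent.Lib.GLSemisimple.Classes
import Cfsg.Agent.Lib.Unitary.Center
import Cfsg.Agent.Lib.Unitary.Count
import Cfsg.Agent.AutPSU.Descent
import Cfsg.Agent.Lib.LinearGroup.Card

/-!
Primes of elements commuting with an element of order `p` in `PSL_n(q)` and `PSU_n(q)`.
-/

set_option autoImplicit false

namespace Cfsg.Agent.CommuteP

open Polynomial Matrix

variable {F : Type*} [Field F] [Fintype F]

/-- Lifting a commuting pair. -/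
theorem lift_pair {p : ℕ} [Fact p.Prime] [CharP F p] {n : ℕ} [NeZero n] {G Q : Type*} [Group G] [Finite G] [Group Q]
    (π : G →* Q) (hπ : Function.Surjective π) (ρ : G →* Matrix (Fin n) (Fin n) F) (hρ : Function.Injective ρ)
    (hker : ∀ x ∈ π.ker, ∃ c : F, ρ x = Matrix.scalar (Fin n) c)
    {a b : Q} (ha : orderOf a = p) (hab : Commute a b) {r : ℕ} (hr : r.Prime) (hrp : r ≠ p)
    (hrF : ¬ r ∣ Fintype.card F - 1) (hrb : r ∣ orderOf b) :
    ∃ (A : Matrix (Fin n) (Fin n) F) (y : G), IsNilpotent (A - 1) ∧ A - 1 ≠ 0 ∧ ρ y ^ r = 1 ∧ ρ y ≠ 1 ∧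
      Commute (A - 1) (ρ y) := by
  have hp : p.Prime := Fact.out
  set N := Fintype.card F - 1 with hN
  obtain ⟨f, -, hcard⟩ := FiniteField.card F p
  have hNp : N.Coprime p := by
    rw [Nat.coprime_comm, hp.coprime_iff_not_dvd]
    intro hd
    have h1 : p ∣ Fintype.card F := hcard ▸ dvd_pow_self p f.ne_zero
    have h2 := Nat.dvd_sub h1 hd
    rw [hN, Nat.sub_sub_self Fintype.card_pos] at h2
    exact hp.not_dvd_one h2
  have hkN : ∀ x ∈ π.ker, x ^ N = 1 := by
    intro x hx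
    obtain ⟨c, hc⟩ := hker x hx
    apply hρ
    rw [map_pow, map_one, hc, ← map_pow]
    have hc0 : c ≠ 0 := by
      rintro rfl
      have h1 : ρ x * ρ x⁻¹ = 1 := by rw [← map_mul, mul_inv_cancel, map_one]
      rw [hc, map_zero, zero_mul] at h1
      exact zero_ne_one h1
    rw [hN, FiniteField.pow_card_sub_one_eq_one c hc0, map_one]
  obtain ⟨A₀, rfl⟩ := hπ a
  obtain ⟨B, rfl⟩ := hπ b
  have hAN : A₀ ^ (p * N) = 1 := by
    rw [pow_mul]
    exact hkN _ (by rw [MonoidHom.mem_ker, map_pow, ← ha, pow_orderOf_eq_one])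
  set A := A₀ ^ N with hA
  have hAp : A ^ p = 1 := by rw [hA, ← pow_mul, mul_comm, hAN]
  have hA1 : A ≠ 1 := by
    intro h
    have h1 := congrArg π h
    rw [hA, map_pow, map_one] at h1
    have h2 := orderOf_dvd_of_pow_eq_one h1
    rw [ha] at h2
    exact hp.coprime_iff_not_dvd.mp hNp.symm h2
  -- `A` and `B` commute
  have hz : B * A * B⁻¹ * A⁻¹ ∈ π.ker := by
    rw [MonoidHom.mem_ker, map_mul, map_mul, map_mul, map_inv, map_inv, hA, map_pow,
      (hab.symm.pow_right N).eq, mul_inv_cancel_right, mul_inv_cancel]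
  have hcomm : B * A = A * B := by
    obtain ⟨c, hc⟩ := hker _ hz
    have hzc : Commute (B * A * B⁻¹ * A⁻¹) A := by
      generalize B * A * B⁻¹ * A⁻¹ = z at hc
      apply hρ
      rw [map_mul, map_mul, hc]
      exact (Matrix.scalar_commute c (Commute.all c) _).eq
    have h1 : (B * A * B⁻¹ * A⁻¹) ^ p = 1 := by
      have h2 : B * A * B⁻¹ = B * A * B⁻¹ * A⁻¹ * A := by group
      have h3 : (B * A * B⁻¹) ^ p = 1 := by rw [conj_pow, hAp, mul_one, mul_inv_cancel]
      rw [h2, hzc.mul_pow, hAp, mul_one] at h3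
      exact h3
    have h4 : B * A * B⁻¹ * A⁻¹ = 1 := by
      rw [← orderOf_eq_one_iff]
      exact Nat.eq_one_of_dvd_coprimes hNp (orderOf_dvd_of_pow_eq_one (hkN _ hz)) (orderOf_dvd_of_pow_eq_one h1)
    rw [mul_inv_eq_one, mul_inv_eq_iff_eq_mul] at h4
    exact h4
  have hrB : r ∣ orderOf B := hrb.trans (orderOf_map_dvd π B)
  set y := B ^ (orderOf B / r) with hy
  have hyr : orderOf y = r := orderOf_pow_orderOf_div (orderOf_pos B).ne' hrB
  refine ⟨ρ A, y, ⟨p, ?_⟩, ?_, ?_, ?_, ?_⟩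
  · rw [sub_pow_char_of_commute (R := Matrix (Fin n) (Fin n) F) (p := p) (Commute.one_right (ρ A)), one_pow,
      ← map_pow, hAp, map_one, sub_self]
  · rw [sub_ne_zero]
    exact fun h => hA1 (hρ (by rw [h, map_one]))
  · rw [← map_pow, ← hyr, pow_orderOf_eq_one, map_one]
  · intro h
    have := hρ (h.trans (map_one ρ).symm)
    rw [this, orderOf_one] at hyr
    exact hr.ne_one hyr.symm
  · refine Commute.sub_left ?_ (Commute.one_left _)
    have hc : Commute A y := (show Commute A B from hcomm.symm).pow_right _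
    exact hc.map ρ

omit [Fintype F] in
theorem exists_factor_ne {n r : ℕ} (hrF : (r : F) ≠ 0) {M : Matrix (Fin n) (Fin n) F} (hM : M ^ r = 1) (hM1 : M ≠ 1) :
    ∃ f : F[X], Irreducible f ∧ f.Monic ∧ f ∣ M.charpoly ∧ f ∣ X ^ r - 1 ∧ ¬ f ∣ X - 1 := by
  classical
  set Φ : F[X] := ∑ i ∈ Finset.range r, X ^ i with hΦ
  have hgeom : Φ * (X - 1) = X ^ r - 1 := geom_sum_mul X r
  obtain ⟨v, hv⟩ : ∃ v, ((M - 1) *ᵥ v) ≠ 0 := by
    by_contra h
    push Not at h
    exact hM1 (sub_eq_zero.mp (Matrix.ext_of_mulVec_single fun i => by rw [h, Matrix.zero_mulVec]))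
  set w := (M - 1) *ᵥ v with hw
  have hΦw : aeval (Matrix.toLin' M) Φ w = 0 := by
    have hw' : w = aeval (Matrix.toLin' M) (X - 1 : F[X]) v := by
      rw [map_sub, aeval_X, map_one, LinearMap.sub_apply, Matrix.toLin'_apply, Module.End.one_apply, hw,
        Matrix.sub_mulVec, Matrix.one_mulVec]
    rw [hw', ← Module.End.mul_apply, ← map_mul, hgeom, map_sub, map_pow, aeval_X, map_one, ← Matrix.toLin'_pow, hM,
      Matrix.toLin'_one, ← Module.End.one_eq_id, sub_self, LinearMap.zero_apply]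
  have hnc : ¬ IsCoprime Φ M.charpoly := by
    rintro ⟨a, b, hab⟩
    have h := congrArg (fun R => aeval (Matrix.toLin' M) R w) hab
    have hcp : aeval (Matrix.toLin' M) M.charpoly = 0 := by
      rw [← Matrix.charpoly_toLin' M, LinearMap.aeval_self_charpoly]
    simp only [map_add, map_mul, map_one, LinearMap.add_apply, Module.End.mul_apply, hΦw, hcp, LinearMap.zero_apply,
      map_zero, add_zero, Module.End.one_apply] at h
    exact hv h.symm
  obtain ⟨g, hg, hgd, hgc⟩ : ∃ g, Irreducible g ∧ g ∣ Φ ∧ g ∣ M.charpoly := by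
    by_contra hcon
    push Not at hcon
    exact hnc (isCoprime_of_irreducible_dvd (fun h => (Matrix.charpoly_monic M).ne_zero h.2) fun z hz h1 h2 => hcon z hz h1 h2)
  refine ⟨normalize g, (associated_normalize g).irreducible hg, Polynomial.monic_normalize hg.ne_zero,
    normalize_dvd_iff.mpr hgc, normalize_dvd_iff.mpr (hgd.trans ⟨X - 1, hgeom.symm⟩), fun h => ?_⟩
  rw [normalize_dvd_iff] at h
  have hX : Irreducible (X - 1 : F[X]) := by rw [← C_1]; exact irreducible_X_sub_C 1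
  have h2 : (X - 1 : F[X]) ∣ Φ := ((hg.associated_of_dvd hX h).symm.dvd).trans hgd
  rw [← C_1, dvd_iff_isRoot, IsRoot, hΦ, eval_finsetSum] at h2
  simp at h2
  exact hrF h2

omit [Fintype F] in
theorem exists_sq_factor {n r : ℕ} (hrF : (r : F) ≠ 0) {A M : Matrix (Fin n) (Fin n) F} (hN : IsNilpotent (A - 1))
    (hN0 : A - 1 ≠ 0) (hM : M ^ r = 1) (hc : Commute (A - 1) M) :
    ∃ P : F[X], Irreducible P ∧ P * P ∣ M.charpoly := by
  obtain ⟨P, hP, hd⟩ := UniComm.exists_sq_dvd_charpoly (Matrix.toLin' M) (Matrix.toLinAlgEquiv' (A - 1))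
    (GLSemi.isSemisimple_of_pow_eq_one hrF hM) (hN.map _)
    (fun h => hN0 (Matrix.toLinAlgEquiv'.injective (h.trans (map_zero _).symm)))
    (hc.map (Matrix.toLinAlgEquiv' (R := F) (n := Fin n)))
  exact ⟨P, hP, by rwa [Matrix.charpoly_toLin'] at hd⟩

theorem natCast_ne_zero {p : ℕ} [Fact p.Prime] [CharP F p] {r : ℕ} (hr : r.Prime) (hrp : r ≠ p) : (r : F) ≠ 0 := by
  rw [Ne, CharP.cast_eq_zero_iff F p]
  exact fun h => hrp ((Nat.prime_dvd_prime_iff_eq Fact.out hr).mp h).symm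

theorem prime_mem_card_SL {p : ℕ} [Fact p.Prime] [CharP F p] {k : ℕ} (hk : 2 ≤ k) {r i : ℕ}
    (h : r = p ∨ (2 ≤ i ∧ i ≤ k ∧ r ∣ Fintype.card F ^ i - 1)) :
    r ∣ Nat.card (Matrix.SpecialLinearGroup (Fin k) F) := by
  obtain ⟨m, rfl⟩ : ∃ m, k = m + 1 := ⟨k - 1, by omega⟩
  rw [LinearGroup.card_SL_eq_pow_mul_prod, Nat.card_eq_fintype_card]
  rcases h with rfl | ⟨h2, hik, hd⟩
  · obtain ⟨f, -, hcard⟩ := FiniteField.card F r
    refine Dvd.dvd.mul_right (dvd_pow (hcard ▸ dvd_pow_self r f.ne_zero) fun h0 => ?_) _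
    rw [Finset.sum_eq_zero_iff] at h0
    have := h0 ⟨m, by omega⟩ (Finset.mem_univ _)
    simp only at this
    omega
  · refine Dvd.dvd.mul_left (hd.trans ?_) _
    have hm : i - 2 ∈ Finset.range m := Finset.mem_range.mpr (by omega)
    refine dvd_trans ?_ (Finset.dvd_prod_of_mem _ hm)
    rw [show i - 2 + 2 = i by omega]

theorem psl_commute {p : ℕ} [Fact p.Prime] [CharP F p] {n : ℕ} (hn : 4 ≤ n)
    {a b : Matrix.ProjectiveSpecialLinearGroup (Fin n) F} (ha : orderOf a = p) (hab : Commute a b) {r : ℕ}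
    (hr : r.Prime) (hrb : r ∣ orderOf b) : r ∣ Nat.card (Matrix.SpecialLinearGroup (Fin (n - 2)) F) := by
  classical
  haveI : NeZero n := ⟨by omega⟩
  haveI : Fact r.Prime := ⟨hr⟩
  by_cases hrp : r = p
  · exact prime_mem_card_SL (p := p) (i := 2) (by omega) (Or.inl hrp)
  by_cases hrF : r ∣ Fintype.card F - 1
  · exact prime_mem_card_SL (p := p) (i := 2) (by omega)
      (Or.inr ⟨le_rfl, by omega, hrF.trans (Nat.sub_one_dvd_pow_sub_one _ 2)⟩)
  let ρ : Matrix.SpecialLinearGroup (Fin n) F →* Matrix (Fin n) (Fin n) F :=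
    (Units.coeHom _).comp Matrix.SpecialLinearGroup.toGL
  obtain ⟨A, y, hN, hN0, hy, hy1, hc⟩ := lift_pair (p := p) (QuotientGroup.mk' _) (QuotientGroup.mk'_surjective _) ρ
    (fun x y h => Subtype.ext h) (fun x hx => by
      rw [QuotientGroup.ker_mk', Matrix.SpecialLinearGroup.mem_center_iff] at hx
      obtain ⟨c, -, hc⟩ := hx
      exact ⟨c, hc.symm⟩) ha hab hr hrp hrF hrb
  have hr0 := natCast_ne_zero (F := F) (p := p) hr hrp
  obtain ⟨f, hfi, hfm, hfc, hfr, hf1⟩ := exists_factor_ne hr0 hy hy1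
  obtain ⟨hd, -⟩ := UniComm.natDegree_factor hr hr0 hfi hfr hf1
  obtain ⟨P, hP, hPP⟩ := exists_sq_factor hr0 hN hN0 hy hc
  have hd2 : 2 ≤ f.natDegree := by
    have h0 := hfi.natDegree_pos
    rcases Nat.lt_or_ge f.natDegree 2 with h | h
    · exfalso
      apply hrF
      have h1 : f.natDegree = 1 := by omega
      rw [hd] at h1
      rw [← ZMod.natCast_eq_zero_iff, Nat.cast_sub Fintype.card_pos, Nat.cast_one, sub_eq_zero]
      exact orderOf_eq_one_iff.mp h1
    · exact h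
  have hne := (Matrix.charpoly_monic (ρ y)).ne_zero
  have hdeg : (ρ y).charpoly.natDegree = n := (Matrix.charpoly_natDegree_eq_dim _).trans (Fintype.card_fin n)
  have hbound : f.natDegree + 2 ≤ n := by
    by_cases hfP : Associated f P
    · have h := natDegree_le_of_dvd ((mul_dvd_mul hfP.dvd hfP.dvd).trans hPP) hne
      rw [natDegree_mul hfi.ne_zero hfi.ne_zero, hdeg] at h
      omega
    · have hco : IsCoprime f (P * P) := by
        have h1 : IsCoprime f P := hfi.coprime_iff_not_dvd.mpr fun h => hfP (hfi.associated_of_dvd hP h)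
        exact h1.mul_right h1
      have h := natDegree_le_of_dvd (hco.mul_dvd hfc hPP) hne
      rw [natDegree_mul hfi.ne_zero (mul_ne_zero hP.ne_zero hP.ne_zero), natDegree_mul hP.ne_zero hP.ne_zero, hdeg] at h
      have := hP.natDegree_pos
      omega
  refine prime_mem_card_SL (p := p) (i := f.natDegree) (by omega) (Or.inr ⟨hd2, by omega, ?_⟩)
  rw [← ZMod.natCast_eq_zero_iff, Nat.cast_sub (Nat.one_le_pow _ _ Fintype.card_pos), Nat.cast_pow, Nat.cast_one,
    hd, pow_orderOf_eq_one, sub_self]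

section unitary

variable {q : ℕ}

/-- The factors of `|GU_k(q)|`. -/
def uFac (q i : ℕ) : ℕ := if Even i then q ^ i - 1 else q ^ i + 1

theorem prime_mem_card_SU {p : ℕ} [Fact p.Prime] [CharP F p] (hF : Fintype.card F = q ^ 2) {k : ℕ} (hk : 2 ≤ k)
    {r i : ℕ} (hr : r.Prime) (h : r = p ∨ (2 ≤ i ∧ i ≤ k ∧ r ∣ uFac q i)) :
    r ∣ Nat.card ↥(Cfsg.SU k F q) := by
  obtain ⟨f, -, hcard⟩ := FiniteField.card F p
  have hq : 1 < q := by
    have := Fintype.one_lt_card (α := F)
    rw [hF] at this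
    nlinarith
  have hpq : p ∣ q := (Fact.out : p.Prime).dvd_of_dvd_pow (hF ▸ hcard ▸ dvd_pow_self p f.ne_zero)
  have hGU := Unitary.card_GU hF k
  rw [← Unitary.card_SU_mul hF (by omega)] at hGU
  obtain ⟨m, rfl⟩ : ∃ m, k = m + 1 := ⟨k - 1, by omega⟩
  rw [Finset.prod_range_succ'] at hGU
  simp only [Even.zero, if_true, zero_add, pow_one] at hGU
  rw [← mul_assoc, mul_comm (q + 1)] at hGU
  have hSU := Nat.eq_of_mul_eq_mul_right (show 0 < q + 1 by omega) hGU
  rw [hSU]
  rcases h with rfl | ⟨h2, hik, hd⟩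
  · refine Dvd.dvd.mul_right (dvd_pow hpq ?_) _
    have : 2 ≤ (m + 1) * (m + 1 - 1) := by rw [Nat.add_sub_cancel]; nlinarith
    omega
  · refine Dvd.dvd.mul_left (hd.trans ?_) _
    have hm : i - 2 ∈ Finset.range m := Finset.mem_range.mpr (by omega)
    refine dvd_trans (dvd_of_eq ?_) (Finset.dvd_prod_of_mem _ hm)
    rw [uFac, show i - 2 + 1 + 1 = i by omega]
    have : Even (i - 2 + 1) ↔ ¬ Even i := by
      simp only [Nat.even_iff]; omega
    by_cases he : Even i
    · rw [if_pos he, if_neg fun h => this.mp h he]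
    · rw [if_neg he, if_pos (this.mpr he)]

theorem dvd_uFac_of_neg_pow {r e : ℕ} [Fact r.Prime] (hq : 0 < q) (h : (-(q : ZMod r)) ^ e = 1) : r ∣ uFac q e := by
  rw [uFac, ← ZMod.natCast_eq_zero_iff]
  split_ifs with he
  · rw [Nat.cast_sub (Nat.one_le_pow _ _ hq), Nat.cast_pow, Nat.cast_one, ← he.neg_pow, h, sub_self]
  · rw [Nat.not_even_iff_odd] at he
    rw [Nat.cast_add, Nat.cast_pow, Nat.cast_one, add_eq_zero_iff_eq_neg, ← h, he.neg_pow, neg_neg]

theorem dual_root {n r : ℕ} (hF : Fintype.card F = q ^ 2) {g : GL (Fin n) F}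
    (hg : g ∈ Cfsg.GU n F q) (hr : 0 < r) (hgr : (g : Matrix (Fin n) (Fin n) F) ^ r = 1)
    {K : Type*} [Field K] [Algebra F K] {α : K} (hα : aeval α (g : Matrix (Fin n) (Fin n) F).charpoly = 0) :
    aeval (α⁻¹ ^ q) (g : Matrix (Fin n) (Fin n) F).charpoly = 0 := by
  classical
  obtain ⟨p, hp⟩ := CharP.exists F
  haveI : Fact p.Prime := ⟨CharP.char_is_prime F p⟩
  haveI : CharP K p := charP_of_injective_algebraMap (algebraMap F K).injective p
  obtain ⟨f, -, hcard⟩ := FiniteField.card F p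
  obtain ⟨t, -, ht⟩ := (Nat.dvd_prime_pow Fact.out).mp
    (show q ∣ p ^ (f : ℕ) by rw [← hcard, hF]; exact dvd_pow_self q two_ne_zero) |> fun ⟨t, h1, h2⟩ =>
      (⟨t, h1, h2⟩ : ∃ t, t ≤ (f : ℕ) ∧ q = p ^ t)
  let M : Matrix (Fin n) (Fin n) K := (g : Matrix (Fin n) (Fin n) F).map (algebraMap F K)
  have hMr : M ^ r = 1 := by
    show ((algebraMap F K).mapMatrix (g : Matrix (Fin n) (Fin n) F)) ^ r = 1
    rw [← map_pow, hgr, map_one]
  have hroot : M.charpoly.IsRoot α := by
    rw [IsRoot, Matrix.charpoly_map, eval_map, ← aeval_def, hα]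
  -- `Mᵀ` is the inverse of the Frobenius image of `M`
  let σ : K →+* K := iterateFrobenius K p t
  have hσ : ∀ x, σ x = x ^ q := fun x => by rw [ht]; exact iterateFrobenius_def p t x
  have hgram : Mᵀ * M.map σ = 1 := by
    have h := congrArg ((algebraMap F K).mapMatrix) ((AutPSU.mem_GU_iff_gram hF).mp hg)
    rw [map_mul, map_one] at h
    rw [← h]
    congr 1
    ext i j
    simp [M, hσ, map_pow]
  have hσroot : (M.map σ).charpoly.IsRoot (α ^ q) := by
    rw [IsRoot, Matrix.charpoly_map, eval_map, ← hσ α, Polynomial.eval₂_at_apply,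
      show M.charpoly.eval α = 0 from hroot, map_zero]
  -- invert
  have hMσ : (M.map σ) = (Mᵀ) ^ (r - 1) := by
    have h1 : (Mᵀ) ^ r = 1 := by rw [← Matrix.transpose_pow, hMr, Matrix.transpose_one]
    calc M.map σ = (Mᵀ) ^ r * M.map σ := by rw [h1, one_mul]
      _ = (Mᵀ) ^ (r - 1) * (Mᵀ * M.map σ) := by rw [← mul_assoc, ← pow_succ, Nat.sub_add_cancel hr]
      _ = _ := by rw [hgram, mul_one]
  rw [← Matrix.mem_spectrum_iff_isRoot_charpoly] at hσroot
  have hu : IsUnit (Mᵀ) := IsUnit.of_pow_eq_one (by rw [← Matrix.transpose_pow, hMr, Matrix.transpose_one]) hr.ne'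
  have hinv : M.map σ = ((hu.unit⁻¹ : (Matrix (Fin n) (Fin n) K)ˣ) : Matrix (Fin n) (Fin n) K) := by
    refine (Units.inv_eq_of_mul_eq_one_right ?_).symm
    exact hgram
  have hα0 : α ^ q ≠ 0 := fun h0 => by
    rw [h0, hinv] at hσroot
    exact (spectrum.zero_notMem K (Units.isUnit _)) hσroot
  rw [hinv] at hσroot
  have h2 : (α ^ q)⁻¹ ∈ spectrum K (Mᵀ) := by
    have h3 := (spectrum.inv_mem_iff (R := K) (r := Units.mk0 _ hα0) (a := hu.unit⁻¹)).mp hσroot
    rw [inv_inv, IsUnit.unit_spec, Units.val_inv_eq_inv_val, Units.val_mk0] at h3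
    exact h3
  rw [Matrix.mem_spectrum_iff_isRoot_charpoly, Matrix.charpoly_transpose, IsRoot, Matrix.charpoly_map, eval_map,
    ← aeval_def, ← inv_pow] at h2
  exact h2

theorem psu_commute {p : ℕ} [Fact p.Prime] [CharP F p] {n : ℕ} (hn : 4 ≤ n) (hF : Fintype.card F = q ^ 2)
    {a b : Cfsg.PSU n F q} (ha : orderOf a = p) (hab : Commute a b) {r : ℕ}
    (hr : r.Prime) (hrb : r ∣ orderOf b) : r ∣ Nat.card ↥(Cfsg.SU (n - 2) F q) := by
  classical
  haveI : NeZero n := ⟨by omega⟩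
  haveI : Fact r.Prime := ⟨hr⟩
  have hq : 1 < q := by
    have := Fintype.one_lt_card (α := F)
    rw [hF] at this
    nlinarith
  by_cases hrp : r = p
  · exact prime_mem_card_SU (p := p) (i := 2) hF (by omega) hr (Or.inl hrp)
  by_cases hrF : r ∣ Fintype.card F - 1
  · refine prime_mem_card_SU (p := p) (i := 2) hF (by omega) hr (Or.inr ⟨le_rfl, by omega, ?_⟩)
    rw [hF] at hrF
    rwa [uFac, if_pos even_two]
  let ρ : ↥(Cfsg.SU n F q) →* Matrix (Fin n) (Fin n) F :=
    (Units.coeHom _).comp (Matrix.SpecialLinearGroup.toGL.comp (Cfsg.SU n F q).subtype)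
  obtain ⟨A, y, hN, hN0, hy, hy1, hc⟩ := lift_pair (p := p) (QuotientGroup.mk' _) (QuotientGroup.mk'_surjective _) ρ
    (fun x y h => Subtype.ext (Subtype.ext h)) (fun x hx => by
      rw [QuotientGroup.ker_mk', Unitary.mem_center_iff hF (by omega)] at hx
      obtain ⟨c, hc⟩ := hx
      refine ⟨c, Matrix.ext_of_mulVec_single fun i => ?_⟩
      refine (hc (Pi.single i 1)).trans ?_
      funext k
      simp [Matrix.scalar_apply, Matrix.mulVec_diagonal]) ha hab hr hrp hrF hrb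
  have hr0 := natCast_ne_zero (F := F) (p := p) hr hrp
  obtain ⟨f, hfi, hfm, hfc, hfr, hf1⟩ := exists_factor_ne hr0 hy hy1
  obtain ⟨hd, hroot⟩ := UniComm.natDegree_factor hr hr0 hfi hfr hf1
  obtain ⟨hα1, hαne⟩ := hroot _ rfl
  obtain ⟨P, hP, hPP⟩ := exists_sq_factor hr0 hN hN0 hy hc
  set e := f.natDegree with he
  have he2 : 2 ≤ e := by
    have h0 := hfi.natDegree_pos
    rcases Nat.lt_or_ge e 2 with h | h
    · exfalso
      apply hrF
      have h1 : e = 1 := by omega
      rw [hd] at h1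
      rw [← ZMod.natCast_eq_zero_iff, Nat.cast_sub Fintype.card_pos, Nat.cast_one, sub_eq_zero]
      exact orderOf_eq_one_iff.mp h1
    · exact h
  have hne := (Matrix.charpoly_monic (ρ y)).ne_zero
  have hdeg : (ρ y).charpoly.natDegree = n := (Matrix.charpoly_natDegree_eq_dim _).trans (Fintype.card_fin n)
  have hP0 := hP.natDegree_pos
  -- first bound
  have hbound : e + 2 ≤ n := by
    by_cases hfP : Associated f P
    · have h := natDegree_le_of_dvd ((mul_dvd_mul hfP.dvd hfP.dvd).trans hPP) hne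
      rw [natDegree_mul hfi.ne_zero hfi.ne_zero, hdeg] at h
      omega
    · have hco : IsCoprime f (P * P) := by
        have h1 : IsCoprime f P := hfi.coprime_iff_not_dvd.mpr fun h => hfP (hfi.associated_of_dvd hP h)
        exact h1.mul_right h1
      have h := natDegree_le_of_dvd (hco.mul_dvd hfc hPP) hne
      rw [natDegree_mul hfi.ne_zero (mul_ne_zero hP.ne_zero hP.ne_zero), natDegree_mul hP.ne_zero hP.ne_zero, hdeg] at h
      omega
  by_cases hsign : r ∣ uFac q e
  · exact prime_mem_card_SU (p := p) (i := e) hF (by omega) hr (Or.inr ⟨he2, by omega, hsign⟩)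
  -- the dual factor
  haveI : Fact (Irreducible f) := ⟨hfi⟩
  haveI : Module.Finite F (AdjoinRoot f) := (AdjoinRoot.powerBasis hfi.ne_zero).finite
  haveI : Finite (AdjoinRoot f) := Module.finite_of_finite F
  set α := AdjoinRoot.root f with hα
  have hα0 : α ≠ 0 := fun h => by rw [h, zero_pow hr.ne_zero] at hα1; exact zero_ne_one hα1
  have hord : orderOf α = r := orderOf_eq_prime hα1 hαne
  have hαf : aeval α f = 0 := by rw [hα, AdjoinRoot.aeval_eq, AdjoinRoot.mk_self]
  have hmin : minpoly F α = f := (minpoly.eq_of_irreducible_of_monic hfi hαf hfm).symm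
  set β := α⁻¹ ^ q with hβ
  have hβr : β ^ r = 1 := by rw [hβ, ← pow_mul, mul_comm, pow_mul, inv_pow α r, hα1, inv_one, one_pow]
  have hβP : aeval β (ρ y).charpoly = 0 :=
    dual_root hF (g := Matrix.SpecialLinearGroup.toGL y.1) y.2 hr.pos hy
      (aeval_eq_zero_of_dvd_aeval_eq_zero hfc hαf)
  have hnq : ¬ r ∣ q := fun hd' => hrp ((Nat.prime_dvd_prime_iff_eq hr (Fact.out : p.Prime)).mp (by
    obtain ⟨g', -, hcard⟩ := FiniteField.card F p
    exact hr.dvd_of_dvd_pow (hcard ▸ hF ▸ hd'.trans (dvd_pow_self q two_ne_zero))))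
  have hβne : β ≠ 1 := by
    intro h
    rw [hβ, inv_pow, inv_eq_one] at h
    exact hnq (hord ▸ orderOf_dvd_of_pow_eq_one h)
  set g := minpoly F β with hg
  have hgi : Irreducible g := minpoly.irreducible (Algebra.IsIntegral.isIntegral β)
  have hgc : g ∣ (ρ y).charpoly := minpoly.dvd F β hβP
  have hgr : g ∣ X ^ r - 1 := minpoly.dvd F β (by simp [hβr])
  have hg1 : ¬ g ∣ X - 1 := fun h => hβne (by
    have := aeval_eq_zero_of_dvd_aeval_eq_zero h (minpoly.aeval F β)
    simpa [sub_eq_zero] using this)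
  have hge : g.natDegree = e := (UniComm.natDegree_factor hr hr0 hgi hgr hg1).1.trans hd.symm
  have hfg : ¬ Associated f g := by
    intro h
    have hfg' : f = g := eq_of_monic_of_associated hfm (minpoly.monic (Algebra.IsIntegral.isIntegral β)) h
    obtain ⟨σ, hσ⟩ := minpoly.exists_algEquiv_of_root (K := F) (L := AdjoinRoot f) (x := β) (y := α)
      (Algebra.IsAlgebraic.isAlgebraic α) ((congrArg (aeval β) (hmin.trans hfg')).trans (minpoly.aeval F β))
    obtain ⟨j, hj⟩ := FiniteField.exists_forall_apply_eq_pow (k := F) p (AdjoinRoot f) σ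
    rw [hj, Nat.card_eq_fintype_card, hβ, hF, ← pow_mul, inv_pow] at hσ
    -- `(-q) · Q^j = 1` in `ZMod r`
    have h1 : α ^ (q * (q ^ 2) ^ j + 1) = 1 := by
      rw [pow_succ]
      nth_rewrite 2 [← hσ]
      exact mul_inv_cancel₀ (pow_ne_zero _ hα0)
    have h2 := orderOf_dvd_of_pow_eq_one h1
    rw [hord, ← ZMod.natCast_eq_zero_iff] at h2
    push_cast at h2
    apply hsign
    refine dvd_uFac_of_neg_pow (by omega) ?_
    have hQe : ((q : ZMod r) ^ 2) ^ e = 1 := by
      have := pow_orderOf_eq_one ((Fintype.card F : ℕ) : ZMod r)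
      rw [← hd, hF, Nat.cast_pow] at this
      exact this
    have h3 : (-(q : ZMod r)) * ((q : ZMod r) ^ 2) ^ j = 1 := by linear_combination -h2
    calc (-(q : ZMod r)) ^ e = (-(q : ZMod r)) ^ e * (((q : ZMod r) ^ 2) ^ e) ^ j := by rw [hQe, one_pow, mul_one]
      _ = ((-(q : ZMod r)) * ((q : ZMod r) ^ 2) ^ j) ^ e := by rw [mul_pow, ← pow_mul _ e j, mul_comm e j, pow_mul]
      _ = 1 := by rw [h3, one_pow]
  have hcfg : IsCoprime f g := hfi.coprime_iff_not_dvd.mpr fun h => hfg (hfi.associated_of_dvd hgi h)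
  have hbound2 : 2 * e + 2 ≤ n := by
    by_cases hfP : Associated f P
    · have hco : IsCoprime (f * f) g := hcfg.mul_left hcfg
      have h := natDegree_le_of_dvd (hco.mul_dvd ((mul_dvd_mul hfP.dvd hfP.dvd).trans hPP) hgc) hne
      rw [natDegree_mul (mul_ne_zero hfi.ne_zero hfi.ne_zero) hgi.ne_zero, natDegree_mul hfi.ne_zero hfi.ne_zero, hdeg, hge] at h
      omega
    by_cases hgP : Associated g P
    · have hco : IsCoprime f (g * g) := hcfg.mul_right hcfg
      have h := natDegree_le_of_dvd (hco.mul_dvd hfc ((mul_dvd_mul hgP.dvd hgP.dvd).trans hPP)) hne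
      rw [natDegree_mul hfi.ne_zero (mul_ne_zero hgi.ne_zero hgi.ne_zero), natDegree_mul hgi.ne_zero hgi.ne_zero, hdeg, hge] at h
      omega
    · have h1 : IsCoprime f P := hfi.coprime_iff_not_dvd.mpr fun h => hfP (hfi.associated_of_dvd hP h)
      have h2 : IsCoprime g P := hgi.coprime_iff_not_dvd.mpr fun h => hgP (hgi.associated_of_dvd hP h)
      have hco : IsCoprime (f * g) (P * P) := ((h1.mul_left h2)).mul_right (h1.mul_left h2)
      have h := natDegree_le_of_dvd (hco.mul_dvd (hcfg.mul_dvd hfc hgc) hPP) hne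
      rw [natDegree_mul (mul_ne_zero hfi.ne_zero hgi.ne_zero) (mul_ne_zero hP.ne_zero hP.ne_zero),
        natDegree_mul hfi.ne_zero hgi.ne_zero, natDegree_mul hP.ne_zero hP.ne_zero, hdeg, hge] at h
      omega
  refine prime_mem_card_SU (p := p) (i := 2 * e) hF (by omega) hr (Or.inr ⟨by omega, by omega, ?_⟩)
  rw [uFac, if_pos (even_two_mul e), ← ZMod.natCast_eq_zero_iff, Nat.cast_sub (Nat.one_le_pow _ _ (by omega)),
    Nat.cast_pow, Nat.cast_one, pow_mul, ← Nat.cast_pow, ← hF, hd, pow_orderOf_eq_one, sub_self]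

end unitary

end Cfsg.Agent.CommuteP
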