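import Mathlib

/-!
Semisimple endomorphisms over a field: conjugacy is decided by the characteristic polynomial, and over a finite
field the centraliser has surjective determinant.
-/

set_option autoImplicit false

namespace Cfsg.Agent.GLSemi

open Polynomial Module

universe u v w

variable {F : Type u} [Field F]

/-- An irreducible factor of the characteristic polynomial kills a nonzero vector. -/
theorem exists_ne_zero_aeval_apply_eq_zero {V : Type v} [AddCommGroup V] [Module F V] [FiniteDimensional F V]
    (f : Module.End F V) {P : F[X]} (hP : Irreducible P) (hdvd : P ∣ f.charpoly) :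
    ∃ v : V, v ≠ 0 ∧ aeval f P v = 0 := by
  classical
  haveI : Fact (Irreducible P) := ⟨hP⟩
  by_contra hcon
  push Not at hcon
  have hker : LinearMap.ker (aeval f P) = ⊥ :=
    LinearMap.ker_eq_bot'.mpr fun v hv => by
      by_contra h0
      exact hcon v h0 hv
  have hunit : IsUnit (aeval f P) := (LinearMap.isUnit_iff_ker_eq_bot _).mpr hker
  let b := Module.finBasis F V
  let M := LinearMap.toMatrix b b f
  have hM : IsUnit (aeval M P) := by
    have h := hunit.map (LinearMap.toMatrixAlgEquiv b).toAlgHom
    rwa [← aeval_algHom_apply] at h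
  let K := AdjoinRoot P
  let MK : Matrix (Fin (finrank F V)) (Fin (finrank F V)) K := M.map (algebraMap F K)
  have hPr : aeval (AdjoinRoot.root P) P = 0 := by rw [AdjoinRoot.aeval_eq, AdjoinRoot.mk_self]
  have hroot : MK.charpoly.IsRoot (AdjoinRoot.root P) := by
    have h1 : MK.charpoly = M.charpoly.map (algebraMap F K) := Matrix.charpoly_map M _
    rw [h1, IsRoot, eval_map, ← aeval_def]
    exact aeval_eq_zero_of_dvd_aeval_eq_zero (by rwa [LinearMap.charpoly_toMatrix]) hPr
  rw [← Matrix.mem_spectrum_iff_isRoot_charpoly] at hroot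
  have h2 := spectrum.subset_polynomial_aeval MK (P.map (algebraMap F K)) ⟨_, hroot, rfl⟩
  have hev : (P.map (algebraMap F K)).eval (AdjoinRoot.root P) = 0 := by
    rw [eval_map, ← aeval_def, hPr]
  simp only [hev, spectrum.zero_mem_iff] at h2
  apply h2
  have h3 := hM.map ((Algebra.ofId F K).mapMatrix (m := Fin (finrank F V)))
  rw [← aeval_algHom_apply] at h3
  rwa [aeval_map_algebraMap]

/-- The cyclic submodule spanned by a vector killed by an irreducible polynomial. -/
theorem exists_adjoinRoot_embedding {V : Type v} [AddCommGroup V] [Module F V] (f : Module.End F V) {P : F[X]}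
    (hP : Irreducible P) {v : V} (hv : v ≠ 0) (hPv : aeval f P v = 0) :
    ∃ φ : AdjoinRoot P →ₗ[F] V, Function.Injective φ ∧
      ∀ x, φ (AdjoinRoot.root P * x) = f (φ x) := by
  haveI : Fact (Irreducible P) := ⟨hP⟩
  let ev : F[X] →ₗ[F] V := (LinearMap.applyₗ v).comp (aeval f).toLinearMap
  have hev : ∀ R, ev R = aeval f R v := fun R => rfl
  have hle : (Ideal.span ({P} : Set F[X])).restrictScalars F ≤ LinearMap.ker ev := by
    intro R hR
    obtain ⟨c, rfl⟩ := Ideal.mem_span_singleton'.mp hR
    rw [LinearMap.mem_ker, hev, map_mul, Module.End.mul_apply, hPv, map_zero]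
  let φ : AdjoinRoot P →ₗ[F] V :=
    { toFun := fun x => Quotient.liftOn' x ev fun a b hab => by
        have := hle ((Submodule.quotientRel_def _).mp hab)
        rwa [LinearMap.mem_ker, map_sub, sub_eq_zero] at this
      map_add' := fun x y => Quotient.inductionOn₂' x y fun a b => map_add ev a b
      map_smul' := fun c x => Quotient.inductionOn' x fun a => map_smul ev c a }
  have hφ : ∀ R, φ (AdjoinRoot.mk P R) = aeval f R v := fun R => rfl
  refine ⟨φ, (injective_iff_map_eq_zero φ).mpr fun x hx => ?_, fun x => ?_⟩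
  · by_contra hx0
    obtain ⟨R, rfl⟩ := AdjoinRoot.mk_surjective x
    obtain ⟨S, hS⟩ := AdjoinRoot.mk_surjective (AdjoinRoot.mk P R)⁻¹
    have h1 : φ (AdjoinRoot.mk P (S * R)) = 0 := by
      rw [hφ, map_mul, Module.End.mul_apply]
      rw [hφ] at hx
      rw [hx, map_zero]
    rw [map_mul, hS, inv_mul_cancel₀ hx0, ← map_one (AdjoinRoot.mk P), hφ, map_one, Module.End.one_apply] at h1
    exact hv h1
  · obtain ⟨R, rfl⟩ := AdjoinRoot.mk_surjective x
    rw [← AdjoinRoot.mk_X, ← map_mul, hφ, hφ, map_mul, aeval_X, Module.End.mul_apply]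

/-- Multiplication by the root on `AdjoinRoot P`. -/
noncomputable def rootMul (P : F[X]) : Module.End F (AdjoinRoot P) :=
  LinearMap.mulLeft F (AdjoinRoot.root P)

/-- Splitting off an irreducible factor from a semisimple endomorphism. -/
theorem exists_split {V : Type v} [AddCommGroup V] [Module F V] [FiniteDimensional F V] (f : Module.End F V)
    (hf : f.IsSemisimple) {P : F[X]} (hP : Irreducible P) (hdvd : P ∣ f.charpoly) :
    ∃ (C : Submodule F V) (g : Module.End F C) (e : (AdjoinRoot P × C) ≃ₗ[F] V),
      g.IsSemisimple ∧ ∀ z, e ((rootMul P).prodMap g z) = f (e z) := by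
  obtain ⟨v, hv, hPv⟩ := exists_ne_zero_aeval_apply_eq_zero f hP hdvd
  obtain ⟨φ, hφi, hφ⟩ := exists_adjoinRoot_embedding f hP hv hPv
  have hU : LinearMap.range φ ∈ f.invtSubmodule := by
    rw [Module.End.mem_invtSubmodule]
    rintro _ ⟨x, rfl⟩
    exact ⟨AdjoinRoot.root P * x, hφ x⟩
  obtain ⟨C, hC, hcompl⟩ := (Module.End.isSemisimple_iff.mp hf) _ hU
  refine ⟨C, f.restrict hC, (LinearEquiv.prodCongr (LinearEquiv.ofInjective φ hφi) (LinearEquiv.refl F C)).trans
    (Submodule.prodEquivOfIsCompl _ _ hcompl), hf.restrict hC, ?_⟩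
  rintro ⟨x, c⟩
  simp [rootMul, hφ]; rfl

theorem rootMul_charpoly_ne_zero {P : F[X]} (hP : Irreducible P) :
    haveI : FiniteDimensional F (AdjoinRoot P) := (AdjoinRoot.powerBasis hP.ne_zero).finite
    (rootMul P).charpoly ≠ 0 :=
  haveI : FiniteDimensional F (AdjoinRoot P) := (AdjoinRoot.powerBasis hP.ne_zero).finite
  (LinearMap.charpoly_monic _).ne_zero

/-- Semisimple endomorphisms with the same characteristic polynomial are similar. -/
theorem exists_equiv_of_charpoly_eq {V : Type v} [AddCommGroup V] [Module F V] [FiniteDimensional F V]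
    {W : Type w} [AddCommGroup W] [Module F W] [FiniteDimensional F W]
    (f : Module.End F V) (g : Module.End F W) (hf : f.IsSemisimple) (hg : g.IsSemisimple)
    (hc : f.charpoly = g.charpoly) :
    ∃ e : V ≃ₗ[F] W, ∀ x, e (f x) = g (e x) := by
  induction' hk : finrank F V using Nat.strong_induction_on with k ih generalizing V W
  have hdim : finrank F V = finrank F W := by
    rw [← LinearMap.charpoly_natDegree f, hc, LinearMap.charpoly_natDegree]
  rcases Nat.eq_zero_or_pos k with h0 | hpos
  · subst hk
    haveI : Subsingleton V := finrank_zero_iff.mp h0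
    haveI : Subsingleton W := finrank_zero_iff.mp (hdim ▸ h0)
    exact ⟨LinearEquiv.ofSubsingleton V W, fun x => Subsingleton.elim _ _⟩
  · have hnu : ¬ IsUnit f.charpoly := by
      intro h
      have := natDegree_eq_zero_of_isUnit h
      rw [LinearMap.charpoly_natDegree] at this
      omega
    obtain ⟨P, hP, hdvd⟩ := WfDvdMonoid.exists_irreducible_factor hnu (LinearMap.charpoly_monic f).ne_zero
    haveI : FiniteDimensional F (AdjoinRoot P) := (AdjoinRoot.powerBasis hP.ne_zero).finite
    obtain ⟨C, f', e, hf', he⟩ := exists_split f hf hP hdvd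
    obtain ⟨D, g', d, hg', hd⟩ := exists_split g hg hP (hc ▸ hdvd)
    have hef : f.charpoly = (rootMul P).charpoly * f'.charpoly := by
      rw [← LinearMap.charpoly_prodMap, ← e.charpoly_conj ((rootMul P).prodMap f')]
      congr 1
      ext x
      rw [LinearEquiv.conj_apply_apply, he, LinearEquiv.apply_symm_apply]
    have hdg : g.charpoly = (rootMul P).charpoly * g'.charpoly := by
      rw [← LinearMap.charpoly_prodMap, ← d.charpoly_conj ((rootMul P).prodMap g')]
      congr 1
      ext x
      rw [LinearEquiv.conj_apply_apply, hd, LinearEquiv.apply_symm_apply]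
    have hc' : f'.charpoly = g'.charpoly :=
      mul_left_cancel₀ (rootMul_charpoly_ne_zero hP) (by rw [← hef, ← hdg, hc])
    have hlt : finrank F C < k := by
      have h1 := e.finrank_eq
      rw [Module.finrank_prod, (AdjoinRoot.powerBasis hP.ne_zero).finrank, AdjoinRoot.powerBasis_dim] at h1
      have := hP.natDegree_pos
      omega
    obtain ⟨c, hcc⟩ := ih _ hlt f' g' hf' hg' hc' rfl
    refine ⟨e.symm.trans ((LinearEquiv.prodCongr (LinearEquiv.refl F _) c).trans d), fun x => ?_⟩
    obtain ⟨⟨a, y⟩, rfl⟩ := e.surjective x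
    rw [← he]
    simp only [LinearEquiv.trans_apply, LinearEquiv.symm_apply_apply]
    rw [← hd]
    simp [hcc]

/-- Over a finite field the determinant is onto on the centraliser of a semisimple endomorphism. -/
theorem exists_commuting_det_eq [Finite F] {V : Type v} [AddCommGroup V] [Module F V] [FiniteDimensional F V]
    (hV : 0 < finrank F V) (f : Module.End F V) (hf : f.IsSemisimple) (c : F) :
    ∃ e : Module.End F V, Commute e f ∧ LinearMap.det e = c := by
  classical
  have hnu : ¬ IsUnit f.charpoly := by
    intro h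
    have := natDegree_eq_zero_of_isUnit h
    rw [LinearMap.charpoly_natDegree] at this
    omega
  obtain ⟨P, hP, hdvd⟩ := WfDvdMonoid.exists_irreducible_factor hnu (LinearMap.charpoly_monic f).ne_zero
  haveI : Fact (Irreducible P) := ⟨hP⟩
  haveI : FiniteDimensional F (AdjoinRoot P) := (AdjoinRoot.powerBasis hP.ne_zero).finite
  haveI : Finite (AdjoinRoot P) := Module.finite_of_finite F
  obtain ⟨C, f', e, hf', he⟩ := exists_split f hf hP hdvd
  obtain ⟨u, hu⟩ := FiniteField.norm_surjective F (AdjoinRoot P) c
  let m : Module.End F (AdjoinRoot P × C) := (Algebra.lmul F _ u).prodMap LinearMap.id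
  refine ⟨e.conj m, ?_, ?_⟩
  · have hfe : f = e.conj ((rootMul P).prodMap f') := by
      ext x
      rw [LinearEquiv.conj_apply_apply, he, LinearEquiv.apply_symm_apply]
    rw [hfe, commute_iff_eq, Module.End.mul_eq_comp, Module.End.mul_eq_comp, ← LinearEquiv.conj_comp,
      ← LinearEquiv.conj_comp]
    congr 1
    ext z <;> simp [m, rootMul, mul_comm, mul_left_comm]
  · rw [LinearEquiv.conj_apply, LinearMap.comp_assoc, LinearMap.det_conj, LinearMap.det_prodMap, LinearMap.det_id, mul_one, ← Algebra.norm_apply, hu]

end Cfsg.Agent.GLSemi
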