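import Cfsg.Agent.Lib.GLSemisimple.Unitary
import Cfsg.Agent.Lib.GLSemisimple.BlockCount

/-!
Classes of elements of prime order in `GU_n(q)`.
-/

set_option autoImplicit false

namespace Cfsg.Agent.GLSemi

open Polynomial Matrix

variable {F : Type*} [Field F] [Fintype F] {q : ℕ}

/-- Classes of `GU_n(q)` killed by `X^N - 1` correspond to self-dual polynomials. -/
theorem card_classes_GU [StarRing F] (hs : ∀ x : F, star x = x ^ q) (hF : Fintype.card F = q ^ 2) {n N : ℕ}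
    (hN : (N : F) ≠ 0) :
    Nat.card {c : ConjClasses ↥(Cfsg.GU n F q) // ∃ g : ↥(Cfsg.GU n F q), ConjClasses.mk g = c ∧ g ^ N = 1} =
      Nat.card ↥(SelfDualAdm (starRingEnd F) n N) := by
  obtain ⟨θ, hθ'⟩ := (Forms59.card_sq_facts hF).2.2.2
  have hθ : star θ ≠ θ := by rw [hs]; exact hθ'
  let cp : ConjClasses ↥(Cfsg.GU n F q) → F[X] :=
    Quotient.lift (fun g => ((g : GL (Fin n) F) : Matrix (Fin n) (Fin n) F).charpoly) (fun g h hgh => by
      obtain ⟨x, hx⟩ := isConj_iff.mp hgh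
      rw [← hx, Subgroup.coe_mul, Subgroup.coe_mul, Subgroup.coe_inv, Units.val_mul, Units.val_mul,
        Matrix.coe_units_inv]
      exact (Matrix.charpoly_units_conj _ _).symm)
  have hpow : ∀ g : ↥(Cfsg.GU n F q), g ^ N = 1 → ((g : GL (Fin n) F) : Matrix (Fin n) (Fin n) F) ^ N = 1 := by
    intro g hg
    rw [← Units.val_pow_eq_pow_val, ← Subgroup.coe_pow, hg]
    rfl
  refine Nat.card_congr (Equiv.ofBijective (fun c => ⟨cp c.1, ?_⟩) ⟨?_, ?_⟩)
  · obtain ⟨g, hg, hgN⟩ := c.2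
    rw [← hg]
    exact ⟨⟨Matrix.charpoly_monic _, (Matrix.charpoly_natDegree_eq_dim _).trans (Fintype.card_fin _),
      fun f hf hfd => factor_dvd_of_pow_eq_one (hpow g hgN) hf hfd⟩,
      dual_charpoly_of_unitary ((Forms59.mem_GU_iff_conjTranspose hs (g : GL (Fin n) F)).mp g.2)⟩
  · rintro ⟨_, g, rfl, hg⟩ ⟨_, h, rfl, hh⟩ heq
    apply Subtype.ext
    refine ConjClasses.mk_eq_mk_iff_isConj.mpr ((Forms59.gu_isConj_iff hF g h).mpr ?_)
    obtain ⟨G, hG, hGg⟩ := exists_unit_conj hN (hpow g hg) (hpow h hh) (congrArg Subtype.val heq)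
    refine isConj_iff.mpr ⟨hG.unit, ?_⟩
    rw [mul_inv_eq_iff_eq_mul]
    exact Units.ext hGg
  · rintro ⟨P, hP, hPd⟩
    obtain ⟨M, hM, hMN, hMc⟩ := exists_unitary_charpoly θ hθ hN hP hPd
    have hN0 : N ≠ 0 := fun h => hN (by rw [h, Nat.cast_zero])
    let g : ↥(Cfsg.GU n F q) := ⟨Units.ofPowEqOne M N hMN hN0,
      (Forms59.mem_GU_iff_conjTranspose hs (Units.ofPowEqOne M N hMN hN0)).mpr hM⟩
    exact ⟨⟨ConjClasses.mk g, g, rfl, Subtype.ext (Units.pow_ofPowEqOne hMN hN0)⟩, Subtype.ext hMc⟩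

/-- Classes of elements of prime order. -/
theorem card_classes_orderOf {G : Type*} [Group G] [Finite G] {r : ℕ} (hr : r.Prime) :
    Nat.card {C : ConjClasses G // ∃ g : G, ConjClasses.mk g = C ∧ orderOf g = r} =
      Nat.card {C : ConjClasses G // ∃ g : G, ConjClasses.mk g = C ∧ g ^ r = 1} - 1 := by
  let A : Set (ConjClasses G) := {C | ∃ g, ConjClasses.mk g = C ∧ g ^ r = 1}
  have hmem : (1 : ConjClasses G) ∈ A := ⟨1, rfl, one_pow r⟩
  have hset : {C : ConjClasses G | ∃ g, ConjClasses.mk g = C ∧ orderOf g = r} = A \ {1} := by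
    ext C
    constructor
    · rintro ⟨g, rfl, hg⟩
      refine ⟨⟨g, rfl, hg ▸ pow_orderOf_eq_one g⟩, fun h => hr.ne_one ?_⟩
      rw [Set.mem_singleton_iff, ConjClasses.one_eq_mk_one, ConjClasses.mk_eq_mk_iff_isConj] at h
      rw [← hg, isConj_one_left.mp h, orderOf_one]
    · rintro ⟨⟨g, rfl, hg⟩, h1⟩
      haveI := Fact.mk hr
      exact ⟨g, rfl, orderOf_eq_prime hg fun h => h1 (by rw [h]; exact ConjClasses.one_eq_mk_one.symm)⟩
  show Nat.card ↥{C : ConjClasses G | ∃ g, ConjClasses.mk g = C ∧ orderOf g = r} = Nat.card ↥A - 1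
  rw [hset, Nat.card_coe_set_eq, Nat.card_coe_set_eq, Set.ncard_sdiff_singleton_of_mem hmem]

end Cfsg.Agent.GLSemi
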