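import Cfsg.Agent.S2638
import Cfsg.Agent.S2904
import Cfsg.Agent.Lib.GLSemisimple.Count
import Cfsg.Agent.Lib.LinearGroup.Card

/-!
Elements of order `q^(n/2) + 1` of `PSL_n(q)`.
-/

set_option autoImplicit false

namespace Cfsg.Agent.HalfTorus

open Matrix
open scoped MatrixGroups

variable {F : Type*} [Field F] [Fintype F]

theorem centralizer_SL (p : ℕ) [Fact p.Prime] [CharP F p] {n r : ℕ} (hn : 1 ≤ n) (hr : r.Prime) (hrp : r ≠ p)
    (hi : orderOf (Fintype.card F : ZMod r) = n) (h : SL(n, F)) (hh : orderOf h = r) :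
    IsCyclic ↥(Subgroup.centralizer ({h} : Set SL(n, F))) ∧
      Nat.card ↥(Subgroup.centralizer ({h} : Set SL(n, F))) * (Fintype.card F - 1) = Fintype.card F ^ n - 1 := by
  classical
  set h' : GL (Fin n) F := Matrix.SpecialLinearGroup.toGL h with hh'
  have hord : orderOf h' = r := by rw [hh', orderOf_injective _ LinearGroup.toGL_injective, hh]
  obtain ⟨hcyc, hcard⟩ := Cfsg.Agent.S2638.result (p := p) rfl hn hr hrp hi h' hord
  set C := Subgroup.centralizer ({h'} : Set (GL (Fin n) F)) with hC
  haveI := hcyc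
  let ι : ↥(Subgroup.centralizer ({h} : Set SL(n, F))) →* ↥C :=
    { toFun := fun x => ⟨Matrix.SpecialLinearGroup.toGL x.1, by
        rw [hC, Subgroup.mem_centralizer_singleton_iff, hh', ← map_mul, ← map_mul,
          Subgroup.mem_centralizer_singleton_iff.mp x.2]⟩
      map_one' := Subtype.ext (map_one _)
      map_mul' := fun x y => Subtype.ext (map_mul _ _ _) }
  have hι : Function.Injective ι := fun x y hxy =>
    Subtype.ext (LinearGroup.toGL_injective (congrArg Subtype.val hxy))
  let δ : ↥C →* Fˣ := (Matrix.GeneralLinearGroup.det).comp C.subtype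
  have hrange : ι.range = δ.ker := by
    ext x
    constructor
    · rintro ⟨y, rfl⟩
      rw [MonoidHom.mem_ker]
      apply Units.ext
      exact y.1.2
    · intro hx
      have hdet : (x.1 : Matrix (Fin n) (Fin n) F).det = 1 := congrArg Units.val hx
      let y : SL(n, F) := ⟨x.1, hdet⟩
      have hy : Matrix.SpecialLinearGroup.toGL y = x.1 := Units.ext rfl
      refine ⟨⟨y, ?_⟩, Subtype.ext hy⟩
      rw [Subgroup.mem_centralizer_singleton_iff]
      apply LinearGroup.toGL_injective
      rw [map_mul, map_mul, hy]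
      exact Subgroup.mem_centralizer_singleton_iff.mp x.2
  have hsurj : Function.Surjective δ := by
    intro c
    have hrF : ((r : ℕ) : F) ≠ 0 := by
      rw [Ne, CharP.cast_eq_zero_iff F p]
      exact fun hd => hrp ((Nat.prime_dvd_prime_iff_eq Fact.out hr).mp hd).symm
    have hM : (h' : Matrix (Fin n) (Fin n) F) ^ r = 1 := by
      rw [← Units.val_pow_eq_pow_val, ← hord, pow_orderOf_eq_one, Units.val_one]
    obtain ⟨e, he, hdet⟩ := GLSemi.exists_commuting_det_eq (by rw [Module.finrank_fin_fun]; omega) _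
      (GLSemi.isSemisimple_of_pow_eq_one hrF hM) (c : F)
    let E := LinearMap.toMatrix' e
    have hE : E.det = c := by rw [LinearMap.det_toMatrix', hdet]
    let u := Matrix.GeneralLinearGroup.mkOfDetNeZero E (by rw [hE]; exact c.ne_zero)
    refine ⟨⟨u, ?_⟩, Units.ext hE⟩
    rw [hC, Subgroup.mem_centralizer_singleton_iff]
    apply Units.ext
    apply Matrix.toLin'.injective
    show Matrix.toLin' (E * _) = Matrix.toLin' (_ * E)
    rw [Matrix.toLin'_mul, Matrix.toLin'_mul, Matrix.toLin'_toMatrix']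
    exact he
  refine ⟨isCyclic_of_injective ι hι, ?_⟩
  have h1 := Subgroup.card_mul_index δ.ker
  rw [Subgroup.index_ker, MonoidHom.range_eq_top.mpr hsurj, Subgroup.card_top, Nat.card_units,
    Nat.card_eq_fintype_card (α := F), ← hrange, hcard, ← Nat.card_congr (MonoidHom.ofInjective hι).toEquiv] at h1
  exact h1

theorem gcd_dvd_half_iff {m e : ℕ} (hm : 0 < m) (he : 0 < e) (he2 : 2 ∣ e) :
    Nat.gcd (2 * m) e ∣ m ↔ padicValNat 2 e < padicValNat 2 (2 * m) := by
  haveI : Fact (Nat.Prime 2) := ⟨Nat.prime_two⟩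
  have h2m : padicValNat 2 (2 * m) = padicValNat 2 m + 1 := by
    rw [padicValNat.mul (by norm_num) hm.ne', padicValNat_self, add_comm]
  rw [h2m, Nat.lt_succ_iff, ← Nat.factorization_le_iff_dvd (Nat.gcd_pos_of_pos_right _ he).ne' hm.ne',
    Nat.factorization_gcd (by omega) he.ne']
  constructor
  · intro h
    have h' := h 2
    rw [Finsupp.inf_apply, Nat.factorization_def _ Nat.prime_two, Nat.factorization_def _ Nat.prime_two,
      Nat.factorization_def _ Nat.prime_two, h2m] at h'
    omega
  · intro h ℓ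
    rw [Finsupp.inf_apply]
    by_cases hℓ : ℓ = 2
    · subst hℓ
      rw [Nat.factorization_def _ Nat.prime_two, Nat.factorization_def _ Nat.prime_two,
        Nat.factorization_def _ Nat.prime_two]
      exact inf_le_right.trans h
    · refine inf_le_left.trans (le_of_eq ?_)
      rw [Nat.factorization_mul (by norm_num) hm.ne', Finsupp.add_apply,
        Nat.prime_two.factorization, Finsupp.single_apply, if_neg (fun h => hℓ h.symm), zero_add]

theorem half_torus_iff {n : ℕ} (hodd : Odd (Fintype.card F)) (hn : 4 ≤ n) (heven : Even n) :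
    (∃ g : Matrix.ProjectiveSpecialLinearGroup (Fin n) F, orderOf g = Fintype.card F ^ (n / 2) + 1) ↔
      padicValNat 2 (Fintype.card F - 1) < padicValNat 2 n := by
  classical
  set q := Fintype.card F with hq
  have hq1 : 1 < q := Fintype.one_lt_card
  obtain ⟨p, hp⟩ := CharP.exists F
  haveI : Fact p.Prime := ⟨CharP.char_is_prime F p⟩
  obtain ⟨f, -, hK⟩ := FiniteField.card F p
  obtain ⟨m, rfl⟩ := heven
  have hm : 2 ≤ m := by omega
  rw [show (m + m) / 2 = m by omega]
  -- primitive prime
  obtain ⟨r, hr, hrd, hrprim⟩ := Cfsg.Agent.S2904.result q (m + m) hq1 (by omega)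
    (fun h => by obtain ⟨k, hk⟩ := hodd; omega) (fun h => by omega)
  have hrp : r ≠ p := by
    rintro rfl
    have h1 : r ∣ q ^ (m + m) := dvd_pow (hq ▸ hK ▸ dvd_pow_self r f.ne_zero) (by omega)
    have h2 := Nat.dvd_sub h1 hrd
    rw [Nat.sub_sub_self (Nat.one_le_pow _ _ (by omega))] at h2
    exact hr.not_dvd_one h2
  haveI : Fact r.Prime := ⟨hr⟩
  have hiff : ∀ i, r ∣ q ^ i - 1 ↔ orderOf (q : ZMod r) ∣ i := fun i => by
    rw [orderOf_dvd_iff_pow_eq_one, ← ZMod.natCast_eq_zero_iff, Nat.cast_sub (Nat.one_le_pow _ _ (by omega)),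
      Nat.cast_pow, Nat.cast_one, sub_eq_zero]
  have hi : orderOf (q : ZMod r) = m + m := by
    have h1 := (hiff _).mp hrd
    have h0 : 0 < orderOf (q : ZMod r) := Nat.pos_of_dvd_of_pos h1 (by omega)
    rcases Nat.lt_or_eq_of_le (Nat.le_of_dvd (by omega) h1) with h | h
    · exact absurd ((hiff _).mpr dvd_rfl) (hrprim _ h0 h)
    · exact h
  -- arithmetic
  set d := Nat.gcd (m + m) (q - 1) with hd
  set S := ∑ i ∈ Finset.range m, q ^ i with hS
  have hS' : (q - 1) * S = q ^ m - 1 := by
    rw [mul_comm]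
    have := geom_sum_mul_add (q - 1) m
    rw [Nat.sub_add_cancel hq1.le, ← hS] at this
    omega
  have hsplit : q ^ (m + m) - 1 = (q ^ m + 1) * (q - 1) * S := by
    rw [mul_assoc, hS', pow_add]
    obtain ⟨e, he⟩ : ∃ e, q ^ m = e + 1 := ⟨q ^ m - 1, by have := Nat.one_le_pow m q (by omega); omega⟩
    rw [he, Nat.add_sub_cancel, show (e + 1) * (e + 1) = (e + 1 + 1) * e + 1 by ring, Nat.add_sub_cancel]
  have hdq : d ∣ q - 1 := Nat.gcd_dvd_right _ _
  have hd0 : 0 < d := Nat.gcd_pos_of_pos_right _ (by omega)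
  have hdS : d ∣ S ↔ padicValNat 2 (q - 1) < padicValNat 2 (m + m) := by
    rw [← two_mul, ← gcd_dvd_half_iff (by omega) (by omega) (by obtain ⟨k, hk⟩ := hodd; omega)]
    have hmod : S ≡ m [MOD d] := by
      have h1 : q ≡ 1 [MOD d] := ((Nat.modEq_iff_dvd' hq1.le).mpr hdq).symm
      rw [hS]
      calc ∑ i ∈ Finset.range m, q ^ i ≡ ∑ i ∈ Finset.range m, 1 [MOD d] :=
            Nat.ModEq.sum fun i _ => by simpa using h1.pow i
        _ = m := by simp
    rw [show Nat.gcd (2 * m) (q - 1) = d by rw [hd, two_mul]]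
    exact hmod.dvd_iff dvd_rfl
  -- the cyclic group attached to an element of order `r`
  have hkey : ∀ h : SL(m + m, F), orderOf h = r →
      IsCyclic ↥((Subgroup.centralizer ({h} : Set SL(m + m, F))).map (QuotientGroup.mk' (Subgroup.center _))) ∧
      d * Nat.card ↥((Subgroup.centralizer ({h} : Set SL(m + m, F))).map (QuotientGroup.mk' (Subgroup.center _))) =
        (q ^ m + 1) * S := by
    intro h hh
    obtain ⟨hc, hcard⟩ := centralizer_SL p (by omega) hr hrp hi h hh
    set C := Subgroup.centralizer ({h} : Set SL(m + m, F)) with hC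
    haveI := hc
    let φ : C →* C.map (QuotientGroup.mk' (Subgroup.center _)) := (QuotientGroup.mk' _).subgroupMap C
    have hφ : Function.Surjective φ := (QuotientGroup.mk' _).subgroupMap_surjective C
    refine ⟨isCyclic_of_surjective φ hφ, ?_⟩
    have h1 := Subgroup.card_mul_index φ.ker
    have hker : Nat.card φ.ker = d := by
      haveI : Nonempty (Fin (m + m)) := ⟨⟨0, by omega⟩⟩
      have hzC : Subgroup.center SL(m + m, F) ≤ C := Subgroup.center_le_centralizer _
      have hk : φ.ker = (Subgroup.center SL(m + m, F)).subgroupOf C := by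
        ext x
        rw [MonoidHom.mem_ker, Subgroup.mem_subgroupOf, ← QuotientGroup.eq_one_iff]
        exact Subtype.ext_iff
      rw [hk, Nat.card_congr (Subgroup.subgroupOfEquivOfLe hzC).toEquiv, LinearGroup.card_center_SL, Fintype.card_fin,
        Nat.card_eq_fintype_card]
    rw [Subgroup.index_ker, MonoidHom.range_eq_top.mpr hφ, Subgroup.card_top, hker] at h1
    rw [h1]
    rw [← hq, hsplit] at hcard
    exact Nat.eq_of_mul_eq_mul_right (show 0 < q - 1 by omega) (hcard.trans (by ring))
  constructor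
  · rintro ⟨g, hg⟩
    rw [← hdS]
    obtain ⟨G, rfl⟩ := QuotientGroup.mk_surjective g
    have hr1 : r ∣ q ^ m + 1 := by
      rw [hsplit] at hrd
      rcases hr.dvd_mul.mp hrd with h | h
      · rcases hr.dvd_mul.mp h with h' | h'
        · exact h'
        · exact absurd (by rwa [pow_one]) (hrprim 1 one_pos (by omega))
      · exact absurd (hS' ▸ h.mul_left (q - 1)) (hrprim m (by omega) (by omega))
    have hrG : r ∣ orderOf G := hr1.trans (hg ▸ orderOf_map_dvd (QuotientGroup.mk' (Subgroup.center _)) G)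
    set h := G ^ (orderOf G / r) with hh
    have hord : orderOf h = r := orderOf_pow_orderOf_div (orderOf_pos G).ne' hrG
    obtain ⟨-, hcard⟩ := hkey h hord
    have hmem : (QuotientGroup.mk G : SL(m + m, F) ⧸ Subgroup.center _) ∈
        (Subgroup.centralizer ({h} : Set SL(m + m, F))).map (QuotientGroup.mk' (Subgroup.center _)) :=
      Subgroup.mem_map_of_mem _ (Subgroup.mem_centralizer_singleton_iff.mpr (Commute.self_pow G _).eq)
    have hdvd := mul_dvd_mul_left d (Subgroup.orderOf_dvd_natCard _ hmem)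
    rw [hcard, hg, mul_comm] at hdvd
    exact Nat.dvd_of_mul_dvd_mul_left (by positivity) hdvd
  · intro hv
    rw [← hdS] at hv
    have hrSL : r ∣ Nat.card SL(m + m, F) := by
      rw [show m + m = (m + m - 1) + 1 by omega, LinearGroup.card_SL_eq_pow_mul_prod, Nat.card_eq_fintype_card]
      refine Dvd.dvd.mul_left (hrd.trans ?_) _
      have : m + m - 2 ∈ Finset.range (m + m - 1) := Finset.mem_range.mpr (by omega)
      refine dvd_trans ?_ (Finset.dvd_prod_of_mem _ this)
      rw [show m + m - 2 + 2 = m + m by omega]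
    obtain ⟨h, hh⟩ := exists_prime_orderOf_dvd_card' (G := SL(m + m, F)) r hrSL
    obtain ⟨hc, hcard⟩ := hkey h hh
    haveI := hc
    obtain ⟨c, hcS⟩ := hv
    rw [hcS, mul_left_comm] at hcard
    have hc' := Nat.eq_of_mul_eq_mul_left hd0 hcard
    obtain ⟨g, hg⟩ := IsCyclic.exists_generator (α :=
      ↥((Subgroup.centralizer ({h} : Set SL(m + m, F))).map (QuotientGroup.mk' (Subgroup.center _))))
    have hog : orderOf g = (q ^ m + 1) * c := by
      rw [← hc']; exact orderOf_eq_card_of_forall_mem_zpowers hg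
    have hc0 : 0 < c := Nat.pos_of_ne_zero fun h0 => by
      rw [h0, mul_zero] at hog
      exact absurd hog (orderOf_pos g).ne'
    refine ⟨((g ^ c : _) : Matrix.ProjectiveSpecialLinearGroup (Fin (m + m)) F), ?_⟩
    rw [Subgroup.orderOf_coe, orderOf_pow_of_dvd hc0.ne' (hog ▸ dvd_mul_left _ _), hog,
      Nat.mul_div_cancel _ hc0]

end Cfsg.Agent.HalfTorus
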