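import Cfsg.Agent.Lib.GLSemisimple.OrthExist

/-!
Numbers of classes of elements of odd prime order in finite orthogonal groups.
-/

set_option autoImplicit false

namespace Cfsg.Agent.GLSemi

universe u

open Polynomial Matrix Module

variable {F : Type u} [Field F] [Fintype F] {r i t : ℕ}

theorem card_sd [DecidableEq F] (hr : r.Prime) (hr2 : r ≠ 2) (hrF : (r : F) ≠ 0)
    (hi : i = orderOf (Fintype.card F : ZMod r)) (ht : t * i = r - 1) (n : ℕ) :
    Nat.card ↥(SelfDualAdm (RingHom.id F) n r) =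
      if Even i then Nat.choose (n / i + t) t else Nat.choose (n / (2 * i) + t / 2) (t / 2) := by
  subst hi
  exact card_selfDualAdm (RingHom.id F) (fun _ => rfl) hr hrF n rfl ht (Even (orderOf (Fintype.card F : ZMod r)))
    fun f hf => dual_fixed_iff_even hr hr2 hrF hf

theorem pos_of_data [DecidableEq F] (hr : r.Prime) (hi : i = orderOf (Fintype.card F : ZMod r))
    (ht : t * i = r - 1) : 0 < i ∧ 0 < t := by
  have := hr.two_le
  constructor
  · rcases Nat.eq_zero_or_pos i with h | h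
    · rw [h, mul_zero] at ht; omega
    · exact h
  · rcases Nat.eq_zero_or_pos t with h | h
    · rw [h, zero_mul] at ht; omega
    · exact h

/-- `C(N + t, t) = C(N - 1 + t, t) + C(N + t - 1, t - 1)` in the two cases needed. -/
theorem choose_step {N t : ℕ} (hN : 0 < N) (ht : 0 < t) :
    Nat.choose (N - 1 + t) t = Nat.choose (N + t) t - Nat.choose (N + t - 1) (t - 1) := by
  obtain ⟨M, rfl⟩ : ∃ M, N = M + 1 := ⟨N - 1, by omega⟩
  obtain ⟨s, rfl⟩ : ∃ s, t = s + 1 := ⟨t - 1, by omega⟩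
  rw [Nat.add_sub_cancel, show M + 1 + (s + 1) = (M + (s + 1)) + 1 by ring, Nat.choose_succ_succ',
    Nat.add_sub_cancel, Nat.add_sub_cancel]
  omega

theorem pred_div_of_dvd {n i : ℕ} (hn : 0 < n) (hi : 0 < i) (h : i ∣ n) : (n - 1) / i = n / i - 1 := by
  obtain ⟨N, rfl⟩ := h
  have hN : 0 < N := Nat.pos_of_mul_pos_left hn
  obtain ⟨M, rfl⟩ : ∃ M, N = M + 1 := ⟨N - 1, by omega⟩
  rw [Nat.mul_div_cancel_left _ hi, Nat.add_sub_cancel,
    show i * (M + 1) - 1 = (i - 1) + i * M by rw [mul_add, mul_one]; omega,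
    Nat.add_mul_div_left _ _ hi, Nat.div_eq_of_lt (by omega), zero_add]

theorem classes_odd [DecidableEq F] (hr : r.Prime) (hr2 : r ≠ 2) (hrF : (r : F) ≠ 0) (h2 : (2 : F) ≠ 0)
    (hi : i = orderOf (Fintype.card F : ZMod r)) (ht : t * i = r - 1) (m : ℕ) :
    Nat.card {C : ConjClasses ↥(Cfsg.isometryGroup F (Cfsg.quadFormOdd m F)) //
        ∃ g : ↥(Cfsg.isometryGroup F (Cfsg.quadFormOdd m F)), ConjClasses.mk g = C ∧ orderOf g = r} =
      if Odd i then Nat.choose (m / i + t / 2) (t / 2) - 1 else Nat.choose ((2 * m + 1) / i + t) t - 1 := by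
  obtain ⟨hi0, ht0⟩ := pos_of_data hr hi ht
  let Q : QuadraticForm F (Unit ⊕ (Fin m ⊕ Fin m) → F) :=
    QuadraticMap.linMulLin (LinearMap.proj (Sum.inl ())) (LinearMap.proj (Sum.inl ())) +
      (Forms59.plusQF F m).comp (LinearMap.funLeft F F Sum.inr)
  have hQ : ⇑Q = Cfsg.quadFormOdd m F := by
    funext v
    simp [Q, Forms59.coe_plusQF, Cfsg.quadFormPlus, Cfsg.quadFormOdd, QuadraticMap.linMulLin_apply, sq]
  have hnd : (QuadraticMap.polarBilin Q).Nondegenerate := by
    have key : ∀ x y, QuadraticMap.polar Q x y = 2 * (x (.inl ()) * y (.inl ())) +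
        QuadraticMap.polar (Forms59.plusQF F m) (x ∘ Sum.inr) (y ∘ Sum.inr) := by
      intro x y
      simp only [QuadraticMap.polar, hQ, Forms59.coe_plusQF, Cfsg.quadFormOdd, Cfsg.quadFormPlus, Pi.add_apply,
        Function.comp_apply]
      ring
    have main : ∀ x, (∀ y, QuadraticMap.polar Q x y = 0) → x = 0 := by
      intro x hx
      funext k
      rcases k with ⟨⟩ | k
      · have := hx (Pi.single (Sum.inl ()) 1)
        rw [key, Pi.single_eq_same, show (Pi.single (Sum.inl ()) (1 : F) ∘ Sum.inr : Fin m ⊕ Fin m → F) = 0 from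
          funext fun k => Pi.single_eq_of_ne (by simp) _, QuadraticMap.polar_zero_right, add_zero, mul_one] at this
        exact (mul_eq_zero.mp this).resolve_left h2
      · have h0 : x ∘ Sum.inr = 0 := (Forms59.plusQF_nondegenerate m).1 _ fun y => by
          have := hx (Sum.elim 0 y)
          rw [key] at this
          simpa using this
        exact congrFun h0 k
    exact ⟨fun x hx => main x hx, fun y hy => main y fun x => by rw [QuadraticMap.polar_comm]; exact hy x⟩
  have hsub := realised_subset Q hnd (r := r)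
  rw [hQ, show Fintype.card (Unit ⊕ (Fin m ⊕ Fin m)) = 2 * m + 1 by simp; ring] at hsub
  have hR : Realised (Cfsg.quadFormOdd m F) r = SelfDualAdm (RingHom.id F) (2 * m + 1) r := by
    refine Set.Subset.antisymm hsub fun P hP => ?_
    rcases Nat.even_or_odd i with ⟨h, hh⟩ | ho
    · exact elliptic_mem_odd hr hrF h2 (h := h) (by omega) (by omega) hP.1
    · refine hyperbolic_mem_odd hr hrF (fun f hf hfd => ?_) hP
      rw [dual_fixed_iff_even hr hr2 hrF hf, ← hi] at hfd
      exact Nat.not_even_iff_odd.mpr ho hfd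
  rw [← hQ, card_classes_orderOf hr, card_classes_orth Q hnd hrF (hr.odd_of_ne_two hr2), hQ, hR,
    card_sd hr hr2 hrF hi ht]
  rcases Nat.even_or_odd i with he | ho
  · rw [if_pos he, if_neg (Nat.not_odd_iff_even.mpr he)]
  · rw [if_neg (Nat.not_even_iff_odd.mpr ho), if_pos ho, show (2 * m + 1) / (2 * i) = m / i by
      rw [← Nat.div_div_eq_div_mul, show (2 * m + 1) / 2 = m by omega]]

theorem card_dvd_set [DecidableEq F] {n : ℕ} (R : Set F[X])
    (hR : ∀ P, P ∈ R ↔ P ∈ SelfDualAdm (RingHom.id F) (n + 1) r ∧ (X - C 1) ∣ P) :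
    Nat.card ↥R = Nat.card ↥(SelfDualAdm (RingHom.id F) n r) := by
  rw [← card_selfDual_dvd]
  exact Nat.card_congr (Equiv.subtypeEquivRight hR)

theorem classes_plus [DecidableEq F] (hr : r.Prime) (hr2 : r ≠ 2) (hrF : (r : F) ≠ 0)
    (hi : i = orderOf (Fintype.card F : ZMod r)) (ht : t * i = r - 1) {m : ℕ} (hm : 1 ≤ m) :
    Nat.card {C : ConjClasses ↥(Cfsg.isometryGroup F (Cfsg.quadFormPlus m F)) //
        ∃ g : ↥(Cfsg.isometryGroup F (Cfsg.quadFormPlus m F)), ConjClasses.mk g = C ∧ orderOf g = r} =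
      if Odd i then Nat.choose (m / i + t / 2) (t / 2) - 1
      else Nat.choose (2 * m / i + t) t - 1 -
        (if i ∣ 2 * m ∧ Odd (2 * m / i) then Nat.choose (2 * m / i + t - 1) (t - 1) else 0) := by
  haveI : Fact r.Prime := ⟨hr⟩
  obtain ⟨hi0, ht0⟩ := pos_of_data hr hi ht
  have hsub := realised_subset (Forms59.plusQF F m) (Forms59.plusQF_nondegenerate m) (r := r)
  rw [Forms59.coe_plusQF, show Fintype.card (Fin m ⊕ Fin m) = 2 * m by simp; ring] at hsub
  rw [← Forms59.coe_plusQF, card_classes_orderOf hr, card_classes_orth _ (Forms59.plusQF_nondegenerate m) hrF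
    (hr.odd_of_ne_two hr2), Forms59.coe_plusQF]
  rcases Nat.even_or_odd i with he | ho
  · obtain ⟨h, hh⟩ := he
    have hh2 : i = 2 * h := by omega
    rw [if_neg (Nat.not_odd_iff_even.mpr ⟨h, hh⟩)]
    have hdvd : i ∣ 2 * m ↔ h ∣ m := by rw [hh2]; exact Nat.mul_dvd_mul_iff_left two_pos
    have hdiv : 2 * m / i = m / h := by rw [hh2]; exact Nat.mul_div_mul_left _ _ two_pos
    by_cases hbad : i ∣ 2 * m ∧ Odd (2 * m / i)
    · rw [if_pos hbad]
      have hsign : ∀ P, P ∈ Realised (Cfsg.quadFormPlus m F) r → (X - C 1) ∣ P := by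
        intro P hP
        by_contra hL
        rw [← Forms59.coe_plusQF] at hP
        obtain ⟨-, hs⟩ := elliptic_sign hr hrF (h := h) (by omega) (by omega) (Forms59.plusQF F m)
          (Forms59.plusQF_nondegenerate m) (m := m) (η := 1) (by simp; ring)
          (by rw [Forms59.coe_plusQF, zeros_plus, one_mul]) hP hL
        rw [one_mul, (hdiv ▸ hbad.2 : Odd (m / h)).neg_one_pow] at hs
        exact neg_one_ne_one hr2 hs
      rw [card_dvd_set (n := 2 * m - 1) _ fun P => ?_, card_sd hr hr2 hrF hi ht, if_pos ⟨h, hh⟩,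
        pred_div_of_dvd (by omega) hi0 hbad.1, choose_step hbad.2.pos ht0]
      · omega
      · rw [show 2 * m - 1 + 1 = 2 * m by omega]
        exact ⟨fun hP => ⟨hsub hP, hsign P hP⟩, fun hP => elliptic_mem_plus hr hr2 hrF (h := h) (by omega) (by omega)
          hP.1.1 fun hL => absurd hP.2 hL⟩
    · rw [if_neg hbad, Nat.sub_zero]
      have hR : Realised (Cfsg.quadFormPlus m F) r = SelfDualAdm (RingHom.id F) (2 * m) r := by
        refine Set.Subset.antisymm hsub fun P hP => elliptic_mem_plus hr hr2 hrF (h := h) (by omega) (by omega)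
          hP.1 fun hL => ?_
        obtain ⟨a, s, -, -, hsum, ha0⟩ := eq_pow_mul_cycFactors hr hrF hP.1
        rw [ha0.mpr hL, zero_add, ← hi] at hsum
        by_contra hne
        exact hbad ⟨⟨s.card, by rw [← hsum, mul_comm]⟩, hdiv ▸ Nat.not_even_iff_odd.mp hne⟩
      rw [hR, card_sd hr hr2 hrF hi ht, if_pos ⟨h, hh⟩]
  · rw [if_pos ho]
    have hfix : ∀ f ∈ cycFactors F r, dual (RingHom.id F) f ≠ f := fun f hf hfd => by
      rw [dual_fixed_iff_even hr hr2 hrF hf, ← hi] at hfd
      exact Nat.not_even_iff_odd.mpr ho hfd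
    rw [Set.Subset.antisymm hsub fun P hP => hyperbolic_mem_plus hr hrF hfix hP, card_sd hr hr2 hrF hi ht,
      if_neg (Nat.not_even_iff_odd.mpr ho), Nat.mul_div_mul_left _ _ two_pos]

theorem classes_minus [DecidableEq F] (hr : r.Prime) (hr2 : r ≠ 2) (hrF : (r : F) ≠ 0)
    (hi : i = orderOf (Fintype.card F : ZMod r)) (ht : t * i = r - 1) {m : ℕ} (hm : 1 ≤ m) (a c : F)
    (hac : ∀ z₁ z₂ : F, z₁ ^ 2 + a * z₁ * z₂ + c * z₂ ^ 2 = 0 → z₁ = 0 ∧ z₂ = 0) :
    Nat.card {C : ConjClasses ↥(Cfsg.isometryGroup F (Cfsg.quadFormMinus (m - 1) F a c)) //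
        ∃ g : ↥(Cfsg.isometryGroup F (Cfsg.quadFormMinus (m - 1) F a c)), ConjClasses.mk g = C ∧ orderOf g = r} =
      if Odd i then Nat.choose (m / i + t / 2) (t / 2) - 1 -
        (if i ∣ m then Nat.choose (m / i + t / 2 - 1) (t / 2 - 1) else 0)
      else Nat.choose (2 * m / i + t) t - 1 -
        (if i ∣ 2 * m ∧ Even (2 * m / i) then Nat.choose (2 * m / i + t - 1) (t - 1) else 0) := by
  haveI : Fact r.Prime := ⟨hr⟩
  obtain ⟨hi0, ht0⟩ := pos_of_data hr hi ht
  obtain ⟨k, rfl⟩ : ∃ k, m = k + 1 := ⟨m - 1, by omega⟩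
  rw [Nat.add_sub_cancel]
  have hnd := Forms59.minusQF_nondegenerate k a c hac
  have hcard : Fintype.card ((Fin k ⊕ Fin k) ⊕ Fin 2) = 2 * (k + 1) := by simp; ring
  have hsub := realised_subset (Forms59.minusQF F k a c) hnd (r := r)
  rw [Forms59.coe_minusQF, hcard] at hsub
  rw [← Forms59.coe_minusQF, card_classes_orderOf hr, card_classes_orth _ hnd hrF (hr.odd_of_ne_two hr2),
    Forms59.coe_minusQF]
  rcases Nat.even_or_odd i with he | ho
  · obtain ⟨h, hh⟩ := he
    have hh2 : i = 2 * h := by omega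
    rw [if_neg (Nat.not_odd_iff_even.mpr ⟨h, hh⟩)]
    have hdiv : 2 * (k + 1) / i = (k + 1) / h := by rw [hh2]; exact Nat.mul_div_mul_left _ _ two_pos
    have hmem : ∀ P, P ∈ SelfDualAdm (RingHom.id F) (2 * (k + 1)) r → (¬ (X - C 1) ∣ P → Odd ((k + 1) / h)) →
        P ∈ Realised (Cfsg.quadFormMinus k F a c) r := by
      intro P hP hb
      have := elliptic_mem_minus hr hr2 hrF (h := h) (by omega) (by omega) hP.1 a c hac hb
      rwa [Nat.add_sub_cancel] at this
    by_cases hbad : i ∣ 2 * (k + 1) ∧ Even (2 * (k + 1) / i)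
    · rw [if_pos hbad]
      have hsign : ∀ P, P ∈ Realised (Cfsg.quadFormMinus k F a c) r → (X - C 1) ∣ P := by
        intro P hP
        by_contra hL
        rw [← Forms59.coe_minusQF] at hP
        obtain ⟨-, hs⟩ := elliptic_sign hr hrF (h := h) (by omega) (by omega) (Forms59.minusQF F k a c) hnd
          (m := k + 1) (η := -1) hcard
          (by rw [Forms59.coe_minusQF, zeros_minus k a c hac]; ring) hP hL
        rw [(hdiv ▸ hbad.2 : Even ((k + 1) / h)).neg_one_pow, mul_one] at hs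
        exact neg_one_ne_one hr2 hs
      have hpos : 0 < 2 * (k + 1) / i := Nat.div_pos (Nat.le_of_dvd (by omega) hbad.1) hi0
      rw [card_dvd_set (n := 2 * (k + 1) - 1) _ fun P => ?_, card_sd hr hr2 hrF hi ht, if_pos ⟨h, hh⟩,
        pred_div_of_dvd (by omega) hi0 hbad.1, choose_step hpos ht0]
      · omega
      · rw [show 2 * (k + 1) - 1 + 1 = 2 * (k + 1) by omega]
        exact ⟨fun hP => ⟨hsub hP, hsign P hP⟩, fun hP => hmem P hP.1 fun hL => absurd hP.2 hL⟩
    · rw [if_neg hbad, Nat.sub_zero]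
      have hR : Realised (Cfsg.quadFormMinus k F a c) r = SelfDualAdm (RingHom.id F) (2 * (k + 1)) r := by
        refine Set.Subset.antisymm hsub fun P hP => hmem P hP fun hL => ?_
        obtain ⟨e, s, -, -, hsum, ha0⟩ := eq_pow_mul_cycFactors hr hrF hP.1
        rw [ha0.mpr hL, zero_add, ← hi] at hsum
        by_contra hne
        exact hbad ⟨⟨s.card, by rw [← hsum, mul_comm]⟩, hdiv ▸ Nat.not_odd_iff_even.mp hne⟩
      rw [hR, card_sd hr hr2 hrF hi ht, if_pos ⟨h, hh⟩]
  · rw [if_pos ho]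
    have hfix : ∀ f ∈ cycFactors F r, dual (RingHom.id F) f ≠ f := fun f hf hfd => by
      rw [dual_fixed_iff_even hr hr2 hrF hf, ← hi] at hfd
      exact Nat.not_even_iff_odd.mpr ho hfd
    rw [card_dvd_set (n := 2 * (k + 1) - 1) _ fun P => ?_, card_sd hr hr2 hrF hi ht,
      if_neg (Nat.not_even_iff_odd.mpr ho), ← Nat.div_div_eq_div_mul,
      show (2 * (k + 1) - 1) / 2 = k by omega]
    · have ht2 : 0 < t / 2 := by
        rcases Nat.even_or_odd t with ⟨s, hs⟩ | hto
        · omega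
        · have h1 := Nat.odd_mul.mpr ⟨hto, ho⟩
          rw [ht] at h1
          have h2 := hr.odd_of_ne_two hr2
          rw [Nat.odd_iff] at h1 h2
          omega
      by_cases hd : i ∣ k + 1
      · rw [if_pos hd]
        have h := pred_div_of_dvd (n := k + 1) (by omega) hi0 hd
        rw [Nat.add_sub_cancel] at h
        rw [h, choose_step (Nat.div_pos (Nat.le_of_dvd (by omega) hd) hi0) ht2]
        omega
      · rw [if_neg hd, Nat.sub_zero, Nat.succ_div_of_not_dvd hd]
    · rw [show 2 * (k + 1) - 1 + 1 = 2 * (k + 1) by omega]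
      exact ⟨fun hP => ⟨hsub hP, minus_dvd hr hr2 hrF hfix a c hac hP⟩,
        fun hP => hyperbolic_mem_minus hr hrF hfix a c hP.1 hP.2⟩

end Cfsg.Agent.GLSemi
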