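import Cfsg.Agent.Lib.GLSemisimple.OrthReal
import Cfsg.Agent.Forms59.Similar
import Cfsg.Agent.S0289
import Cfsg.Agent.S0290

/-!
Which self-dual polynomials are characteristic polynomials of isometries of the standard orthogonal spaces.
-/

set_option autoImplicit false

namespace Cfsg.Agent.GLSemi

universe u

open Polynomial Matrix Module UniqueFactorizationMonoid

variable {F : Type u} [Field F] [Fintype F] {r : ℕ}

theorem zeros_plus (m : ℕ) :
    (Nat.card {v : Fin m ⊕ Fin m → F // Cfsg.quadFormPlus m F v = 0} : ZMod r) * (Fintype.card F : ZMod r) =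
      (Fintype.card F : ZMod r) ^ (2 * m) + ((Fintype.card F : ZMod r) ^ (m + 1) - (Fintype.card F : ZMod r) ^ m) := by
  rcases Nat.eq_zero_or_pos m with rfl | hm
  · have h1 : Nat.card {v : Fin 0 ⊕ Fin 0 → F // Cfsg.quadFormPlus 0 F v = 0} = 1 := by
      haveI : Unique {v : Fin 0 ⊕ Fin 0 → F // Cfsg.quadFormPlus 0 F v = 0} :=
        ⟨⟨⟨0, by simp [Cfsg.quadFormPlus]⟩⟩, fun v => Subtype.ext (Subsingleton.elim _ _)⟩
      exact Nat.card_unique
    rw [h1]
    ring
  · obtain ⟨k, rfl⟩ : ∃ k, m = k + 1 := ⟨m - 1, by omega⟩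
    rw [S0289.result rfl (k + 1) (by omega), Nat.add_sub_cancel, show 2 * (k + 1) - 1 = 2 * k + 1 by omega]
    have hle : Fintype.card F ^ k ≤ Fintype.card F ^ (2 * k + 1) + Fintype.card F ^ (k + 1) :=
      le_add_left (Nat.pow_le_pow_right Fintype.card_pos (Nat.le_succ k))
    rw [Nat.cast_sub hle]
    push_cast
    ring

theorem zeros_minus (k : ℕ) (a b : F) (hab : ∀ z₁ z₂ : F, z₁ ^ 2 + a * z₁ * z₂ + b * z₂ ^ 2 = 0 → z₁ = 0 ∧ z₂ = 0) :
    (Nat.card {v : (Fin k ⊕ Fin k) ⊕ Fin 2 → F // Cfsg.quadFormMinus k F a b v = 0} : ZMod r) *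
        (Fintype.card F : ZMod r) =
      (Fintype.card F : ZMod r) ^ (2 * (k + 1)) -
        ((Fintype.card F : ZMod r) ^ (k + 1 + 1) - (Fintype.card F : ZMod r) ^ (k + 1)) := by
  have h : Nat.card {v : (Fin k ⊕ Fin k) ⊕ Fin 2 → F // Cfsg.quadFormMinus k F a b v = 0} =
      Fintype.card F ^ (2 * (k + 1) - 1) + Fintype.card F ^ k - Fintype.card F ^ (k + 1) :=
    S0290.result rfl (k + 1) (by omega) a b hab
  rw [h, show 2 * (k + 1) - 1 = 2 * k + 1 by omega]
  have hle : Fintype.card F ^ (k + 1) ≤ Fintype.card F ^ (2 * k + 1) + Fintype.card F ^ k :=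
    le_add_right (Nat.pow_le_pow_right Fintype.card_pos (by omega))
  rw [Nat.cast_sub hle]
  push_cast
  ring

omit [Fintype F] in
theorem exists_no_root [Finite F] : ∃ ζ : F, ∀ t : F, t ^ 2 + t + ζ ≠ 0 := by
  by_contra h
  push Not at h
  have hs : Function.Surjective fun t : F => -(t ^ 2 + t) := fun z => by
    obtain ⟨t, ht⟩ := h z
    exact ⟨t, by linear_combination -ht⟩
  have hi := Finite.injective_iff_surjective.mpr hs
  have := hi (a₁ := 0) (a₂ := -1) (by simp)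
  simp at this

/-- Classification of an even-dimensional pair, with the number of zeros. -/
theorem classify_even (d : OrthPair F r) {m : ℕ} (hd : Module.finrank F d.V = 2 * m) :
    ((Nat.card {v : d.V // d.Q v = 0} : ZMod r) * (Fintype.card F : ZMod r) = (Fintype.card F : ZMod r) ^ (2 * m) +
        ((Fintype.card F : ZMod r) ^ (m + 1) - (Fintype.card F : ZMod r) ^ m) ∧
      ∃ e : d.V ≃ₗ[F] (Fin m ⊕ Fin m → F), ∀ v, d.Q v = Cfsg.quadFormPlus m F (e v)) ∨
    ((Nat.card {v : d.V // d.Q v = 0} : ZMod r) * (Fintype.card F : ZMod r) = (Fintype.card F : ZMod r) ^ (2 * m) -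
        ((Fintype.card F : ZMod r) ^ (m + 1) - (Fintype.card F : ZMod r) ^ m) ∧
      1 ≤ m ∧ ∀ a c : F, (∀ z₁ z₂ : F, z₁ ^ 2 + a * z₁ * z₂ + c * z₂ ^ 2 = 0 → z₁ = 0 ∧ z₂ = 0) →
        ∃ e : d.V ≃ₗ[F] ((Fin (m - 1) ⊕ Fin (m - 1)) ⊕ Fin 2 → F),
          ∀ v, d.Q v = Cfsg.quadFormMinus (m - 1) F a c (e v)) := by
  rcases Forms59.exists_normal_form d.Q d.nondeg with ⟨k, hk, e, he⟩ | ⟨k, hk, -⟩ | ⟨k, hk, ζ, e, hζ, he⟩
  · obtain rfl : k = m := by omega
    refine Or.inl ⟨?_, e, he⟩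
    rw [← zeros_plus k, Nat.card_congr (Equiv.subtypeEquiv (q := fun w => Cfsg.quadFormPlus k F w = 0) e.toEquiv
      fun v => by rw [he]; rfl)]
  · omega
  · obtain rfl : m = k + 1 := by omega
    refine Or.inr ⟨?_, by omega, fun a c hac => ?_⟩
    · rw [← zeros_minus k 1 ζ (Forms59.anisotropic_of_no_root ζ hζ),
        Nat.card_congr (Equiv.subtypeEquiv (q := fun w => Cfsg.quadFormMinus k F 1 ζ w = 0) e.toEquiv
          fun v => by rw [he]; rfl)]
    · obtain ⟨T, hT⟩ := Forms59.elliptic_isometric k a c hac ζ hζ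
      exact ⟨e.trans T, fun v => by
        show _ = Cfsg.quadFormMinus k F a c (T (e v))
        rw [hT, he]⟩

/-- A pair with trivial isometry. -/
noncomputable def trivPair {V : Type u} [AddCommGroup V] [Module F V] [FiniteDimensional F V] (Q : QuadraticForm F V)
    (hQ : (QuadraticMap.polarBilin Q).Nondegenerate) (r : ℕ) : OrthPair F r :=
  { V := V, Q := Q, g := 1, nondeg := hQ, isom := fun v => rfl, pow_eq := one_pow r }

theorem trivPair_charpoly {V : Type u} [AddCommGroup V] [Module F V] [FiniteDimensional F V] (Q : QuadraticForm F V)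
    (hQ : (QuadraticMap.polarBilin Q).Nondegenerate) :
    (trivPair Q hQ r).g.charpoly = (X - C 1) ^ Module.finrank F V := by
  show (1 : Module.End F V).charpoly = _
  rw [LinearMap.charpoly_one, C_1]

theorem trivPair_fixZeros {V : Type u} [AddCommGroup V] [Module F V] [FiniteDimensional F V] (Q : QuadraticForm F V)
    (hQ : (QuadraticMap.polarBilin Q).Nondegenerate) :
    fixZeros (trivPair Q hQ r) = Nat.card {v : V // Q v = 0} :=
  Nat.card_congr (Equiv.subtypeEquivRight fun v => ⟨fun h => h.2, fun h => ⟨rfl, h⟩⟩)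

/-- A base pair of each admissible sign. -/
theorem exists_base (a : ℕ) (ε : ZMod r) (hε : ε = 1 ∨ (ε = -1 ∧ 1 ≤ a)) :
    ∃ b : OrthPair F r, b.g.charpoly = (X - C 1) ^ (2 * a) ∧
      (fixZeros b : ZMod r) * (Fintype.card F : ZMod r) = (Fintype.card F : ZMod r) ^ (2 * a) +
        ε * ((Fintype.card F : ZMod r) ^ (a + 1) - (Fintype.card F : ZMod r) ^ a) := by
  rcases hε with rfl | ⟨rfl, ha⟩
  · refine ⟨trivPair (Forms59.plusQF F a) (Forms59.plusQF_nondegenerate a) r, ?_, ?_⟩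
    · rw [trivPair_charpoly, Module.finrank_fintype_fun_eq_card, Fintype.card_sum, Fintype.card_fin, two_mul]
    · rw [trivPair_fixZeros, Forms59.coe_plusQF, zeros_plus, one_mul]
  · obtain ⟨k, rfl⟩ : ∃ k, a = k + 1 := ⟨a - 1, by omega⟩
    obtain ⟨ζ, hζ⟩ := exists_no_root (F := F)
    have han := Forms59.anisotropic_of_no_root ζ hζ
    refine ⟨trivPair (Forms59.minusQF F k 1 ζ) (Forms59.minusQF_nondegenerate k 1 ζ han) r, ?_, ?_⟩
    · rw [trivPair_charpoly, Module.finrank_fintype_fun_eq_card, Fintype.card_sum, Fintype.card_sum, Fintype.card_fin,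
        Fintype.card_fin, show k + k + 2 = 2 * (k + 1) by ring]
    · rw [trivPair_fixZeros, Forms59.coe_minusQF, zeros_minus k 1 ζ han, neg_one_mul, ← sub_eq_add_neg]

theorem eq_pow_mul_cycFactors [DecidableEq F] (hr : r.Prime) (hrF : (r : F) ≠ 0) {n : ℕ} {P : F[X]}
    (hP : P ∈ AdmPoly F n r) :
    ∃ (a : ℕ) (s : Multiset F[X]), (∀ f ∈ s, f ∈ cycFactors F r) ∧ P = (X - C 1) ^ a * s.prod ∧
      a + s.card * orderOf (Fintype.card F : ZMod r) = n ∧ (a = 0 ↔ ¬ (X - C 1) ∣ P) := by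
  classical
  obtain ⟨hspec, hfac, -⟩ := cycFactors_spec (F := F) hr hrF
  obtain ⟨hPm, hdeg, hall⟩ := hP
  set A := normalizedFactors P
  have hA : ∀ f ∈ A, f.Monic ∧ Irreducible f ∧ (f = X - C 1 ∨ f ∈ cycFactors F r) := by
    intro f hf
    have hi := irreducible_of_normalized_factor f hf
    have hm : f.Monic := by
      rw [← normalize_normalized_factor f hf]
      exact monic_normalize hi.ne_zero
    exact ⟨hm, hi, (hfac f hm hi).mp (hall f hi (dvd_of_mem_normalizedFactors hf))⟩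
  have hprod : A.prod = P := by
    have h1 : A.prod.Monic := by
      have := monic_multiset_prod_of_monic A id fun f hf => (hA f hf).1
      rwa [Multiset.map_id] at this
    exact eq_of_monic_of_associated h1 hPm (prod_normalizedFactors hPm.ne_zero)
  let B := A.filter (fun f => f ∈ cycFactors F r)
  let Cc := A.filter (fun f => ¬ f ∈ cycFactors F r)
  have hBC : B + Cc = A := Multiset.filter_add_not _ A
  have hC : Cc = Multiset.replicate Cc.card (X - C 1) := Multiset.eq_replicate_card.mpr fun f hf => by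
    obtain ⟨h1, h2⟩ := Multiset.mem_filter.mp hf
    exact (hA f h1).2.2.resolve_right h2
  have hB : ∀ f ∈ B, f ∈ cycFactors F r := fun f hf => (Multiset.mem_filter.mp hf).2
  have hPeq : P = (X - C 1) ^ Cc.card * B.prod := by
    rw [← hprod, ← hBC, Multiset.prod_add, mul_comm]
    congr 1
    conv_lhs => rw [hC, Multiset.prod_replicate]
  have hBm : B.prod.Monic := by
    have := monic_multiset_prod_of_monic B id fun f hf => (hspec f (hB f hf)).1
    rwa [Multiset.map_id] at this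
  have hBd : B.prod.natDegree = B.card * orderOf (Fintype.card F : ZMod r) := by
    rw [natDegree_multiset_prod_of_monic _ fun f hf => (hspec f (hB f hf)).1,
      Multiset.map_congr rfl fun f hf => (hspec f (hB f hf)).2.2.2.2.1, Multiset.map_const', Multiset.sum_replicate,
      smul_eq_mul]
  refine ⟨Cc.card, B, hB, hPeq, ?_, ⟨fun h0 hd => ?_, fun hd => ?_⟩⟩
  · rw [← hdeg, hPeq, ((monic_X_sub_C (1 : F)).pow _).natDegree_mul hBm, natDegree_pow, natDegree_X_sub_C, mul_one,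
      hBd]
  · rw [hPeq, h0, pow_zero, one_mul] at hd
    obtain ⟨f, hf, hfd⟩ := (irreducible_X_sub_C (1 : F)).prime.exists_mem_multiset_dvd hd
    exact (hspec f (hB f hf)).2.2.2.2.2 (eq_of_monic_of_associated (hspec f (hB f hf)).1 (monic_X_sub_C 1)
      ((irreducible_X_sub_C (1 : F)).associated_of_dvd (hspec f (hB f hf)).2.1 hfd).symm)
  · by_contra h0
    exact hd (hPeq ▸ (dvd_pow_self _ h0).mul_right _)

/-- Sign of a power of `-1`. -/
theorem pow_half [Fact r.Prime] {h : ℕ} (hh : 0 < h) (hi : orderOf (Fintype.card F : ZMod r) = 2 * h) :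
    (Fintype.card F : ZMod r) ^ h = -1 := by
  have h1 : (((Fintype.card F : ℕ) : ZMod r) ^ h) ^ 2 = 1 := by rw [← pow_mul, mul_comm, ← hi, pow_orderOf_eq_one]
  rcases sq_eq_one_iff.mp h1 with h2 | h2
  · have := Nat.le_of_dvd hh (orderOf_dvd_of_pow_eq_one h2)
    omega
  · exact h2

/-- The count of zeros of a pair with self-dual blocks determines the type. -/
theorem sign_relation [Fact r.Prime] {h : ℕ} (hh : 0 < h) (hi : orderOf (Fintype.card F : ZMod r) = 2 * h)
    {Z W ε η : ZMod r} {m a k : ℕ} (hm : m = a + h * k)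
    (hZ : Z * (Fintype.card F : ZMod r) = (Fintype.card F : ZMod r) ^ (2 * m) +
      η * ((Fintype.card F : ZMod r) ^ (m + 1) - (Fintype.card F : ZMod r) ^ m))
    (hW : W * (Fintype.card F : ZMod r) = (Fintype.card F : ZMod r) ^ (2 * a) +
      ε * ((Fintype.card F : ZMod r) ^ (a + 1) - (Fintype.card F : ZMod r) ^ a))
    (heq : Z = W) : η * (-1) ^ k = ε := by
  set Q : ZMod r := ((Fintype.card F : ℕ) : ZMod r)
  have hQh : Q ^ h = -1 := pow_half hh hi
  have h2 : Q ^ (2 * m) = Q ^ (2 * a) := by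
    rw [hm, mul_add, pow_add, show 2 * (h * k) = 2 * h * k by ring, pow_mul Q (2 * h) k, ← hi, pow_orderOf_eq_one,
      one_pow, mul_one]
  have h3 : Q ^ m = Q ^ a * (-1) ^ k := by rw [hm, pow_add, pow_mul, hQh]
  have hne : Q ^ a * (Q - 1) ≠ 0 := by
    have hQ0 : Q ≠ 0 := fun h0 => by
      rw [h0, zero_pow hh.ne'] at hQh
      exact neg_ne_zero.mpr one_ne_zero hQh.symm
    refine mul_ne_zero (pow_ne_zero _ hQ0) (sub_ne_zero.mpr fun h1 => ?_)
    have : orderOf Q = 1 := by rw [h1, orderOf_one]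
    omega
  rw [heq, hW, pow_succ, pow_succ, h2, h3] at hZ
  have : (η * (-1) ^ k - ε) * (Q ^ a * (Q - 1)) = 0 := by linear_combination -hZ
  exact sub_eq_zero.mp ((mul_eq_zero.mp this).resolve_right hne)

theorem neg_one_ne_one [Fact r.Prime] (hr2 : r ≠ 2) : (-1 : ZMod r) ≠ 1 := by
  intro h
  have h2 : ((2 : ℕ) : ZMod r) = 0 := by push_cast; linear_combination -h
  rw [ZMod.natCast_eq_zero_iff] at h2
  exact hr2 ((Nat.prime_dvd_prime_iff_eq Fact.out Nat.prime_two).mp h2)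

/-- Elliptic blocks inside an even-dimensional space of sign `η`. -/
theorem exists_elliptic_pair [DecidableEq F] (hr : r.Prime) (hrF : (r : F) ≠ 0) {h : ℕ} (hh : 0 < h)
    (hi : orderOf (Fintype.card F : ZMod r) = 2 * h) {m : ℕ} {P : F[X]} (hP : P ∈ AdmPoly F (2 * m) r) {η : ZMod r}
    (hη : η = 1 ∨ η = -1) (hbad : ¬ (X - C 1) ∣ P → η * (-1) ^ (m / h) = 1) :
    ∃ (d : OrthPair F r) (a k : ℕ), d.g.charpoly = P ∧ m = a + h * k ∧ Module.finrank F d.V = 2 * m ∧
      (Nat.card {v : d.V // d.Q v = 0} : ZMod r) * (Fintype.card F : ZMod r) = (Fintype.card F : ZMod r) ^ (2 * a) +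
        (η * (-1) ^ k) * ((Fintype.card F : ZMod r) ^ (a + 1) - (Fintype.card F : ZMod r) ^ a) := by
  obtain ⟨a, s, hs, hPeq, hsum, ha0⟩ := eq_pow_mul_cycFactors hr hrF hP
  rw [hi] at hsum
  obtain ⟨a', rfl⟩ : ∃ a', a = 2 * a' := ⟨m - s.card * h, by
    rw [Nat.mul_sub, show 2 * (s.card * h) = s.card * (2 * h) by ring]; omega⟩
  have hmm : m = a' + h * s.card := by
    have : 2 * m = 2 * (a' + h * s.card) := by rw [← hsum]; ring
    omega
  obtain ⟨b, hb1, hb2⟩ := exists_base (F := F) a' (η * (-1) ^ s.card) (by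
    rcases Nat.eq_zero_or_pos a' with rfl | hpos
    · left
      have := hbad (ha0.mp rfl)
      rwa [show m / h = s.card by rw [hmm, zero_add, Nat.mul_div_cancel_left _ hh]] at this
    · rcases hη with rfl | rfl <;> rcases neg_one_pow_eq_or (ZMod r) s.card with h1 | h1 <;>
        rw [h1] <;> simp [Nat.succ_le_iff, hpos])
  obtain ⟨d, hd1, hd2⟩ := exists_blocks hr hrF hh hi b s hs
  refine ⟨d, a', s.card, by rw [hd1, hb1, hPeq], hmm, ?_, ?_⟩
  · rw [← LinearMap.charpoly_natDegree d.g, hd1, hb1, ← hPeq, hP.2.1]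
  · rw [card_zeros_modEq hr d, hd2, hb2]

theorem elliptic_mem_plus [DecidableEq F] (hr : r.Prime) (hr2 : r ≠ 2) (hrF : (r : F) ≠ 0) {h : ℕ} (hh : 0 < h)
    (hi : orderOf (Fintype.card F : ZMod r) = 2 * h) {m : ℕ} {P : F[X]} (hP : P ∈ AdmPoly F (2 * m) r)
    (hbad : ¬ (X - C 1) ∣ P → Even (m / h)) : P ∈ Realised (Cfsg.quadFormPlus m F) r := by
  haveI : Fact r.Prime := ⟨hr⟩
  obtain ⟨d, a, k, hdc, hm, hdim, hZ⟩ := exists_elliptic_pair hr hrF hh hi hP (η := 1) (Or.inl rfl)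
    (fun hL => by rw [one_mul, (hbad hL).neg_one_pow])
  rcases classify_even d hdim with ⟨-, e, he⟩ | ⟨hz, -⟩
  · exact hdc ▸ realised_of_similitude d _ one_ne_zero e fun v => by rw [one_mul]; exact he v
  · exfalso
    have h1 := sign_relation (η := -1) hh hi hm (by rw [hz]; ring) hZ rfl
    rcases neg_one_pow_eq_or (ZMod r) k with h2 | h2 <;> rw [h2] at h1 <;>
      exact neg_one_ne_one hr2 (by first | linear_combination h1 | linear_combination -h1)

theorem elliptic_mem_minus [DecidableEq F] (hr : r.Prime) (hr2 : r ≠ 2) (hrF : (r : F) ≠ 0) {h : ℕ} (hh : 0 < h)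
    (hi : orderOf (Fintype.card F : ZMod r) = 2 * h) {m : ℕ} {P : F[X]} (hP : P ∈ AdmPoly F (2 * m) r) (a c : F)
    (hac : ∀ z₁ z₂ : F, z₁ ^ 2 + a * z₁ * z₂ + c * z₂ ^ 2 = 0 → z₁ = 0 ∧ z₂ = 0)
    (hbad : ¬ (X - C 1) ∣ P → Odd (m / h)) : P ∈ Realised (Cfsg.quadFormMinus (m - 1) F a c) r := by
  haveI : Fact r.Prime := ⟨hr⟩
  obtain ⟨d, a', k, hdc, hm, hdim, hZ⟩ := exists_elliptic_pair hr hrF hh hi hP (η := -1) (Or.inr rfl)
    (fun hL => by rw [(hbad hL).neg_one_pow]; ring)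
  rcases classify_even d hdim with ⟨hz, -⟩ | ⟨-, -, hiso⟩
  · exfalso
    have h1 := sign_relation (η := 1) hh hi hm (by rw [hz]; ring) hZ rfl
    rcases neg_one_pow_eq_or (ZMod r) k with h2 | h2 <;> rw [h2] at h1 <;>
      exact neg_one_ne_one hr2 (by first | linear_combination h1 | linear_combination -h1)
  · obtain ⟨e, he⟩ := hiso a c hac
    exact hdc ▸ realised_of_similitude d _ one_ne_zero e fun v => by rw [one_mul]; exact he v

/-- In odd dimension every self-dual polynomial with elliptic blocks is realised. -/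
theorem elliptic_mem_odd [DecidableEq F] (hr : r.Prime) (hrF : (r : F) ≠ 0) (h2 : (2 : F) ≠ 0) {h : ℕ} (hh : 0 < h)
    (hi : orderOf (Fintype.card F : ZMod r) = 2 * h) {m : ℕ} {P : F[X]} (hP : P ∈ AdmPoly F (2 * m + 1) r) :
    P ∈ Realised (Cfsg.quadFormOdd m F) r := by
  obtain ⟨a, s, hs, hPeq, hsum, -⟩ := eq_pow_mul_cycFactors hr hrF hP
  rw [hi, show s.card * (2 * h) = 2 * (s.card * h) by ring] at hsum
  obtain ⟨a', rfl⟩ : ∃ a', a = 2 * a' + 1 := ⟨m - s.card * h, by omega⟩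
  have hnd : (QuadraticMap.polarBilin (Forms59.oddQF a' (1 : F))).Nondegenerate := by
    refine (LinearMap.BilinForm.nondegenerate_iff_det_ne_zero (Pi.basisFun F _)).2 ?_
    rw [← Forms59.gram_eq_toMatrix, Forms59.gram_oddQF_det]
    exact mul_ne_zero (pow_ne_zero _ (neg_ne_zero.2 one_ne_zero)) (by rw [mul_one]; exact h2)
  obtain ⟨d, hd1, -⟩ := exists_blocks hr hrF hh hi (trivPair (Forms59.oddQF a' (1 : F)) hnd r) s hs
  have hdc : d.g.charpoly = P := by
    rw [hd1, trivPair_charpoly, hPeq]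
    congr 2
    simp [Module.finrank_fintype_fun_eq_card, two_mul]
  have hdim : Module.finrank F d.V = 2 * m + 1 := by rw [← LinearMap.charpoly_natDegree d.g, hdc, hP.2.1]
  rcases Forms59.exists_normal_form d.Q d.nondeg with ⟨k, hk, -⟩ | ⟨k, hk, c, e, hc, he⟩ | ⟨k, hk, -⟩
  · omega
  · obtain rfl : k = m := by omega
    let w : ((Fin k ⊕ Fin k) ⊕ Fin 1 → F) ≃ₗ[F] (Unit ⊕ (Fin k ⊕ Fin k) → F) :=
      { toFun := fun z => Sum.elim (fun _ => z (.inr 0)) (Sum.elim (fun j => c⁻¹ * z (.inl (.inl j))) fun j => z (.inl (.inr j)))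
        map_add' := fun x y => by ext (u | j | j) <;> simp [mul_add]
        map_smul' := fun t x => by ext (u | j | j) <;> simp [mul_left_comm]
        invFun := fun z => Sum.elim (Sum.elim (fun j => c * z (.inr (.inl j))) fun j => z (.inr (.inr j))) fun _ => z (.inl ())
        left_inv := fun z => by
          ext ((j | j) | j)
          · simp [mul_inv_cancel_left₀ hc]
          · simp
          · simp [Subsingleton.elim j 0]
        right_inv := fun z => by
          ext (u | j | j)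
          · simp
          · simp [inv_mul_cancel_left₀ hc]
          · simp }
    refine hdc ▸ realised_of_similitude d _ hc (e.trans w) fun v => ?_
    rw [he]
    simp [w, Forms59.sumForm, Cfsg.quadFormOdd, Finset.mul_sum, mul_add, sq, mul_assoc, mul_inv_cancel_left₀ hc,
      add_comm]
  · omega

/-- A realised polynomial without the eigenvalue one fixes the sign when the blocks are elliptic. -/
theorem elliptic_sign [DecidableEq F] (hr : r.Prime) (hrF : (r : F) ≠ 0) {h : ℕ} (hh : 0 < h)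
    (hi : orderOf (Fintype.card F : ZMod r) = 2 * h) {ι : Type} [Fintype ι] (Q : QuadraticForm F (ι → F))
    (hQ : (QuadraticMap.polarBilin Q).Nondegenerate) {m : ℕ} (hdim : Fintype.card ι = 2 * m) {η : ZMod r}
    (hZ : (Nat.card {v : ι → F // Q v = 0} : ZMod r) * (Fintype.card F : ZMod r) = (Fintype.card F : ZMod r) ^ (2 * m) +
      η * ((Fintype.card F : ZMod r) ^ (m + 1) - (Fintype.card F : ZMod r) ^ m))
    {P : F[X]} (hP : P ∈ Realised ⇑Q r) (hL : ¬ (X - C 1) ∣ P) :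
    h ∣ m ∧ η * (-1) ^ (m / h) = 1 := by
  classical
  haveI : Fact r.Prime := ⟨hr⟩
  have hadm := (realised_subset Q hQ hP).1
  rw [hdim] at hadm
  obtain ⟨a, s, hs, hPeq, hsum, ha0⟩ := eq_pow_mul_cycFactors hr hrF hadm
  obtain rfl := ha0.mpr hL
  rw [hi] at hsum
  have hmm : m = 0 + h * s.card := by
    have : 2 * m = 2 * (0 + h * s.card) := by rw [← hsum]; ring
    omega
  obtain ⟨A, hA, hAr, hAc⟩ := hP
  let d : OrthPair F r := { V := ι → F, Q := Q, g := A, nondeg := hQ, isom := hA, pow_eq := hAr }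
  have hfix : ∀ v, A v = v → v = 0 := by
    intro v hv
    by_contra hv0
    refine hL (hAc ▸ UniComm.dvd_of_apply_eq_zero A (irreducible_X_sub_C (1 : F)) hv0 ?_ ?_)
    · simp [hv]
    · rw [LinearMap.aeval_self_charpoly, LinearMap.zero_apply]
  have hfz : fixZeros d = 1 := by
    haveI : Unique {v : ι → F // A v = v ∧ Q v = 0} :=
      ⟨⟨⟨0, map_zero A, map_zero Q⟩⟩, fun v => Subtype.ext (hfix v.1 v.2.1)⟩
    exact Nat.card_unique
  have heq := card_zeros_modEq hr d
  rw [hfz, Nat.cast_one] at heq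
  have h1 := sign_relation (ε := 1) (W := 1) hh hi hmm hZ (by ring) heq
  refine ⟨⟨s.card, by rw [hmm, zero_add]⟩, ?_⟩
  rwa [show m / h = s.card by rw [hmm, zero_add, Nat.mul_div_cancel_left _ hh]]

/-! ### Blocks in dual pairs -/

theorem eq_pow_mul_pairs [DecidableEq F] (hr : r.Prime) (hrF : (r : F) ≠ 0)
    (hfix : ∀ f ∈ cycFactors F r, dual (RingHom.id F) f ≠ f) : ∀ (n : ℕ) (P : F[X]),
    P ∈ SelfDualAdm (RingHom.id F) n r →
      ∃ (a : ℕ) (T : F[X]), T.Monic ∧ (∀ f : F[X], Irreducible f → f ∣ T → f ∣ X ^ r - 1) ∧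
        P = (X - C 1) ^ a * (T * dual (RingHom.id F) T) ∧ a + 2 * T.natDegree = n ∧ (a = 0 → ¬ (X - C 1) ∣ P) := by
  obtain ⟨hspec, hfac, -⟩ := cycFactors_spec (F := F) hr hrF
  intro n
  induction' n using Nat.strong_induction_on with n ih
  rintro P ⟨⟨hP, hdeg, hall⟩, hPd⟩
  rcases Nat.eq_zero_or_pos n with rfl | hn
  · exact ⟨0, 1, monic_one, fun f hf h => absurd (isUnit_of_dvd_one h) hf.not_isUnit,
      by rw [hP.natDegree_eq_zero.mp hdeg, dual_one, pow_zero, one_mul, one_mul], by simp,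
      fun _ h => (irreducible_X_sub_C (1 : F)).not_isUnit (isUnit_of_dvd_one (hP.natDegree_eq_zero.mp hdeg ▸ h))⟩
  obtain ⟨f, hfm, hfi, hfP⟩ := Polynomial.exists_monic_irreducible_factor P
    (fun h => by have := natDegree_eq_zero_of_isUnit h; omega)
  rcases (hfac f hfm hfi).mp (hall f hfi hfP) with rfl | hf
  · obtain ⟨P', rfl⟩ := hfP
    have hP' := (monic_X_sub_C (1 : F)).of_mul_monic_left hP
    rw [(monic_X_sub_C (1 : F)).natDegree_mul hP', natDegree_X_sub_C] at hdeg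
    rw [dual_mul, dual_X_sub_one] at hPd
    obtain ⟨a, T, h1, h2, h3, h4, h5⟩ := ih P'.natDegree (by omega) P'
      ⟨⟨hP', rfl, fun z hz hzd => hall z hz (hzd.mul_left _)⟩, mul_left_cancel₀ (X_sub_C_ne_zero 1) hPd⟩
    exact ⟨a + 1, T, h1, h2, by rw [h3, pow_succ']; ring, by omega, fun h => absurd h (Nat.succ_ne_zero a)⟩
  · obtain ⟨-, -, hfr, -, hfd, -⟩ := hspec f hf
    have hf0 : f.coeff 0 ≠ 0 := coeff_zero_ne_of_dvd hfr (by
      rw [coeff_sub, coeff_X_pow, if_neg hr.pos.ne, coeff_one_zero, zero_sub]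
      exact neg_ne_zero.mpr one_ne_zero)
    have hm' := monic_dual (RingHom.id F) hf0
    have hi' := irreducible_dual (RingHom.id F) (fun _ => rfl) hfi hfm hf0
    have hco : IsCoprime f (dual (RingHom.id F) f) := hfi.coprime_iff_not_dvd.mpr fun hd =>
      hfix f hf (eq_of_monic_of_associated hfm hm' (hfi.associated_of_dvd hi' hd)).symm
    obtain ⟨P', rfl⟩ := hco.mul_dvd hfP (hPd ▸ dual_dvd _ hfP)
    have hP' := (hfm.mul hm').of_mul_monic_left hP
    rw [(hfm.mul hm').natDegree_mul hP', hfm.natDegree_mul hm', natDegree_dual _ hf0] at hdeg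
    have hdd := dual_dual (RingHom.id F) (fun _ => rfl) hfm hf0
    rw [dual_mul, dual_mul, hdd, mul_comm (dual (RingHom.id F) f) f] at hPd
    have := hfi.natDegree_pos
    obtain ⟨a, T, h1, h2, h3, h4, h5⟩ := ih P'.natDegree (by omega) P'
      ⟨⟨hP', rfl, fun z hz hzd => hall z hz (hzd.mul_left _)⟩, mul_left_cancel₀ (hfm.mul hm').ne_zero hPd⟩
    refine ⟨a, f * T, hfm.mul h1, fun z hz hzd => ?_, by rw [h3, dual_mul]; ring, ?_, fun ha hd => ?_⟩
    · rcases hz.prime.dvd_or_dvd hzd with h | h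
      · exact h.trans hfr
      · exact h2 z hz h
    · rw [hfm.natDegree_mul h1]
      omega
    · have hp := (irreducible_X_sub_C (1 : F)).prime
      rcases hp.dvd_or_dvd hd with h | h
      · rcases hp.dvd_or_dvd h with h | h
        · exact (hspec f hf).2.2.2.2.2 (eq_of_monic_of_associated hfm (monic_X_sub_C 1)
            ((irreducible_X_sub_C (1 : F)).associated_of_dvd hfi h).symm)
        · have h' := (irreducible_X_sub_C (1 : F)).associated_of_dvd hi' h
          refine (hspec f hf).2.2.2.2.2 ?_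
          rw [← hdd, ← eq_of_monic_of_associated (monic_X_sub_C 1) hm' h', dual_X_sub_one]
      · exact h5 ha h

omit [Fintype F] in
theorem quadFormPlus_eq_dot (m : ℕ) (v : Fin m ⊕ Fin m → F) :
    Cfsg.quadFormPlus m F v = (v ∘ Sum.inl) ⬝ᵥ (v ∘ Sum.inr) := rfl

omit [Fintype F] in
/-- The Levi matrix of `M` preserves the hyperbolic form. -/
theorem levi_quad (m : ℕ) {M : Matrix (Fin m) (Fin m) F} (hM : IsUnit M) (v : Fin m ⊕ Fin m → F) :
    Cfsg.quadFormPlus m F (Matrix.fromBlocks M 0 0 (Mᵀ)⁻¹ *ᵥ v) = Cfsg.quadFormPlus m F v := by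
  have hdet : IsUnit Mᵀ.det := (Matrix.isUnit_iff_isUnit_det _).mp ((Matrix.isUnit_transpose _).mpr hM)
  rw [quadFormPlus_eq_dot, quadFormPlus_eq_dot, Matrix.fromBlocks_mulVec]
  simp only [Sum.elim_comp_inl, Sum.elim_comp_inr, Matrix.zero_mulVec, add_zero, zero_add]
  rw [← Matrix.vecMul_transpose, ← Matrix.dotProduct_mulVec, Matrix.mulVec_mulVec, Matrix.mul_nonsing_inv _ hdet,
    Matrix.one_mulVec]

/-- The Levi element with prescribed characteristic polynomial. -/
theorem exists_levi (hr0 : r ≠ 0) (m : ℕ) {R : F[X]} (hR : R ∈ AdmPoly F m r) :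
    ∃ D : Matrix (Fin m ⊕ Fin m) (Fin m ⊕ Fin m) F, (∀ v, Cfsg.quadFormPlus m F (D *ᵥ v) = Cfsg.quadFormPlus m F v) ∧
      D ^ r = 1 ∧ D.charpoly = R * dual (RingHom.id F) R := by
  obtain ⟨M, hMc, hMr⟩ := exists_matrix_pow_eq_one r m R hR.1 hR.2.1 hR.2.2
  have hM : IsUnit M := IsUnit.of_pow_eq_one hMr hr0
  refine ⟨Matrix.fromBlocks M 0 0 (Mᵀ)⁻¹, levi_quad m hM, ?_, ?_⟩
  · have hb : ∀ k : ℕ, (Matrix.fromBlocks M 0 0 (Mᵀ)⁻¹) ^ k = Matrix.fromBlocks (M ^ k) 0 0 ((Mᵀ)⁻¹ ^ k) := by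
      intro k
      induction k with
      | zero => simp [Matrix.fromBlocks_one]
      | succ k ihk => simp [pow_succ, ihk, Matrix.fromBlocks_multiply]
    rw [hb, hMr, Matrix.inv_pow', ← Matrix.transpose_pow, hMr, Matrix.transpose_one, inv_one, Matrix.fromBlocks_one]
  · rw [Matrix.charpoly_fromBlocks_zero₁₂, hMc]
    have := charpoly_inv_transpose_map (RingHom.id F) M hM
    rw [show M.map (RingHom.id F) = M from rfl] at this
    rw [this, hMc]

/-- Product of `T` and a power of `X - 1` as an admissible polynomial. -/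
theorem adm_mul_pow (hr : r.Prime) {T : F[X]} (hT : T.Monic) (hTf : ∀ f : F[X], Irreducible f → f ∣ T → f ∣ X ^ r - 1)
    (b : ℕ) : T * (X - C 1) ^ b ∈ AdmPoly F (T.natDegree + b) r := by
  refine ⟨hT.mul ((monic_X_sub_C 1).pow _), ?_, fun f hf hfd => ?_⟩
  · rw [hT.natDegree_mul ((monic_X_sub_C 1).pow _), natDegree_pow, natDegree_X_sub_C, mul_one]
  · rcases hf.prime.dvd_or_dvd hfd with h | h
    · exact hTf f hf h
    · refine (hf.prime.dvd_of_dvd_pow h).trans ?_
      rw [C_1]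
      exact sub_one_dvd_pow_sub_one X r

omit [Fintype F] in
theorem dual_mul_pow (T : F[X]) (b : ℕ) :
    dual (RingHom.id F) (T * (X - C 1) ^ b) = dual (RingHom.id F) T * (X - C 1) ^ b := by
  induction b with
  | zero => rw [pow_zero, mul_one, mul_one]
  | succ b ih => rw [pow_succ, ← mul_assoc, dual_mul, dual_X_sub_one, ih, mul_assoc]

theorem hyperbolic_mem_plus [DecidableEq F] (hr : r.Prime) (hrF : (r : F) ≠ 0)
    (hfix : ∀ f ∈ cycFactors F r, dual (RingHom.id F) f ≠ f) {m : ℕ} {P : F[X]}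
    (hP : P ∈ SelfDualAdm (RingHom.id F) (2 * m) r) : P ∈ Realised (Cfsg.quadFormPlus m F) r := by
  obtain ⟨a, T, hT, hTf, hPeq, hdeg, -⟩ := eq_pow_mul_pairs hr hrF hfix _ P hP
  obtain ⟨b, rfl⟩ : ∃ b, a = 2 * b := ⟨m - T.natDegree, by omega⟩
  obtain ⟨D, hD, hDr, hDc⟩ := exists_levi (F := F) hr.ne_zero m (R := T * (X - C 1) ^ b)
    (by convert adm_mul_pow hr hT hTf b using 2; omega)
  refine ⟨Matrix.toLinAlgEquiv' D, hD, by rw [← map_pow, hDr, map_one], ?_⟩
  show (Matrix.toLin' D).charpoly = P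
  rw [Matrix.charpoly_toLin', hDc, dual_mul_pow, hPeq, mul_comm 2 b, pow_mul]
  ring

theorem hyperbolic_mem_odd [DecidableEq F] (hr : r.Prime) (hrF : (r : F) ≠ 0)
    (hfix : ∀ f ∈ cycFactors F r, dual (RingHom.id F) f ≠ f) {m : ℕ} {P : F[X]}
    (hP : P ∈ SelfDualAdm (RingHom.id F) (2 * m + 1) r) : P ∈ Realised (Cfsg.quadFormOdd m F) r := by
  obtain ⟨a, T, hT, hTf, hPeq, hdeg, -⟩ := eq_pow_mul_pairs hr hrF hfix _ P hP
  obtain ⟨b, rfl⟩ : ∃ b, a = 2 * b + 1 := ⟨m - T.natDegree, by omega⟩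
  obtain ⟨D, hD, hDr, hDc⟩ := exists_levi (F := F) hr.ne_zero m (R := T * (X - C 1) ^ b)
    (by convert adm_mul_pow hr hT hTf b using 2; omega)
  let E : Matrix (Unit ⊕ (Fin m ⊕ Fin m)) (Unit ⊕ (Fin m ⊕ Fin m)) F := Matrix.fromBlocks 1 0 0 D
  refine ⟨Matrix.toLinAlgEquiv' E, fun v => ?_, ?_, ?_⟩
  · show Cfsg.quadFormOdd m F (E *ᵥ v) = _
    have h := hD (v ∘ Sum.inr)
    simp only [Cfsg.quadFormOdd, E, Matrix.fromBlocks_mulVec, Sum.elim_inl, Sum.elim_inr, Matrix.zero_mulVec,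
      add_zero, zero_add, Matrix.one_mulVec, Function.comp_apply] at h ⊢
    simp only [Cfsg.quadFormPlus, Function.comp_apply] at h
    rw [h]
  · have hb : ∀ k : ℕ, E ^ k = Matrix.fromBlocks 1 0 0 (D ^ k) := by
      intro k
      induction k with
      | zero => simp [Matrix.fromBlocks_one]
      | succ k ihk => simp [pow_succ, ihk, E, Matrix.fromBlocks_multiply]
    rw [← map_pow, hb, hDr, Matrix.fromBlocks_one, map_one]
  · show (Matrix.toLin' E).charpoly = P
    rw [Matrix.charpoly_toLin', Matrix.charpoly_fromBlocks_zero₁₂, Matrix.charpoly_one, hDc, dual_mul_pow, hPeq,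
      Fintype.card_unit, pow_one, pow_succ, mul_comm 2 b, pow_mul, C_1]
    ring

theorem hyperbolic_mem_minus [DecidableEq F] (hr : r.Prime) (hrF : (r : F) ≠ 0)
    (hfix : ∀ f ∈ cycFactors F r, dual (RingHom.id F) f ≠ f) {m : ℕ} {P : F[X]} (a c : F)
    (hP : P ∈ SelfDualAdm (RingHom.id F) (2 * (m + 1)) r) (hL : (X - C 1) ∣ P) :
    P ∈ Realised (Cfsg.quadFormMinus m F a c) r := by
  obtain ⟨a', T, hT, hTf, hPeq, hdeg, h0⟩ := eq_pow_mul_pairs hr hrF hfix _ P hP
  have ha' : a' ≠ 0 := fun h => h0 h hL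
  obtain ⟨b, rfl⟩ : ∃ b, a' = 2 * b + 2 := ⟨m - T.natDegree, by omega⟩
  obtain ⟨D, hD, hDr, hDc⟩ := exists_levi (F := F) hr.ne_zero m (R := T * (X - C 1) ^ b)
    (by convert adm_mul_pow hr hT hTf b using 2; omega)
  let E : Matrix ((Fin m ⊕ Fin m) ⊕ Fin 2) ((Fin m ⊕ Fin m) ⊕ Fin 2) F := Matrix.fromBlocks D 0 0 1
  refine ⟨Matrix.toLinAlgEquiv' E, fun v => ?_, ?_, ?_⟩
  · show Cfsg.quadFormMinus m F a c (E *ᵥ v) = _
    have h := hD (v ∘ Sum.inl)
    simp only [Cfsg.quadFormMinus, E, Matrix.fromBlocks_mulVec, Sum.elim_inl, Sum.elim_inr, Matrix.zero_mulVec,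
      add_zero, zero_add, Matrix.one_mulVec, Function.comp_apply] at h ⊢
    simp only [Cfsg.quadFormPlus, Function.comp_apply] at h
    rw [h]
  · have hb : ∀ k : ℕ, E ^ k = Matrix.fromBlocks (D ^ k) 0 0 1 := by
      intro k
      induction k with
      | zero => simp [Matrix.fromBlocks_one, E]
      | succ k ihk => simp [pow_succ, ihk, E, Matrix.fromBlocks_multiply]
    rw [← map_pow, hb, hDr, Matrix.fromBlocks_one, map_one]
  · show (Matrix.toLin' E).charpoly = P
    rw [Matrix.charpoly_toLin', Matrix.charpoly_fromBlocks_zero₁₂, Matrix.charpoly_one, hDc, dual_mul_pow, hPeq,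
      Fintype.card_fin, pow_add _ (2 * b) 2, mul_comm 2 b, pow_mul, C_1]
    ring

/-- In a minus space some eigenvalue is one when the blocks come in dual pairs. -/
theorem minus_dvd [DecidableEq F] (hr : r.Prime) (hr2 : r ≠ 2) (hrF : (r : F) ≠ 0)
    (hfix : ∀ f ∈ cycFactors F r, dual (RingHom.id F) f ≠ f) {m : ℕ} {P : F[X]} (a c : F)
    (hac : ∀ z₁ z₂ : F, z₁ ^ 2 + a * z₁ * z₂ + c * z₂ ^ 2 = 0 → z₁ = 0 ∧ z₂ = 0)
    (hP : P ∈ Realised (Cfsg.quadFormMinus m F a c) r) : (X - C 1) ∣ P := by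
  by_contra hL
  rw [← Forms59.coe_minusQF] at hP
  have hsd := realised_subset _ (Forms59.minusQF_nondegenerate m a c hac) hP
  rw [show Fintype.card ((Fin m ⊕ Fin m) ⊕ Fin 2) = 2 * (m + 1) by simp; ring] at hsd
  obtain ⟨B, hB, hBr, hBc⟩ := hyperbolic_mem_plus hr hrF hfix hsd
  obtain ⟨A, hA, hAr, hAc⟩ := hP
  rw [← Forms59.coe_plusQF] at hB
  let d : OrthPair F r :=
    { V := Fin (m + 1) ⊕ Fin (m + 1) → F, Q := Forms59.plusQF F (m + 1), g := B,
      nondeg := Forms59.plusQF_nondegenerate _, isom := hB, pow_eq := hBr }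
  let d' : OrthPair F r :=
    { V := (Fin m ⊕ Fin m) ⊕ Fin 2 → F, Q := Forms59.minusQF F m a c, g := A,
      nondeg := Forms59.minusQF_nondegenerate m a c hac, isom := hA, pow_eq := hAr }
  have hfp : ∀ v, d.g v = v → v = 0 := by
    intro v hv
    by_contra hv0
    refine hL (hBc ▸ UniComm.dvd_of_apply_eq_zero B (irreducible_X_sub_C (1 : F)) hv0 ?_ ?_)
    · rw [map_sub, aeval_X, map_one, map_one, LinearMap.sub_apply, Module.End.one_apply, sub_eq_zero]
      exact hv
    · rw [LinearMap.aeval_self_charpoly, LinearMap.zero_apply]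
  obtain ⟨e, he⟩ := exists_isometry_of_charpoly hrF (hr.odd_of_ne_two hr2) d d' (hBc.trans hAc.symm) hfp
  obtain ⟨U, hU, hU0⟩ := Forms59.exists_totally_singular_plus (F := F) (m + 1)
  have h := Forms59.finrank_le_of_totally_singular_minus m a c hac (U.map e.toLinearMap) (by
    rintro _ ⟨u, hu, rfl⟩
    rw [← Forms59.coe_minusQF]
    refine (he u).trans ?_
    rw [show d.Q u = Forms59.plusQF F (m + 1) u from rfl, Forms59.coe_plusQF]
    exact hU0 u hu)
  rw [LinearEquiv.finrank_map_eq, hU] at h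
  omega

/-! ### Counting -/

theorem card_selfDual_dvd {n : ℕ} :
    Nat.card {P : F[X] // P ∈ SelfDualAdm (RingHom.id F) (n + 1) r ∧ (X - C 1) ∣ P} =
      Nat.card ↥(SelfDualAdm (RingHom.id F) n r) := by
  symm
  refine Nat.card_congr (Equiv.ofBijective (fun P => ⟨(X - C 1) * P.1, ?_, dvd_mul_right _ _⟩) ⟨?_, ?_⟩)
  · obtain ⟨P, ⟨hP, hdeg, hall⟩, hPd⟩ := P
    refine ⟨⟨(monic_X_sub_C 1).mul hP, by rw [(monic_X_sub_C (1 : F)).natDegree_mul hP, natDegree_X_sub_C, hdeg,
      add_comm], fun f hf hfd => ?_⟩, by show dual _ ((X - C 1) * P) = (X - C 1) * P; rw [dual_mul, dual_X_sub_one, hPd]⟩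
    rcases hf.prime.dvd_or_dvd hfd with h | h
    · refine h.trans ?_
      rw [C_1]
      exact sub_one_dvd_pow_sub_one X r
    · exact hall f hf h
  · intro P P' h
    exact Subtype.ext (mul_left_cancel₀ (X_sub_C_ne_zero (1 : F)) (congrArg Subtype.val h))
  · rintro ⟨P, ⟨⟨hP, hdeg, hall⟩, hPd⟩, P', rfl⟩
    have hP' := (monic_X_sub_C (1 : F)).of_mul_monic_left hP
    rw [(monic_X_sub_C (1 : F)).natDegree_mul hP', natDegree_X_sub_C] at hdeg
    rw [dual_mul, dual_X_sub_one] at hPd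
    exact ⟨⟨P', ⟨hP', by omega, fun z hz hzd => hall z hz (hzd.mul_left _)⟩,
      mul_left_cancel₀ (X_sub_C_ne_zero 1) hPd⟩, rfl⟩

theorem dual_fixed_iff_even [DecidableEq F] (hr : r.Prime) (hr2 : r ≠ 2) (hrF : (r : F) ≠ 0) {f : F[X]}
    (hf : f ∈ cycFactors F r) :
    dual (RingHom.id F) f = f ↔ Even (orderOf (Fintype.card F : ZMod r)) := by
  haveI : Fact r.Prime := ⟨hr⟩
  rw [dual_eq_self_iff (RingHom.id F) (fun _ => rfl) hr hrF (e := 1)
    (fun K _ _ => ⟨RingHom.id K, fun c => rfl, fun x => (pow_one x).symm⟩) hf, Nat.cast_one]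
  constructor
  · rintro ⟨j, hj⟩
    by_contra ho
    rw [Nat.not_even_iff_odd] at ho
    have h1 := congrArg (· ^ orderOf (Fintype.card F : ZMod r)) hj
    simp only [← pow_mul, mul_comm j] at h1
    rw [pow_mul, pow_orderOf_eq_one, one_pow, ho.neg_one_pow] at h1
    exact neg_one_ne_one hr2 h1.symm
  · rintro ⟨h, hh⟩
    rcases Nat.eq_zero_or_pos h with rfl | hpos
    · exfalso
      rw [orderOf_eq_zero_iff] at hh
      refine hh (isOfFinOrder_iff_pow_eq_one.mpr ⟨r - 1, by have := hr.two_le; omega,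
        ZMod.pow_card_sub_one_eq_one fun h0 => ?_⟩)
      have := (cycFactors_spec (F := F) hr hrF).1 f hf
      obtain ⟨-, hfi, -, -, hfd, -⟩ := this
      rw [h0, orderOf_zero] at hfd
      exact hfi.natDegree_pos.ne' hfd
    · exact ⟨h, pow_half hpos (by omega)⟩

end Cfsg.Agent.GLSemi
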