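import Cfsg.Agent.Lib.GLSemisimple.BlockCount
import Cfsg.Agent.Lib.GLSemisimple.Commutant
import Cfsg.Agent.Lib.GLSemisimple.GUClasses
import Cfsg.Agent.Forms59.SemisimpleConj
import Cfsg.Agent.Forms59.Elliptic2

/-!
Semisimple elements of finite orthogonal groups: realisable characteristic polynomials.
-/

set_option autoImplicit false

namespace Cfsg.Agent.GLSemi

universe u

open Polynomial Matrix Module

variable {F : Type u} [Field F]

/-- A pair made of a non-degenerate quadratic space and an isometry killed by `X^r - 1`. -/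
structure OrthPair (F : Type u) [Field F] (r : ℕ) where
  V : Type u
  [acg : AddCommGroup V]
  [mod : Module F V]
  [fin : FiniteDimensional F V]
  Q : QuadraticForm F V
  g : Module.End F V
  nondeg : (QuadraticMap.polarBilin Q).Nondegenerate
  isom : ∀ v, Q (g v) = Q v
  pow_eq : g ^ r = 1

attribute [instance] OrthPair.acg OrthPair.mod OrthPair.fin

/-- The characteristic polynomial of an isometry is self-dual. -/
theorem dual_charpoly_of_isometry {ι : Type*} [Fintype ι] [DecidableEq ι] (Q : QuadraticForm F (ι → F))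
    (hQ : (QuadraticMap.polarBilin Q).Nondegenerate) (A : Module.End F (ι → F)) (hA : ∀ v, Q (A v) = Q v) :
    dual (RingHom.id F) A.charpoly = A.charpoly := by
  classical
  let bs := Pi.basisFun F ι
  set G := LinearMap.BilinForm.toMatrix bs (QuadraticMap.polarBilin Q) with hG
  set a := LinearMap.toMatrix bs bs A with ha
  have hpres : aᵀ * G * a = G := by
    rw [ha, hG, ← LinearMap.BilinForm.toMatrix_comp]
    congr 1
    refine LinearMap.ext fun u => LinearMap.ext fun v => ?_
    show QuadraticMap.polar Q (A u) (A v) = QuadraticMap.polar Q u v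
    simp only [QuadraticMap.polar, ← map_add, hA]
  have hGu : IsUnit G := by
    rw [Matrix.isUnit_iff_isUnit_det, isUnit_iff_ne_zero]
    exact (LinearMap.BilinForm.nondegenerate_iff_det_ne_zero bs).1 hQ
  have hau : IsUnit a := by
    rw [Matrix.isUnit_iff_isUnit_det, isUnit_iff_ne_zero]
    intro h
    have h2 := congrArg Matrix.det hpres
    rw [Matrix.det_mul, h, mul_zero] at h2
    exact ((Matrix.isUnit_iff_isUnit_det G).mp hGu).ne_zero h2.symm
  obtain ⟨u, hu⟩ := hGu
  have hinv : (a.map (RingHom.id F))ᵀ * ((u : Matrix ι ι F) * a *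
      ((u⁻¹ : (Matrix ι ι F)ˣ) : Matrix ι ι F)) = 1 := by
    show aᵀ * _ = 1
    rw [hu, ← mul_assoc, ← mul_assoc, hpres, ← hu, Units.mul_inv]
  rw [← LinearMap.charpoly_toMatrix A bs, ← ha, ← charpoly_inv_transpose_map (RingHom.id F) a hau,
    Matrix.inv_eq_right_inv hinv, Matrix.coe_units_inv, Matrix.charpoly_units_conj]

/-- Realisable characteristic polynomials. -/
def Realised {ι : Type*} [Fintype ι] (Q : (ι → F) → F) (r : ℕ) : Set F[X] :=
  {P | ∃ A : Module.End F (ι → F), (∀ v, Q (A v) = Q v) ∧ A ^ r = 1 ∧ A.charpoly = P}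

theorem realised_subset [Fintype F] {ι : Type*} [Fintype ι] (Q : QuadraticForm F (ι → F))
    (hQ : (QuadraticMap.polarBilin Q).Nondegenerate) {r : ℕ} :
    Realised ⇑Q r ⊆ SelfDualAdm (RingHom.id F) (Fintype.card ι) r := by
  classical
  rintro P ⟨A, hA, hAr, rfl⟩
  refine ⟨⟨LinearMap.charpoly_monic A, by rw [LinearMap.charpoly_natDegree, Module.finrank_fintype_fun_eq_card],
    fun f hf hfd => ?_⟩, dual_charpoly_of_isometry Q hQ A hA⟩
  obtain ⟨v, hv, hfv⟩ := exists_ne_zero_aeval_apply_eq_zero A hf hfd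
  refine UniComm.dvd_of_apply_eq_zero A hf hv hfv ?_
  rw [map_sub, map_pow, aeval_X, map_one, hAr, sub_self, LinearMap.zero_apply]

/-- Classes of orthogonal isometries killed by `X^r - 1` correspond to realisable polynomials. -/
theorem card_classes_orth [Fintype F] {ι : Type} [Fintype ι] [DecidableEq ι] (Q : QuadraticForm F (ι → F))
    (hQ : (QuadraticMap.polarBilin Q).Nondegenerate) {r : ℕ} (hrF : (r : F) ≠ 0) (hodd : Odd r) :
    Nat.card {c : ConjClasses ↥(Cfsg.isometryGroup F ⇑Q) //
        ∃ g : ↥(Cfsg.isometryGroup F ⇑Q), ConjClasses.mk g = c ∧ g ^ r = 1} = Nat.card ↥(Realised ⇑Q r) := by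
  classical
  let mat : ↥(Cfsg.isometryGroup F ⇑Q) → Matrix ι ι F := fun g =>
    ((g : Matrix.GeneralLinearGroup ι F) : Matrix ι ι F)
  let T := (Matrix.toLinAlgEquiv' : Matrix ι ι F ≃ₐ[F] _)
  let cp : ConjClasses ↥(Cfsg.isometryGroup F ⇑Q) → F[X] :=
    Quotient.lift (fun g => (mat g).charpoly) (fun g h hgh => by
      obtain ⟨x, hx⟩ := isConj_iff.mp hgh
      rw [← hx]
      show _ = ((x * g * x⁻¹ : ↥(Cfsg.isometryGroup F ⇑Q)) : Matrix.GeneralLinearGroup ι F).val.charpoly
      rw [Subgroup.coe_mul, Subgroup.coe_mul, Subgroup.coe_inv, Units.val_mul, Units.val_mul, Matrix.coe_units_inv]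
      exact (Matrix.charpoly_units_conj _ _).symm)
  have hpow : ∀ g : ↥(Cfsg.isometryGroup F ⇑Q), g ^ r = 1 → mat g ^ r = 1 := by
    intro g hg
    simp only [mat]
    rw [← Units.val_pow_eq_pow_val, ← Subgroup.coe_pow, hg]
    rfl
  have hT : ∀ M, T M = Matrix.toLin' M := fun M => rfl
  have hpres : ∀ (g : ↥(Cfsg.isometryGroup F ⇑Q)) v, Q (T (mat g) v) = Q v := fun g v => g.2 v v
  refine Nat.card_congr (Equiv.ofBijective (fun c => ⟨cp c.1, ?_⟩) ⟨?_, ?_⟩)
  · obtain ⟨g, hg, hgr⟩ := c.2
    rw [← hg]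
    refine ⟨T (mat g), hpres g, by rw [← map_pow, hpow g hgr, map_one], ?_⟩
    rw [hT, Matrix.charpoly_toLin']
    rfl
  · rintro ⟨_, g, rfl, hg⟩ ⟨_, h, rfl, hh⟩ heq
    apply Subtype.ext
    refine ConjClasses.mk_eq_mk_iff_isConj.mpr ?_
    obtain ⟨G, hG, hGg⟩ := exists_unit_conj hrF (hpow g hg) (hpow h hh) (congrArg Subtype.val heq)
    obtain ⟨W, hW, hcomm⟩ := Forms59.orth_conj Q hQ (T (mat g)) (T (mat h)) (T G)
      ((Module.End.isUnit_iff _).1 (hG.map T.toMonoidHom))
      (by rw [← map_mul, ← map_mul]; exact congrArg T hGg) (hpres g) (hpres h)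
      (by rw [← map_pow, hpow g hg, map_one]) (by rw [← map_pow, hpow h hh, map_one]) hrF hodd
    have hWu : IsUnit (T.symm W.toLinearMap) :=
      ((Module.End.isUnit_iff _).2 W.bijective).map T.symm.toMonoidHom
    let x : ↥(Cfsg.isometryGroup F ⇑Q) := ⟨hWu.unit, fun v w => by
      show Q ((T.symm W.toLinearMap).mulVec v) = Q v
      rw [← Matrix.toLinAlgEquiv'_apply, AlgEquiv.apply_symm_apply]
      exact hW v⟩
    refine isConj_iff.2 ⟨x, ?_⟩
    rw [mul_inv_eq_iff_eq_mul]
    refine Subtype.ext (Units.ext (T.injective ?_))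
    show T (T.symm W.toLinearMap * mat g) = T (mat h * T.symm W.toLinearMap)
    rw [map_mul, map_mul, AlgEquiv.apply_symm_apply]
    exact LinearMap.ext hcomm
  · rintro ⟨P, A, hA, hAr, hAc⟩
    have hr0 : r ≠ 0 := fun h => hrF (by rw [h, Nat.cast_zero])
    have hMr : (T.symm A) ^ r = 1 := by rw [← map_pow, hAr, map_one]
    let g : ↥(Cfsg.isometryGroup F ⇑Q) := ⟨Units.ofPowEqOne (T.symm A) r hMr hr0, fun v w => by
      show Q ((T.symm A).mulVec v) = Q v
      rw [← Matrix.toLinAlgEquiv'_apply, AlgEquiv.apply_symm_apply]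
      exact hA v⟩
    refine ⟨⟨ConjClasses.mk g, g, rfl, Subtype.ext (Units.pow_ofPowEqOne hMr hr0)⟩, Subtype.ext ?_⟩
    show (T.symm A).charpoly = P
    rw [← hAc, ← Matrix.charpoly_toLin', ← hT, AlgEquiv.apply_symm_apply]

/-- Transport along a similarity. -/
theorem realised_of_similitude {r : ℕ} (d : OrthPair F r) {ι : Type*} [Fintype ι] (Qt : (ι → F) → F) {c : F}
    (hc : c ≠ 0) (e : d.V ≃ₗ[F] (ι → F)) (he : ∀ v, d.Q v = c * Qt (e v)) : d.g.charpoly ∈ Realised Qt r := by
  refine ⟨e.conj d.g, fun v => ?_, ?_, ?_⟩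
  · apply mul_left_cancel₀ hc
    rw [LinearEquiv.conj_apply_apply, ← he, d.isom, he, LinearEquiv.apply_symm_apply]
  · rw [show e.conj d.g = e.conjAlgEquiv F d.g from rfl, ← map_pow, d.pow_eq, map_one]
  · exact LinearEquiv.charpoly_conj e d.g

/-- A self-dual factor carries a non-degenerate invariant quadratic form. -/
theorem exists_blockForm [Fintype F] [DecidableEq F] {r : ℕ} (hr : r.Prime) (hrF : (r : F) ≠ 0) {h : ℕ}
    (hh : 0 < h) (hi : orderOf (Fintype.card F : ZMod r) = 2 * h) {f : F[X]} (hf : f ∈ cycFactors F r) :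
    ∃ d : OrthPair F r, d.g.charpoly = f ∧ (∀ v, d.g v = v → v = 0) := by
  obtain ⟨hfm, hfi, hfr, hf1, hfd, -⟩ := (cycFactors_spec (F := F) hr hrF).1 f hf
  obtain ⟨-, hroot⟩ := UniComm.natDegree_factor hr hrF hfi hfr hf1
  obtain ⟨hα1, hαne⟩ := hroot _ rfl
  haveI : Fact (Irreducible f) := ⟨hfi⟩
  haveI : Fact r.Prime := ⟨hr⟩
  let pb := AdjoinRoot.powerBasis hfi.ne_zero
  haveI : Module.Finite F (AdjoinRoot f) := pb.finite
  haveI : Finite (AdjoinRoot f) := Module.finite_of_finite F
  obtain ⟨p, hp⟩ := CharP.exists F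
  haveI : Fact p.Prime := ⟨CharP.char_is_prime F p⟩
  haveI : CharP (AdjoinRoot f) p := charP_of_injective_algebraMap (algebraMap F (AdjoinRoot f)).injective p
  obtain ⟨k, -, hk⟩ := FiniteField.card F p
  set α := AdjoinRoot.root f with hα
  have hord : orderOf α = r := orderOf_eq_prime hα1 hαne
  set e := Fintype.card F ^ h with he
  -- the automorphism of order two
  let σ : AdjoinRoot f →+* AdjoinRoot f := iterateFrobenius (AdjoinRoot f) p (k * h)
  have hσ : ∀ x, σ x = x ^ e := fun x => by rw [iterateFrobenius_def, pow_mul, ← hk]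
  have hcardE : Nat.card (AdjoinRoot f) = Fintype.card F ^ (2 * h) := by
    rw [Module.natCard_eq_pow_finrank (K := F), pb.finrank, AdjoinRoot.powerBasis_dim, hfd, hi,
      Nat.card_eq_fintype_card]
  letI : Fintype (AdjoinRoot f) := Fintype.ofFinite _
  have hσ2 : ∀ x, σ (σ x) = x := fun x => by
    rw [hσ, hσ, ← pow_mul, he, ← pow_add, ← two_mul, ← hcardE, Nat.card_eq_fintype_card, FiniteField.pow_card]
  have hαe : α ^ e * α = 1 := by
    rw [← pow_succ, ← orderOf_dvd_iff_pow_eq_one, hord, ← ZMod.natCast_eq_zero_iff, Nat.cast_add, Nat.cast_one, he,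
      Nat.cast_pow]
    have h1 : (((Fintype.card F : ℕ) : ZMod r) ^ h) ^ 2 = 1 := by
      rw [← pow_mul, mul_comm, ← hi, pow_orderOf_eq_one]
    rcases sq_eq_one_iff.mp h1 with h2 | h2
    · have := Nat.le_of_dvd hh (orderOf_dvd_of_pow_eq_one h2)
      omega
    · rw [h2, neg_add_cancel]
  have hσne : σ ≠ RingHom.id (AdjoinRoot f) := by
    intro hid
    have h1 : α ^ e = α := by rw [← hσ, hid]; rfl
    have h2 : α ^ 2 = 1 := by rw [sq]; nth_rewrite 1 [← h1]; exact hαe
    have h3 := orderOf_dvd_of_pow_eq_one h2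
    rw [hord, Nat.prime_dvd_prime_iff_eq hr Nat.prime_two] at h3
    subst h3
    have hle : orderOf ((Fintype.card F : ℕ) : ZMod 2) ≤ 1 := by
      by_cases h : ((Fintype.card F : ℕ) : ZMod 2) = 0
      · rw [h, orderOf_zero]; omega
      · exact Nat.le_of_dvd one_pos (ZMod.orderOf_dvd_card_sub_one h)
    omega
  obtain ⟨ω, hω⟩ := Forms.exists_trace_eq hσne hσ2 (map_one σ)
  have hfixF : ∀ (m : ℕ) (c : F), c ^ Fintype.card F ^ m = c := fun m c => by
    induction m with
    | zero => rw [pow_zero, pow_one]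
    | succ m ih => rw [pow_succ, pow_mul, ih, FiniteField.pow_card]
  let σl : AdjoinRoot f →ₗ[F] AdjoinRoot f :=
    { toFun := σ
      map_add' := map_add σ
      map_smul' := fun c x => by
        show σ (c • x) = c • σ x
        rw [Algebra.smul_def, Algebra.smul_def, map_mul]
        congr 1
        rw [hσ, ← map_pow, he]
        congr 1
        exact hfixF h c }
  let β : LinearMap.BilinMap F (AdjoinRoot f) F :=
    ((LinearMap.mul F (AdjoinRoot f)).compl₁₂ (Algebra.lmul F _ ω) σl).compr₂ (Algebra.trace F (AdjoinRoot f))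
  have hβ : ∀ x y, β x y = Algebra.trace F _ (ω * x * σ y) := fun x y => rfl
  let Q := β.toQuadraticMap
  have hpolar : ∀ x y, QuadraticMap.polar Q x y = Algebra.trace F _ (x * σ y) := by
    intro x y
    rw [LinearMap.BilinMap.polar_toQuadraticMap, hβ, hβ]
    have hinv : Algebra.trace F _ (ω * y * σ x) = Algebra.trace F _ (σ ω * x * σ y) := by
      let σa : AdjoinRoot f ≃ₐ[F] AdjoinRoot f :=
        AlgEquiv.ofRingEquiv (f := RingEquiv.ofBijective σ (Finite.injective_iff_bijective.1 σ.injective))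
          (fun c => by
            show σ (algebraMap F _ c) = _
            rw [Algebra.algebraMap_eq_smul_one]
            show σl (c • (1 : AdjoinRoot f)) = _
            rw [map_smul]
            show c • σ 1 = _
            rw [map_one])
      rw [← Algebra.trace_eq_of_algEquiv σa (ω * y * σ x)]
      congr 1
      show σ (ω * y * σ x) = _
      rw [map_mul, map_mul, hσ2]
      ring
    rw [hinv, ← map_add]
    congr 1
    linear_combination (x * σ y) * hω
  refine ⟨{ V := AdjoinRoot f, Q := Q, g := Algebra.lmul F _ α, nondeg := ?_, isom := ?_, pow_eq := ?_ }, ?_, ?_⟩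
  · have main : ∀ x, (∀ y, QuadraticMap.polar Q x y = 0) → x = 0 := by
      intro x hx
      by_contra hx0
      obtain ⟨z, hz⟩ := Algebra.trace_surjective F (AdjoinRoot f) 1
      have h1 := hx (σ (z / x))
      rw [hpolar, hσ2, mul_div_cancel₀ _ hx0, hz] at h1
      exact one_ne_zero h1
    refine ⟨fun x hx => main x hx, fun y hy => main y fun x => ?_⟩
    rw [QuadraticMap.polar_comm]
    exact hy x
  · intro v
    show β (α * v) (α * v) = β v v
    rw [hβ, hβ, map_mul σ, hσ α]
    congr 1
    linear_combination (ω * v * σ v) * hαe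
  · rw [← map_pow, hα1, map_one]
  · rw [← LinearMap.charpoly_toMatrix _ pb.basis]
    show (Algebra.leftMulMatrix pb.basis α).charpoly = f
    rw [hα, ← AdjoinRoot.powerBasis_gen hfi.ne_zero]
    rw [charpoly_leftMulMatrix, AdjoinRoot.powerBasis_gen, AdjoinRoot.minpoly_root hfi.ne_zero, hfm.leadingCoeff,
      inv_one, map_one, mul_one]
  · intro v hv
    have h1 : (α - 1) * v = 0 := by
      rw [sub_mul, one_mul, sub_eq_zero]
      exact hv
    exact (mul_eq_zero.mp h1).resolve_left (sub_ne_zero.mpr hαne)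

/-- Zeros of a form fixed by an isometry. -/
noncomputable def fixZeros {r : ℕ} (d : OrthPair F r) : ℕ := Nat.card {v : d.V // d.g v = v ∧ d.Q v = 0}

/-- Orthogonal sum of self-dual blocks with a base pair. -/
theorem exists_blocks [Fintype F] [DecidableEq F] {r : ℕ} (hr : r.Prime) (hrF : (r : F) ≠ 0) {h : ℕ} (hh : 0 < h)
    (hi : orderOf (Fintype.card F : ZMod r) = 2 * h) (base : OrthPair F r) (s : Multiset F[X])
    (hs : ∀ f ∈ s, f ∈ cycFactors F r) :
    ∃ d : OrthPair F r, d.g.charpoly = base.g.charpoly * s.prod ∧ fixZeros d = fixZeros base := by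
  induction s using Multiset.induction_on with
  | empty => exact ⟨base, by simp, rfl⟩
  | cons f s ih =>
    obtain ⟨d, hd1, hd2⟩ := ih fun g hg => hs g (Multiset.mem_cons_of_mem hg)
    obtain ⟨b, hb1, hb2⟩ := exists_blockForm hr hrF hh hi (hs f (Multiset.mem_cons_self _ _))
    refine ⟨{ V := d.V × b.V, Q := d.Q.prod b.Q, g := d.g.prodMap b.g, nondeg := ?_, isom := ?_, pow_eq := ?_ },
      ?_, ?_⟩
    · have key : ∀ x y : d.V × b.V, QuadraticMap.polar (d.Q.prod b.Q) x y =
          QuadraticMap.polar d.Q x.1 y.1 + QuadraticMap.polar b.Q x.2 y.2 := fun x y => by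
        simp only [QuadraticMap.polar, QuadraticMap.prod_apply, Prod.fst_add, Prod.snd_add]
        ring
      have main : ∀ x : d.V × b.V, (∀ y, QuadraticMap.polar (d.Q.prod b.Q) x y = 0) → x = 0 := by
        intro x hx
        apply Prod.ext
        · exact d.nondeg.1 _ fun y => by
            have := hx (y, 0)
            rw [key] at this
            simp only [QuadraticMap.polar_zero_right, add_zero] at this
            exact this
        · exact b.nondeg.1 _ fun y => by
            have := hx (0, y)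
            rw [key] at this
            simp only [QuadraticMap.polar_zero_right, zero_add] at this
            exact this
      exact ⟨fun x hx => main x hx, fun y hy => main y fun x => by rw [QuadraticMap.polar_comm]; exact hy x⟩
    · intro v
      simp [QuadraticMap.prod_apply, d.isom, b.isom]
    · show (LinearMap.prodMapRingHom F d.V b.V (d.g, b.g)) ^ r = 1
      rw [← map_pow, Prod.pow_mk, d.pow_eq, b.pow_eq]
      exact map_one _
    · rw [LinearMap.charpoly_prodMap, hd1, hb1, Multiset.prod_cons]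
      ring
    · rw [← hd2]
      refine Nat.card_congr
        { toFun := fun v => ⟨v.1.1, ?_, ?_⟩
          invFun := fun v => ⟨(v.1, 0), ?_, ?_⟩
          left_inv := fun v => ?_
          right_inv := fun v => rfl }
      · exact congrArg Prod.fst v.2.1
      · have h1 := v.2.2
        have h2 : v.1.2 = 0 := hb2 _ (congrArg Prod.snd v.2.1)
        simp only [QuadraticMap.prod_apply, h2, map_zero, add_zero] at h1
        exact h1
      · show (d.g v.1, b.g 0) = _
        rw [map_zero, v.2.1]
      · simp [QuadraticMap.prod_apply, v.2.2]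
      · apply Subtype.ext
        apply Prod.ext
        · rfl
        · exact (hb2 _ (congrArg Prod.snd v.2.1)).symm

/-- Zeros of an invariant form are congruent to the fixed zeros. -/
theorem card_zeros_modEq [Fintype F] {r : ℕ} (hr : r.Prime) (d : OrthPair F r) :
    (Nat.card {v : d.V // d.Q v = 0} : ZMod r) = (fixZeros d : ZMod r) := by
  haveI : Fact r.Prime := ⟨hr⟩
  haveI : Finite d.V := Module.finite_of_finite F
  let u : (Module.End F d.V)ˣ := Units.ofPowEqOne d.g r d.pow_eq hr.ne_zero
  let Z := {v : d.V // d.Q v = 0}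
  let act : MulAction ↥(Subgroup.zpowers u) Z :=
    { smul := fun x v => ⟨(x.1 : Module.End F d.V) v.1, by
        obtain ⟨x, hx⟩ := x
        have hx' : x ∈ Submonoid.powers u := (IsOfFinOrder.mem_powers_iff_mem_zpowers
          (isOfFinOrder_iff_pow_eq_one.mpr ⟨r, hr.pos, Units.pow_ofPowEqOne d.pow_eq hr.ne_zero⟩)).mpr hx
        obtain ⟨k, rfl⟩ := hx'
        show d.Q (((u ^ k : (Module.End F d.V)ˣ) : Module.End F d.V) v.1) = 0
        rw [Units.val_pow_eq_pow_val]
        show d.Q ((d.g ^ k) v.1) = 0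
        clear hx
        induction k with
        | zero => exact v.2
        | succ k ih => rw [pow_succ', Module.End.mul_apply, d.isom]; exact ih⟩
      one_smul := fun v => Subtype.ext rfl
      mul_smul := fun x y v => Subtype.ext rfl }
  have hP : IsPGroup r ↥(Subgroup.zpowers u) := by
    intro x
    refine ⟨1, Subtype.ext ?_⟩
    obtain ⟨x, k, rfl⟩ := x
    show (u ^ k) ^ (r ^ 1) = 1
    rw [pow_one, ← zpow_natCast, zpow_comm, zpow_natCast, Units.pow_ofPowEqOne d.pow_eq hr.ne_zero, _root_.one_zpow]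
  have h := hP.card_modEq_card_fixedPoints Z
  rw [← ZMod.natCast_eq_natCast_iff] at h
  rw [h, fixZeros]
  congr 1
  refine Nat.card_congr
    { toFun := fun v => ⟨v.1.1, congrArg Subtype.val (v.2 ⟨u, Subgroup.mem_zpowers u⟩), v.1.2⟩
      invFun := fun v => ⟨⟨v.1, v.2.2⟩, ?_⟩
      left_inv := fun v => rfl
      right_inv := fun v => rfl }
  rintro ⟨x, hx⟩
  apply Subtype.ext
  show (x : Module.End F d.V) v.1 = v.1
  have hx' : x ∈ Submonoid.powers u := (IsOfFinOrder.mem_powers_iff_mem_zpowers
    (isOfFinOrder_iff_pow_eq_one.mpr ⟨r, hr.pos, Units.pow_ofPowEqOne d.pow_eq hr.ne_zero⟩)).mpr hx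
  obtain ⟨k, rfl⟩ := hx'
  show ((u ^ k : (Module.End F d.V)ˣ) : Module.End F d.V) v.1 = v.1
  rw [Units.val_pow_eq_pow_val]
  show (d.g ^ k) v.1 = v.1
  clear hx
  induction k with
  | zero => rfl
  | succ k ih => rw [pow_succ', Module.End.mul_apply, ih, v.2.1]

/-- Two forms invariant under fixed-point-free semisimple isometries with one characteristic polynomial. -/
theorem exists_isometry_of_charpoly [Fintype F] {r : ℕ} (hrF : (r : F) ≠ 0) (hodd : Odd r) (d d' : OrthPair F r)
    (hc : d.g.charpoly = d'.g.charpoly) (hfix : ∀ v, d.g v = v → v = 0) :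
    ∃ e : d.V ≃ₗ[F] d'.V, ∀ v, d'.Q (e v) = d.Q v := by
  have hsq : Squarefree (X ^ r - 1 : F[X]) := by
    have h := (separable_X_pow_sub_C (1 : F) hrF one_ne_zero).squarefree
    rwa [C_1] at h
  have hss : ∀ d : OrthPair F r, d.g.IsSemisimple := fun d =>
    Module.End.isSemisimple_of_squarefree_aeval_eq_zero (p := X ^ r - 1) hsq
      (by rw [map_sub, map_pow, aeval_X, map_one, d.pow_eq, sub_self])
  obtain ⟨x, hx⟩ := exists_equiv_of_charpoly_eq d.g d'.g (hss d) (hss d') hc
  let B1 := QuadraticMap.polarBilin d.Q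
  let B2 : LinearMap.BilinForm F d.V := LinearMap.BilinForm.comp (QuadraticMap.polarBilin d'.Q) x.toLinearMap x.toLinearMap
  have hpol : ∀ (e : OrthPair F r) u v, QuadraticMap.polar e.Q (e.g u) (e.g v) = QuadraticMap.polar e.Q u v :=
    fun e u v => by simp only [QuadraticMap.polar, ← map_add, e.isom]
  have hinj : Function.Injective ⇑(d.g * d.g - 1) := by
    rw [injective_iff_map_eq_zero]
    intro v hv
    rw [LinearMap.sub_apply, Module.End.mul_apply, Module.End.one_apply, sub_eq_zero] at hv
    apply hfix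
    obtain ⟨k, hk⟩ := hodd
    have h1 : (d.g ^ r) v = d.g v := by
      refine (congrArg (fun m => (d.g ^ m) v) hk).trans ?_
      show (d.g ^ (2 * k + 1)) v = d.g v
      rw [pow_succ', Module.End.mul_apply]
      congr 1
      clear hk
      induction k with
      | zero => simp
      | succ k ih => rw [show 2 * (k + 1) = 2 * k + 1 + 1 by ring, pow_succ, pow_succ, Module.End.mul_apply,
          Module.End.mul_apply, hv, ih]
    rw [d.pow_eq, Module.End.one_apply] at h1
    exact h1.symm
  have hB2 : B2.Nondegenerate := by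
    refine ⟨fun u hu => x.injective ?_, fun v hv => x.injective ?_⟩
    · rw [map_zero]
      refine d'.nondeg.1 _ fun w => ?_
      have := hu (x.symm w)
      simpa [B2] using this
    · rw [map_zero]
      refine d'.nondeg.2 _ fun w => ?_
      have := hv (x.symm w)
      simpa [B2] using this
  obtain ⟨c, hcg, hcB⟩ := Forms59.exists_commute_of_forms d.g B1 B2 1
    (fun u v => by rw [one_mul]; exact QuadraticMap.polar_comm _ _ _)
    (fun u v => by rw [one_mul]; exact QuadraticMap.polar_comm _ _ _) d.nondeg hB2 (hpol d)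
    (fun u v => by
      show QuadraticMap.polar d'.Q (x (d.g u)) (x (d.g v)) = _
      rw [hx, hx, hpol]
      rfl) hinj
  have hD : ∀ v, d'.Q (x v) = d.Q (c v) := by
    have hadd : ∀ u v, d'.Q (x (u + v)) - d.Q (c (u + v)) =
        (d'.Q (x u) - d.Q (c u)) + (d'.Q (x v) - d.Q (c v)) := by
      intro u v
      have h := hcB u v
      change QuadraticMap.polar d'.Q (x u) (x v) = QuadraticMap.polar d.Q (c u) (c v) at h
      simp only [QuadraticMap.polar] at h
      rw [map_add x, map_add c]
      linear_combination h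
    have hinv : ∀ u, d'.Q (x (d.g u)) - d.Q (c (d.g u)) = d'.Q (x u) - d.Q (c u) := fun u => by
      rw [hx, d'.isom, hcg, d.isom]
    intro v
    have hinj1 : Function.Injective ⇑(d.g - 1) := by
      rw [injective_iff_map_eq_zero]
      intro w hw
      exact hfix w (sub_eq_zero.mp (by simpa using hw))
    obtain ⟨w, rfl⟩ := (LinearMap.injective_iff_surjective.1 hinj1) v
    have h := hadd ((d.g - 1) w) w
    rw [LinearMap.sub_apply, Module.End.one_apply, sub_add_cancel, hinv] at h
    rw [LinearMap.sub_apply, Module.End.one_apply]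
    linear_combination -h
  refine ⟨c.symm.trans x, fun v => ?_⟩
  rw [LinearEquiv.trans_apply, hD, LinearEquiv.apply_symm_apply]

end Cfsg.Agent.GLSemi
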