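import Cfsg.Agent.Lib.GLSemisimple.Classes

/-!
Classes of involutions of `PGL_n(q)`, `q` odd.
-/

set_option autoImplicit false

namespace Cfsg.Agent.GLSemi

open Polynomial Matrix

variable {F : Type*} [Field F]

/-- The diagonal with `i` entries `-1`. -/
def sgnDiag (F : Type*) [Field F] (n i : ℕ) : Matrix (Fin n) (Fin n) F :=
  Matrix.diagonal fun k => if (k : ℕ) < i then -1 else 1

theorem sgnDiag_sq (n i : ℕ) : sgnDiag F n i ^ 2 = 1 := by
  rw [sgnDiag, Matrix.diagonal_pow, ← Matrix.diagonal_one]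
  congr 1
  funext k
  simp only [Pi.pow_apply]
  split_ifs <;> ring

theorem card_lt_filter {n i : ℕ} (hi : i ≤ n) :
    (Finset.univ.filter fun k : Fin n => (k : ℕ) < i).card = i := by
  refine (Finset.card_bij (s := Finset.univ.filter fun k : Fin n => (k : ℕ) < i) (t := Finset.range i) (fun k _ => (k : ℕ)) (fun k hk => ?_) (fun _ _ _ _ h => Fin.ext h)
    (fun b hb => ?_)).trans (Finset.card_range i)
  · simp only [Finset.mem_filter] at hk
    exact Finset.mem_range.mpr hk.2
  · have := Finset.mem_range.mp hb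
    exact ⟨⟨b, by omega⟩, Finset.mem_filter.mpr ⟨Finset.mem_univ _, this⟩, rfl⟩

theorem charpoly_sgnDiag {n i : ℕ} (hi : i ≤ n) :
    (sgnDiag F n i).charpoly = (X + 1) ^ i * (X - 1) ^ (n - i) := by
  rw [sgnDiag, Matrix.charpoly_diagonal]
  rw [Finset.prod_congr rfl (g := fun k : Fin n => if (k : ℕ) < i then X + 1 else X - 1) fun k _ => by
    split_ifs <;> simp]
  rw [Finset.prod_ite, Finset.prod_const, Finset.prod_const, card_lt_filter hi, Finset.filter_not,
    Finset.card_sdiff_of_subset (Finset.filter_subset _ _), Finset.card_univ, Fintype.card_fin, card_lt_filter hi]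

theorem neg_sgnDiag_charpoly {n i : ℕ} (hi : i ≤ n) :
    ((-1 : F) • sgnDiag F n i).charpoly = (X + 1) ^ (n - i) * (X - 1) ^ i := by
  rw [neg_one_smul, sgnDiag, Matrix.diagonal_neg, Matrix.charpoly_diagonal]
  rw [Finset.prod_congr rfl (g := fun k : Fin n => if (k : ℕ) < i then X - 1 else X + 1) fun k _ => by
    split_ifs <;> simp]
  rw [Finset.prod_ite, Finset.prod_const, Finset.prod_const, card_lt_filter hi, Finset.filter_not,
    Finset.card_sdiff_of_subset (Finset.filter_subset _ _), Finset.card_univ, Fintype.card_fin, card_lt_filter hi,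
    mul_comm]

theorem eq_of_pow_mul_eq (h2 : (2 : F) ≠ 0) {a b c d : ℕ}
    (h : ((X + 1) ^ a * (X - 1) ^ b : F[X]) = (X + 1) ^ c * (X - 1) ^ d) : a = c := by
  classical
  have hr : ∀ a b : ℕ, ((X + 1) ^ a * (X - 1) ^ b : F[X]).rootMultiplicity (-1) = a := by
    intro a b
    have h1 : ((X + 1) ^ a * (X - 1) ^ b : F[X]) = (X - C (-1 : F)) ^ a * (X - 1) ^ b := by
      rw [map_neg, map_one, sub_neg_eq_add]
    have hne : ((X - C (-1 : F)) ^ a * (X - 1) ^ b : F[X]) ≠ 0 :=
      mul_ne_zero (pow_ne_zero _ (X_sub_C_ne_zero _)) (pow_ne_zero _ (by rw [← C_1]; exact X_sub_C_ne_zero _))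
    rw [h1, rootMultiplicity_mul hne, rootMultiplicity_X_sub_C_pow, rootMultiplicity_eq_zero, add_zero]
    simp only [IsRoot, eval_pow, eval_sub, eval_X, eval_one]
    refine pow_ne_zero _ fun h => h2 ?_
    linear_combination -h
  rw [← hr a b, h, hr c d]

theorem factor_dvd_of_aeval {n : ℕ} {M : Matrix (Fin n) (Fin n) F} {Q f : F[X]} (hQ : aeval M Q = 0)
    (hf : Irreducible f) (hdvd : f ∣ M.charpoly) : f ∣ Q := by
  obtain ⟨v, hv, hfv⟩ := exists_ne_zero_aeval_apply_eq_zero (Matrix.toLin' M) hf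
    (by rwa [Matrix.charpoly_toLin'])
  by_contra hnd
  obtain ⟨a, b, hab⟩ := hf.coprime_iff_not_dvd.mpr hnd
  have h0 : aeval (Matrix.toLin' M) Q = 0 := by
    have h := congrArg Matrix.toLinAlgEquiv'.toAlgHom hQ
    rw [← aeval_algHom_apply, map_zero] at h
    exact h
  have h := congrArg (fun P => aeval (Matrix.toLin' M) P v) hab
  simp only [map_add, map_mul, map_one, LinearMap.add_apply, Module.End.mul_apply, hfv, map_zero,
    Module.End.one_apply, h0, LinearMap.zero_apply, add_zero] at h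
  exact hv h.symm

theorem charpoly_of_sq_eq_one {n : ℕ} {M : Matrix (Fin n) (Fin n) F} (hM : M ^ 2 = 1) :
    ∃ i ≤ n, M.charpoly = (X + 1) ^ i * (X - 1) ^ (n - i) := by
  classical
  have hPm : M.charpoly.Monic := Matrix.charpoly_monic M
  set A := UniqueFactorizationMonoid.normalizedFactors M.charpoly with hA
  have hmem : ∀ f ∈ A, f = X + 1 ∨ f = X - 1 := by
    intro f hf
    have hi := UniqueFactorizationMonoid.irreducible_of_normalized_factor f hf
    have hm : f.Monic := by
      rw [← UniqueFactorizationMonoid.normalize_normalized_factor f hf]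
      exact Polynomial.monic_normalize hi.ne_zero
    have hd := factor_dvd_of_pow_eq_one hM hi (UniqueFactorizationMonoid.dvd_of_mem_normalizedFactors hf)
    rw [show (X ^ 2 - 1 : F[X]) = (X + 1) * (X - 1) by ring] at hd
    rcases hi.prime.dvd_or_dvd hd with h | h
    · left
      refine eq_of_monic_of_associated hm (by rw [← C_1]; exact monic_X_add_C 1)
        (hi.associated_of_dvd (by rw [← C_1]; exact irreducible_of_degree_eq_one (degree_X_add_C 1)) h)
    · right
      refine eq_of_monic_of_associated hm (by rw [← C_1]; exact monic_X_sub_C 1)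
        (hi.associated_of_dvd (by rw [← C_1]; exact irreducible_X_sub_C 1) h)
  let B := A.filter fun f => f = X + 1
  let C' := A.filter fun f => ¬ f = X + 1
  have hB : B = Multiset.replicate B.card (X + 1) :=
    Multiset.eq_replicate_card.mpr fun f hf => (Multiset.mem_filter.mp hf).2
  have hC : C' = Multiset.replicate C'.card (X - 1) := Multiset.eq_replicate_card.mpr fun f hf =>
    (hmem f (Multiset.mem_filter.mp hf).1).resolve_left (Multiset.mem_filter.mp hf).2
  have hAprod : A.prod = (X + 1) ^ B.card * (X - 1) ^ C'.card := by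
    conv_lhs => rw [← Multiset.filter_add_not (fun f => f = X + 1) A]
    show (B + C').prod = _
    rw [Multiset.prod_add]
    conv_lhs => rw [hB, hC]
    rw [Multiset.prod_replicate, Multiset.prod_replicate]
  have h1 : (X + 1 : F[X]).Monic := by rw [← C_1]; exact monic_X_add_C 1
  have h2 : (X - 1 : F[X]).Monic := by rw [← C_1]; exact monic_X_sub_C 1
  have heq : M.charpoly = (X + 1) ^ B.card * (X - 1) ^ C'.card := by
    rw [← hAprod]
    exact (eq_of_monic_of_associated (hAprod ▸ (h1.pow _).mul (h2.pow _)) hPm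
      (UniqueFactorizationMonoid.prod_normalizedFactors hPm.ne_zero)).symm
  have hdeg : B.card + C'.card = n := by
    have := congrArg natDegree heq
    rw [Matrix.charpoly_natDegree_eq_dim, Fintype.card_fin, (h1.pow _).natDegree_mul (h2.pow _), natDegree_pow,
      natDegree_pow] at this
    have e1 : (X + 1 : F[X]).natDegree = 1 := by rw [← C_1]; exact natDegree_X_add_C 1
    have e2 : (X - 1 : F[X]).natDegree = 1 := by rw [← C_1]; exact natDegree_X_sub_C 1
    rw [e1, e2] at this
    omega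
  exact ⟨B.card, by omega, by rw [heq, show n - B.card = C'.card by omega]⟩

theorem charpoly_of_sq_eq_nonsquare {n : ℕ} {M : Matrix (Fin n) (Fin n) F} {μ : F} (hμ : ¬ IsSquare μ)
    (hM : M ^ 2 = Matrix.scalar (Fin n) μ) : Even n ∧ M.charpoly = (X ^ 2 - C μ) ^ (n / 2) := by
  classical
  have hPm : M.charpoly.Monic := Matrix.charpoly_monic M
  have hQ : aeval M (X ^ 2 - C μ : F[X]) = 0 := by
    rw [map_sub, map_pow, aeval_X, aeval_C, hM, sub_eq_zero]
    rfl
  have hQi : Irreducible (X ^ 2 - C μ : F[X]) := by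
    rw [irreducible_iff_roots_eq_zero_of_degree_le_three (by rw [natDegree_X_pow_sub_C])
      (by rw [natDegree_X_pow_sub_C]; omega)]
    refine Multiset.eq_zero_of_forall_notMem fun u hu => hμ ⟨u, ?_⟩
    rw [mem_roots (X_pow_sub_C_ne_zero two_pos μ), IsRoot] at hu
    simp [sub_eq_zero] at hu
    rw [← hu, sq]
  set A := UniqueFactorizationMonoid.normalizedFactors M.charpoly with hA
  have hA' : A = Multiset.replicate A.card (X ^ 2 - C μ) := Multiset.eq_replicate_card.mpr fun f hf => by
    have hi := UniqueFactorizationMonoid.irreducible_of_normalized_factor f hf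
    have hm : f.Monic := by
      rw [← UniqueFactorizationMonoid.normalize_normalized_factor f hf]
      exact Polynomial.monic_normalize hi.ne_zero
    exact eq_of_monic_of_associated hm (monic_X_pow_sub_C μ two_ne_zero) (hi.associated_of_dvd hQi
      (factor_dvd_of_aeval hQ hi (UniqueFactorizationMonoid.dvd_of_mem_normalizedFactors hf)))
  have hAprod : A.prod = (X ^ 2 - C μ) ^ A.card := by
    conv_lhs => rw [hA']
    rw [Multiset.prod_replicate]
  have heq : M.charpoly = (X ^ 2 - C μ) ^ A.card := by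
    rw [← hAprod]
    exact (eq_of_monic_of_associated (hAprod ▸ (monic_X_pow_sub_C μ two_ne_zero).pow _) hPm
      (UniqueFactorizationMonoid.prod_normalizedFactors hPm.ne_zero)).symm
  have hdeg : n = 2 * A.card := by
    have := congrArg natDegree heq
    rw [Matrix.charpoly_natDegree_eq_dim, Fintype.card_fin, natDegree_pow, natDegree_X_pow_sub_C] at this
    omega
  refine ⟨⟨A.card, by omega⟩, ?_⟩
  rw [heq, show n / 2 = A.card by omega]

theorem exists_sq_eq_scalar {n : ℕ} (hn : Even n) (μ : F) :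
    ∃ M : Matrix (Fin n) (Fin n) F, M ^ 2 = Matrix.scalar (Fin n) μ := by
  obtain ⟨m, rfl⟩ := hn
  refine ⟨Matrix.reindexAlgEquiv F F finSumFinEquiv
    (Matrix.fromBlocks 0 (μ • (1 : Matrix (Fin m) (Fin m) F)) (1 : Matrix (Fin m) (Fin m) F) 0), ?_⟩
  rw [sq, ← map_mul, Matrix.fromBlocks_multiply]
  simp only [zero_mul, mul_zero, mul_one, one_mul, zero_add, add_zero]
  rw [show Matrix.fromBlocks (μ • (1 : Matrix (Fin m) (Fin m) F)) 0 0 (μ • 1) =
    μ • (1 : Matrix (Fin m ⊕ Fin m) (Fin m ⊕ Fin m) F) by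
      rw [← Matrix.fromBlocks_one, Matrix.fromBlocks_smul, smul_zero],
    map_smul, map_one, Matrix.scalar_apply, ← Matrix.smul_one_eq_diagonal]

theorem scalar_val {n : ℕ} (c : Fˣ) :
    ((Matrix.GeneralLinearGroup.scalar (Fin n) c : GL (Fin n) F) : Matrix (Fin n) (Fin n) F) =
      (c : F) • (1 : Matrix (Fin n) (Fin n) F) := by
  rw [Matrix.smul_one_eq_diagonal]
  rfl

/-- Class in `PGL_n` of a matrix. -/
noncomputable def projClass {n : ℕ} (g : GL (Fin n) F) :
    ConjClasses (GL (Fin n) F ⧸ Subgroup.center (GL (Fin n) F)) :=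
  ConjClasses.mk (QuotientGroup.mk g)

theorem projClass_eq_iff {n : ℕ} (g h : GL (Fin n) F) :
    projClass g = projClass h ↔ ∃ (c : Fˣ) (x : GL (Fin n) F),
      (x : Matrix (Fin n) (Fin n) F) * g = ((c : F) • (h : Matrix (Fin n) (Fin n) F)) * x := by
  rw [projClass, projClass, ConjClasses.mk_eq_mk_iff_isConj, isConj_iff]
  constructor
  · rintro ⟨y, hy⟩
    obtain ⟨x, rfl⟩ := QuotientGroup.mk_surjective y
    have hy' : ((x * g * x⁻¹ : GL (Fin n) F) : GL (Fin n) F ⧸ Subgroup.center (GL (Fin n) F)) = (h : GL (Fin n) F) := hy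
    rw [QuotientGroup.eq, Matrix.GeneralLinearGroup.center_eq_range_scalar] at hy'
    obtain ⟨c, hc⟩ := hy'
    refine ⟨c⁻¹, x, ?_⟩
    have h1 : x * g = (h * (Matrix.GeneralLinearGroup.scalar (Fin n) c)⁻¹) * x := by rw [hc]; group
    have h2 := congrArg Units.val h1
    rw [← map_inv] at h2
    rw [Units.val_mul, Units.val_mul, Units.val_mul, scalar_val, Matrix.mul_smul, mul_one] at h2
    exact h2
  · rintro ⟨c, x, hx⟩
    refine ⟨QuotientGroup.mk x, ?_⟩
    show ((x * g * x⁻¹ : GL (Fin n) F) : GL (Fin n) F ⧸ Subgroup.center (GL (Fin n) F)) = (h : GL (Fin n) F)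
    rw [QuotientGroup.eq, Matrix.GeneralLinearGroup.center_eq_range_scalar]
    have h1 : x * g = Matrix.GeneralLinearGroup.scalar (Fin n) c * h * x := Units.ext (by
      rw [Units.val_mul, Units.val_mul, Units.val_mul, scalar_val, Matrix.smul_mul, one_mul]
      exact hx)
    refine ⟨c⁻¹, ?_⟩
    rw [h1, map_inv]
    have hcomm : Commute (Matrix.GeneralLinearGroup.scalar (Fin n) c) h := Units.ext (by
      rw [Units.val_mul, Units.val_mul, scalar_val, Matrix.smul_mul, one_mul, Matrix.mul_smul, mul_one])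
    calc (Matrix.GeneralLinearGroup.scalar (Fin n) c)⁻¹
        = h⁻¹ * ((Matrix.GeneralLinearGroup.scalar (Fin n) c)⁻¹ * h) := by
          rw [hcomm.inv_left.eq, inv_mul_cancel_left]
      _ = _ := by group

theorem card_pgl_involution_classes [Fintype F] {n : ℕ} (hn : 2 ≤ n) (h2 : (2 : F) ≠ 0) :
    Nat.card {C : ConjClasses (GL (Fin n) F ⧸ Subgroup.center (GL (Fin n) F)) //
      ∃ g, ConjClasses.mk g = C ∧ orderOf g = 2} = n / 2 + (if Even n then 1 else 0) := by
  classical
  haveI : Nonempty (Fin n) := ⟨⟨0, by omega⟩⟩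
  set N := 2 * (Fintype.card F - 1) with hNdef
  have hN : ((N : ℕ) : F) ≠ 0 := by
    rw [hNdef, Nat.cast_mul, Nat.cast_two, Nat.cast_sub Fintype.card_pos, FiniteField.cast_card_eq_zero,
      Nat.cast_one, zero_sub]
    exact mul_ne_zero h2 (neg_ne_zero.mpr one_ne_zero)
  have hpowN : ∀ {M : Matrix (Fin n) (Fin n) F} {a : F}, a ≠ 0 → M ^ 2 = Matrix.scalar (Fin n) a → M ^ N = 1 :=
    fun {M a} ha hM => by
      rw [hNdef, pow_mul, hM, ← map_pow, FiniteField.pow_card_sub_one_eq_one a ha, map_one]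
  have hconj : ∀ (g h : GL (Fin n) F) (a b : F), a ≠ 0 → b ≠ 0 →
      (g : Matrix (Fin n) (Fin n) F) ^ 2 = Matrix.scalar (Fin n) a →
      (h : Matrix (Fin n) (Fin n) F) ^ 2 = Matrix.scalar (Fin n) b → ∀ c : Fˣ,
      (g : Matrix (Fin n) (Fin n) F).charpoly = ((c : F) • (h : Matrix (Fin n) (Fin n) F)).charpoly →
      projClass g = projClass h := by
    intro g h a b ha hb hg hh c hch
    have hh' : ((c : F) • (h : Matrix (Fin n) (Fin n) F)) ^ 2 = Matrix.scalar (Fin n) ((c : F) ^ 2 * b) := by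
      rw [_root_.smul_pow, hh, Matrix.scalar_apply, Matrix.scalar_apply, ← Matrix.diagonal_smul]
      rfl
    obtain ⟨Y, hY1, hY2⟩ := exists_conj_det (n := n) (by omega) hN (hpowN ha hg)
      (hpowN (mul_ne_zero (pow_ne_zero 2 c.ne_zero) hb) hh') hch one_ne_zero
    exact (projClass_eq_iff g h).mpr
      ⟨c, Matrix.GeneralLinearGroup.mkOfDetNeZero Y (by rw [hY1]; exact one_ne_zero), hY2⟩
  -- representatives
  obtain ⟨μ, hμ⟩ := FiniteField.exists_nonsquare (F := F) (fun h => h2 (by
    have := ringChar.Nat.cast_ringChar (R := F)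
    rw [h] at this
    exact_mod_cast this))
  have hμ0 : μ ≠ 0 := fun h => hμ (h ▸ ⟨0, by simp⟩)
  have hD : ∀ i, ∃ g : GL (Fin n) F, (g : Matrix (Fin n) (Fin n) F) = sgnDiag F n i := fun i =>
    ⟨Units.ofPowEqOne _ 2 (sgnDiag_sq n i) two_ne_zero, rfl⟩
  choose D hDv using hD
  have hNex : ∀ _h : Even n, ∃ g : GL (Fin n) F, (g : Matrix (Fin n) (Fin n) F) ^ 2 = Matrix.scalar (Fin n) μ := by
    intro he
    obtain ⟨M, hM⟩ := exists_sq_eq_scalar he μ
    exact ⟨Units.ofPowEqOne M N (hpowN hμ0 hM) (fun h => hN (by rw [h, Nat.cast_zero])), hM⟩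
  choose Nm hNm using hNex
  let rep : Fin (n / 2) ⊕ PLift (Even n) → GL (Fin n) F := Sum.elim (fun i => D (i + 1)) (fun h => Nm h.down)
  have hrep2 : ∀ x, ∃ a : F, a ≠ 0 ∧ (rep x : Matrix (Fin n) (Fin n) F) ^ 2 = Matrix.scalar (Fin n) a := by
    rintro (i | h)
    · exact ⟨1, one_ne_zero, by show (D (i + 1) : Matrix (Fin n) (Fin n) F) ^ 2 = _; rw [hDv, sgnDiag_sq, map_one]⟩
    · exact ⟨μ, hμ0, hNm h.down⟩
  have hnotscalar : ∀ x (a : F), (rep x : Matrix (Fin n) (Fin n) F) ≠ Matrix.scalar (Fin n) a := by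
    rintro (i | h) a he
    · change (D (i + 1) : Matrix (Fin n) (Fin n) F) = _ at he
      rw [hDv, sgnDiag, Matrix.scalar_apply, Matrix.diagonal_eq_diagonal_iff] at he
      have hlast : ¬ n - 1 < (i : ℕ) + 1 := by have := i.2; omega
      have e0 := he ⟨0, by omega⟩
      have e1 := he ⟨n - 1, by omega⟩
      simp only [Nat.succ_pos, if_true, hlast, if_false] at e0 e1
      exact h2 (by linear_combination e1 - e0)
    · have h3 := hNm h.down
      change (Nm h.down : Matrix (Fin n) (Fin n) F) = _ at he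
      rw [he, ← map_pow, Matrix.scalar_inj] at h3
      exact hμ ⟨a, by rw [← h3, sq]⟩
  have horder : ∀ g : GL (Fin n) F, ((QuotientGroup.mk g : GL (Fin n) F ⧸ Subgroup.center (GL (Fin n) F))) ^ 2 = 1 ↔
      ∃ a : F, a ≠ 0 ∧ (g : Matrix (Fin n) (Fin n) F) ^ 2 = Matrix.scalar (Fin n) a := by
    intro g
    rw [← QuotientGroup.mk_pow, QuotientGroup.eq_one_iff,
      Matrix.GeneralLinearGroup.mem_center_iff_val_mem_range_scalar, Units.val_pow_eq_pow_val]
    constructor
    · rintro ⟨a, ha⟩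
      refine ⟨a, fun h0 => ?_, ha.symm⟩
      rw [h0, map_zero] at ha
      have := congrArg Matrix.det ha
      rw [Matrix.det_zero, Matrix.det_pow] at this
      exact pow_ne_zero 2 (Matrix.GeneralLinearGroup.det_ne_zero g) this.symm
    · rintro ⟨a, -, ha⟩
      exact ⟨a, ha.symm⟩
  have hord2 : ∀ x, orderOf (QuotientGroup.mk (rep x) : GL (Fin n) F ⧸ Subgroup.center (GL (Fin n) F)) = 2 := by
    intro x
    haveI : Fact (Nat.Prime 2) := ⟨Nat.prime_two⟩
    refine orderOf_eq_prime ((horder _).mpr (hrep2 x)) fun h => ?_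
    rw [QuotientGroup.eq_one_iff, Matrix.GeneralLinearGroup.mem_center_iff_val_mem_range_scalar] at h
    obtain ⟨a, ha⟩ := h
    exact hnotscalar x a ha.symm
  let Φ : Fin (n / 2) ⊕ PLift (Even n) → {C : ConjClasses (GL (Fin n) F ⧸ Subgroup.center (GL (Fin n) F)) //
      ∃ g, ConjClasses.mk g = C ∧ orderOf g = 2} := fun x => ⟨projClass (rep x), _, rfl, hord2 x⟩
  have hsqtrans : ∀ {g h x : GL (Fin n) F} {a b : F} {c : Fˣ},
      (x : Matrix (Fin n) (Fin n) F) * g = ((c : F) • (h : Matrix (Fin n) (Fin n) F)) * x →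
      (g : Matrix (Fin n) (Fin n) F) ^ 2 = Matrix.scalar (Fin n) a →
      (h : Matrix (Fin n) (Fin n) F) ^ 2 = Matrix.scalar (Fin n) b → a = (c : F) ^ 2 * b := by
    intro g h x a b c hx hg hh
    have h1 : (x : Matrix (Fin n) (Fin n) F) * (g : Matrix (Fin n) (Fin n) F) ^ 2 =
        ((c : F) • (h : Matrix (Fin n) (Fin n) F)) ^ 2 * x := by
      rw [sq, sq, ← mul_assoc, hx, mul_assoc, hx, ← mul_assoc]
    rw [hg, _root_.smul_pow, hh, ← (Matrix.scalar_commute a (Commute.all a) _).eq] at h1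
    have h3 : Matrix.scalar (Fin n) a = (c : F) ^ 2 • Matrix.scalar (Fin n) b := x.isUnit.mul_right_cancel h1
    have h4 := congrFun (congrFun h3 ⟨0, by omega⟩) ⟨0, by omega⟩
    simpa [Matrix.scalar_apply] using h4
  have hinj : Function.Injective Φ := by
    intro x y hxy
    obtain ⟨c, z, hz⟩ := (projClass_eq_iff _ _).mp (congrArg Subtype.val hxy)
    have hcp : ((rep x : GL (Fin n) F) : Matrix (Fin n) (Fin n) F).charpoly =
        ((c : F) • ((rep y : GL (Fin n) F) : Matrix (Fin n) (Fin n) F)).charpoly := by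
      have hzd : (z : Matrix (Fin n) (Fin n) F) * (rep x : Matrix (Fin n) (Fin n) F) *
          ((z⁻¹ : GL (Fin n) F) : Matrix (Fin n) (Fin n) F) =
            (c : F) • ((rep y : GL (Fin n) F) : Matrix (Fin n) (Fin n) F) := by
        rw [hz, mul_assoc, Units.mul_inv, mul_one]
      rw [← hzd, Matrix.coe_units_inv, Matrix.charpoly_units_conj]
    have hsgn : ∀ i : ℕ, (D i : Matrix (Fin n) (Fin n) F) ^ 2 = Matrix.scalar (Fin n) 1 := fun i => by
      rw [hDv, sgnDiag_sq, map_one]
    rcases x with i | h <;> rcases y with j | h'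
    · change (D (i + 1) : Matrix (Fin n) (Fin n) F).charpoly = ((c : F) • (D (j + 1) : Matrix (Fin n) (Fin n) F)).charpoly at hcp
      have hc2 : (c : F) ^ 2 = 1 := by
        have := hsqtrans (g := D (i + 1)) (h := D (j + 1)) (x := z) hz (hsgn _) (hsgn _)
        rw [mul_one] at this
        exact this.symm
      have hi := i.2
      have hj := j.2
      rcases sq_eq_one_iff.mp hc2 with hc1 | hc1 <;> rw [hc1, hDv, hDv] at hcp
      · rw [one_smul, charpoly_sgnDiag (by omega), charpoly_sgnDiag (by omega)] at hcp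
        have := eq_of_pow_mul_eq h2 hcp
        exact congrArg Sum.inl (Fin.ext (by omega))
      · rw [charpoly_sgnDiag (by omega), neg_sgnDiag_charpoly (by omega)] at hcp
        have := eq_of_pow_mul_eq h2 hcp
        exact congrArg Sum.inl (Fin.ext (by omega))
    · exfalso
      have := hsqtrans (g := D (i + 1)) (h := Nm h'.down) (x := z) hz (hsgn _) (hNm h'.down)
      exact hμ ⟨(c : F)⁻¹, by field_simp; linear_combination -this⟩
    · exfalso
      have := hsqtrans (g := Nm h.down) (h := D (j + 1)) (x := z) hz (hNm h.down) (hsgn _)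
      exact hμ ⟨c, by rw [this, mul_one, sq]⟩
    · exact congrArg Sum.inr (Subsingleton.elim _ _)
  have hsurj : Function.Surjective Φ := by
    rintro ⟨C, g, hgC, hg2⟩
    subst hgC
    obtain ⟨g, rfl⟩ := QuotientGroup.mk_surjective g
    obtain ⟨a, ha0, ha⟩ := (horder g).mp (hg2 ▸ pow_orderOf_eq_one _)
    suffices ∃ x, projClass g = projClass (rep x) by
      obtain ⟨x, hx⟩ := this
      exact ⟨x, Subtype.ext hx.symm⟩
    by_cases hsq : IsSquare a
    · obtain ⟨ν, hν⟩ := hsq
      have hν0 : ν ≠ 0 := fun h => ha0 (by rw [hν, h, mul_zero])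
      have hM2 : (ν⁻¹ • (g : Matrix (Fin n) (Fin n) F)) ^ 2 = 1 := by
        rw [_root_.smul_pow, ha, Matrix.scalar_apply, ← Matrix.diagonal_smul, ← Matrix.diagonal_one]
        congr 1
        funext k
        simp only [Pi.smul_apply, smul_eq_mul]
        rw [hν, inv_pow, sq, inv_mul_cancel₀ (mul_ne_zero hν0 hν0)]
      obtain ⟨i, hi, hic⟩ := charpoly_of_sq_eq_one hM2
      set M := ν⁻¹ • (g : Matrix (Fin n) (Fin n) F) with hMdef
      have hne : ∀ s : F, M ≠ Matrix.scalar (Fin n) s := by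
        intro s hs
        have hgs : (g : Matrix (Fin n) (Fin n) F) = Matrix.scalar (Fin n) (ν * s) := by
          rw [← inv_smul_smul₀ (inv_ne_zero hν0) (g : Matrix (Fin n) (Fin n) F), inv_inv, ← hMdef, hs,
            Matrix.scalar_apply, Matrix.scalar_apply, ← Matrix.diagonal_smul]
          rfl
        have h1 : (QuotientGroup.mk g : GL (Fin n) F ⧸ Subgroup.center (GL (Fin n) F)) = 1 := by
          rw [QuotientGroup.eq_one_iff, Matrix.GeneralLinearGroup.mem_center_iff_val_mem_range_scalar]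
          exact ⟨_, hgs.symm⟩
        rw [h1, orderOf_one] at hg2
        exact absurd hg2 (by norm_num)
      have h2n : ((2 : ℕ) : F) ≠ 0 := by exact_mod_cast h2
      have hi0 : 0 < i := by
        rw [Nat.pos_iff_ne_zero]
        intro h0
        subst h0
        obtain ⟨Y, hY1, hY2⟩ := exists_conj_det (n := n) (by omega) h2n hM2 (sgnDiag_sq n 0)
          (by rw [hic, charpoly_sgnDiag (Nat.zero_le n)]) one_ne_zero
        refine hne 1 (((Matrix.isUnit_iff_isUnit_det Y).mpr (by rw [hY1]; exact isUnit_one)).mul_left_cancel ?_)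
        rw [hY2, map_one, mul_one]
        simp [sgnDiag]
      have hin : i < n := by
        refine lt_of_le_of_ne hi fun h0 => ?_
        obtain ⟨Y, hY1, hY2⟩ := exists_conj_det (n := n) (by omega) h2n hM2 (sgnDiag_sq n n)
          (by rw [hic, h0, charpoly_sgnDiag le_rfl]) one_ne_zero
        refine hne (-1) (((Matrix.isUnit_iff_isUnit_det Y).mpr (by rw [hY1]; exact isUnit_one)).mul_left_cancel ?_)
        rw [hY2, sgnDiag]
        simp [Matrix.scalar_apply]
        ext a b
        simp [Matrix.diagonal_mul, Matrix.mul_diagonal]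
      -- choose the representative
      rcases Nat.lt_or_ge (n / 2) i with hlt | hge
      · refine ⟨Sum.inl ⟨n - i - 1, by omega⟩, hconj g _ a 1 ha0 one_ne_zero ha ?_ (Units.mk0 (-ν) (neg_ne_zero.mpr hν0)) ?_⟩
        · show (D _ : Matrix (Fin n) (Fin n) F) ^ 2 = _
          rw [hDv, sgnDiag_sq, map_one]
        · show _ = ((-ν) • (D _ : Matrix (Fin n) (Fin n) F)).charpoly
          rw [hDv, show (n - i - 1 + 1) = n - i by omega]
          have hneg : -(ν : F) • sgnDiag F n (n - i) = ν • ((-1 : F) • sgnDiag F n (n - i)) := by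
            rw [smul_smul, mul_neg_one]
          have hgM : (g : Matrix (Fin n) (Fin n) F) = ν • M := by
            rw [hMdef, smul_inv_smul₀ hν0]
          obtain ⟨Y, hY1, hY2⟩ := exists_conj_det (n := n) (by omega) h2n hM2
            (B := (-1 : F) • sgnDiag F n (n - i)) (by rw [_root_.smul_pow, sgnDiag_sq]; norm_num)
            (by rw [hic, neg_sgnDiag_charpoly (by omega), show n - (n - i) = i by omega]) one_ne_zero
          rw [hneg, hgM]
          let y : GL (Fin n) F := Matrix.GeneralLinearGroup.mkOfDetNeZero Y (by rw [hY1]; exact one_ne_zero)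
          rw [← Matrix.charpoly_units_conj y (ν • M), ← Matrix.coe_units_inv]
          congr 1
          show Y * (ν • M) * ((y⁻¹ : GL (Fin n) F) : Matrix (Fin n) (Fin n) F) = _
          rw [Matrix.mul_smul, hY2, ← Matrix.smul_mul, mul_assoc, show Y * ((y⁻¹ : GL (Fin n) F) : Matrix (Fin n) (Fin n) F) = 1 from y.mul_inv, mul_one]
      · refine ⟨Sum.inl ⟨i - 1, by omega⟩, hconj g _ a 1 ha0 one_ne_zero ha ?_ (Units.mk0 ν hν0) ?_⟩
        · show (D _ : Matrix (Fin n) (Fin n) F) ^ 2 = _
          rw [hDv, sgnDiag_sq, map_one]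
        · show _ = (ν • (D _ : Matrix (Fin n) (Fin n) F)).charpoly
          rw [hDv, show (i - 1 + 1) = i by omega]
          obtain ⟨Y, hY1, hY2⟩ := exists_conj_det (n := n) (by omega) h2n hM2 (sgnDiag_sq n i)
            (by rw [hic, charpoly_sgnDiag hi]) one_ne_zero
          let y : GL (Fin n) F := Matrix.GeneralLinearGroup.mkOfDetNeZero Y (by rw [hY1]; exact one_ne_zero)
          have hgM : (g : Matrix (Fin n) (Fin n) F) = ν • M := by
            rw [hMdef, smul_inv_smul₀ hν0]
          rw [hgM, ← Matrix.charpoly_units_conj y (ν • M), ← Matrix.coe_units_inv]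
          congr 1
          show Y * (ν • M) * ((y⁻¹ : GL (Fin n) F) : Matrix (Fin n) (Fin n) F) = _
          rw [Matrix.mul_smul, hY2, ← Matrix.smul_mul, mul_assoc, show Y * ((y⁻¹ : GL (Fin n) F) : Matrix (Fin n) (Fin n) F) = 1 from y.mul_inv, mul_one]
    · obtain ⟨hev, hch⟩ := charpoly_of_sq_eq_nonsquare hsq ha
      have hr : IsSquare (a * μ⁻¹) := by
        have hs := quadraticChar_neg_one_iff_not_isSquare (F := F) (a := a)
        have hm := quadraticChar_neg_one_iff_not_isSquare (F := F) (a := μ)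
        rw [← quadraticChar_one_iff_isSquare (mul_ne_zero ha0 (inv_ne_zero hμ0))]
        have hmi : quadraticChar F μ⁻¹ = -1 := by
          rw [quadraticChar_neg_one_iff_not_isSquare]
          exact fun ⟨t, ht⟩ => hμ ⟨t⁻¹, by rw [← mul_inv, ← ht, inv_inv]⟩
        rw [map_mul, hs.mpr hsq, hmi]
        norm_num
      obtain ⟨c, hc⟩ := hr
      have hca : a = c ^ 2 * μ := by rw [sq, ← hc, mul_assoc, inv_mul_cancel₀ hμ0, mul_one]
      have hc0 : c ≠ 0 := fun h => ha0 (by rw [hca, h]; ring)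
      refine ⟨Sum.inr ⟨hev⟩, hconj g _ a μ ha0 hμ0 ha (hNm hev) (Units.mk0 c hc0) ?_⟩
      obtain ⟨-, hch2⟩ := charpoly_of_sq_eq_nonsquare (M := c • (Nm hev : Matrix (Fin n) (Fin n) F)) hsq (by
        rw [_root_.smul_pow, hNm hev, Matrix.scalar_apply, Matrix.scalar_apply, ← Matrix.diagonal_smul, hca]
        rfl)
      rw [hch]
      exact hch2.symm
  rw [← Nat.card_congr (Equiv.ofBijective Φ ⟨hinj, hsurj⟩), Nat.card_sum, Nat.card_fin]
  congr 1
  split_ifs with he
  · haveI : Unique (PLift (Even n)) := ⟨⟨⟨he⟩⟩, fun x => rfl⟩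
    exact Nat.card_unique
  · haveI : IsEmpty (PLift (Even n)) := ⟨fun h => he h.down⟩
    exact Nat.card_of_isEmpty

end Cfsg.Agent.GLSemi
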