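import Cfsg.Agent.Lib.GLSemisimple.PGLInvolution

/-!
Classes of elements of prime order `r ∣ q - 1` of `PGL_n(q)`.
-/

set_option autoImplicit false

namespace Cfsg.Agent.GLSemi

open Polynomial Matrix

variable {F : Type*} [Field F]

theorem eq_pow_of_factor_eq {n : ℕ} {M : Matrix (Fin n) (Fin n) F} {f : F[X]} (hfm : f.Monic) (hfi : Irreducible f)
    (hM : aeval M f = 0) : f.natDegree ∣ n ∧ M.charpoly = f ^ (n / f.natDegree) := by
  classical
  have hPm : M.charpoly.Monic := Matrix.charpoly_monic M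
  set A := UniqueFactorizationMonoid.normalizedFactors M.charpoly with hA
  have hA' : A = Multiset.replicate A.card f := Multiset.eq_replicate_card.mpr fun g hg => by
    have hi := UniqueFactorizationMonoid.irreducible_of_normalized_factor g hg
    have hm : g.Monic := by
      rw [← UniqueFactorizationMonoid.normalize_normalized_factor g hg]
      exact Polynomial.monic_normalize hi.ne_zero
    exact eq_of_monic_of_associated hm hfm (hi.associated_of_dvd hfi
      (factor_dvd_of_aeval hM hi (UniqueFactorizationMonoid.dvd_of_mem_normalizedFactors hg)))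
  have hAprod : A.prod = f ^ A.card := by
    conv_lhs => rw [hA']
    rw [Multiset.prod_replicate]
  have heq : M.charpoly = f ^ A.card := by
    rw [← hAprod]
    exact (eq_of_monic_of_associated (hAprod ▸ hfm.pow _) hPm
      (UniqueFactorizationMonoid.prod_normalizedFactors hPm.ne_zero)).symm
  have hdeg : n = f.natDegree * A.card := by
    have := congrArg natDegree heq
    rw [Matrix.charpoly_natDegree_eq_dim, Fintype.card_fin, natDegree_pow] at this
    rw [this, mul_comm]
  refine ⟨⟨A.card, hdeg⟩, ?_⟩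
  rw [heq, show n / f.natDegree = A.card by rw [hdeg, Nat.mul_div_cancel_left _ hfi.natDegree_pos]]

theorem exists_pow_eq_scalar_of_irreducible {n r : ℕ} (hr : r.Prime) {μ : F} (hμ : ∀ b : F, b ^ r ≠ μ)
    (hdvd : r ∣ n) : ∃ M : Matrix (Fin n) (Fin n) F, M ^ r = Matrix.scalar (Fin n) μ := by
  classical
  obtain ⟨m, rfl⟩ := hdvd
  have hfi := X_pow_sub_C_irreducible_of_prime hr hμ
  haveI : Fact (Irreducible (X ^ r - C μ)) := ⟨hfi⟩
  let pb := AdjoinRoot.powerBasis hfi.ne_zero
  haveI : Module.Finite F (AdjoinRoot (X ^ r - C μ)) := pb.finite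
  have hdim : Module.finrank F (Fin m → AdjoinRoot (X ^ r - C μ)) = r * m := by
    rw [Module.finrank_pi_fintype, Finset.sum_const, Finset.card_univ, Fintype.card_fin, pb.finrank,
      AdjoinRoot.powerBasis_dim, natDegree_X_pow_sub_C, smul_eq_mul, mul_comm]
  let b := Module.finBasisOfFinrankEq F (Fin m → AdjoinRoot (X ^ r - C μ)) hdim
  let L : AdjoinRoot (X ^ r - C μ) →ₐ[F] Matrix (Fin (r * m)) (Fin (r * m)) F :=
    (LinearMap.toMatrixAlgEquiv b).toAlgHom.comp (Algebra.lsmul F F (Fin m → AdjoinRoot (X ^ r - C μ)))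
  refine ⟨L (AdjoinRoot.root _), ?_⟩
  have hroot : (AdjoinRoot.root (X ^ r - C μ)) ^ r = algebraMap F _ μ := by
    have h := AdjoinRoot.mk_self (f := X ^ r - C μ)
    rw [map_sub, map_pow, AdjoinRoot.mk_X, AdjoinRoot.mk_C, sub_eq_zero] at h
    exact h
  rw [← map_pow, hroot, AlgHom.commutes]
  rfl

section

variable {r : ℕ} [NeZero r] (ζ : F)

/-- Powers of `ζ` indexed by `ZMod r`. -/
def zpw (j : ZMod r) : F := ζ ^ j.val

/-- A listing of a multiset of `ZMod r` of size `n`. -/
noncomputable def listing {n : ℕ} (s : Sym (ZMod r) n) (i : Fin n) : ZMod r :=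
  (s : Multiset (ZMod r)).toList[(i : ℕ)]'(by rw [Multiset.length_toList, Sym.card_coe]; exact i.2)

omit [NeZero r] in
theorem map_listing {n : ℕ} (s : Sym (ZMod r) n) : Finset.univ.val.map (listing s) = (s : Multiset (ZMod r)) := by
  conv_rhs => rw [← Multiset.coe_toList (s : Multiset (ZMod r))]
  rw [Fin.univ_val_map]
  congr 1
  refine List.ext_getElem (by rw [List.length_ofFn, Multiset.length_toList, Sym.card_coe]) fun i h1 h2 => ?_
  rw [List.getElem_ofFn]
  rfl

/-- The diagonal matrix of a multiset of exponents. -/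
noncomputable def diagOf {n : ℕ} (s : Sym (ZMod r) n) : Matrix (Fin n) (Fin n) F :=
  Matrix.diagonal fun i => zpw ζ (listing s i)

variable {ζ}

theorem zpw_add (hζ : IsPrimitiveRoot ζ r) (a b : ZMod r) : zpw ζ (a + b) = zpw ζ a * zpw ζ b := by
  rw [zpw, zpw, zpw, ← pow_add, ZMod.val_add]
  conv_rhs => rw [← Nat.mod_add_div (a.val + b.val) r]
  rw [pow_add, pow_mul, hζ.pow_eq_one, one_pow, mul_one]

theorem zpw_injective (hζ : IsPrimitiveRoot ζ r) : Function.Injective (zpw (r := r) ζ) := fun a b h =>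
  ZMod.val_injective r (hζ.pow_inj (ZMod.val_lt a) (ZMod.val_lt b) h)

theorem zpw_pow (hζ : IsPrimitiveRoot ζ r) (j : ZMod r) : zpw ζ j ^ r = 1 := by
  rw [zpw, ← pow_mul, mul_comm, pow_mul, hζ.pow_eq_one, one_pow]

theorem zpw_ne_zero (hζ : IsPrimitiveRoot ζ r) (j : ZMod r) : zpw ζ j ≠ 0 :=
  pow_ne_zero _ (hζ.ne_zero (NeZero.ne r))

theorem diagOf_pow (hζ : IsPrimitiveRoot ζ r) {n : ℕ} (s : Sym (ZMod r) n) : diagOf ζ s ^ r = 1 := by
  rw [diagOf, Matrix.diagonal_pow, ← Matrix.diagonal_one]
  congr 1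
  funext i
  exact zpw_pow hζ _

theorem smul_diagOf (hζ : IsPrimitiveRoot ζ r) {n : ℕ} (s : Sym (ZMod r) n) (k : ZMod r) :
    zpw ζ k • diagOf ζ s = Matrix.diagonal fun i => zpw ζ (k + listing s i) := by
  rw [diagOf, ← Matrix.diagonal_smul]
  congr 1
  funext i
  rw [Pi.smul_apply, smul_eq_mul, zpw_add hζ]

omit [NeZero r] in
theorem charpoly_diag {n : ℕ} (f : Fin n → ZMod r) :
    (Matrix.diagonal fun i => zpw ζ (f i)).charpoly =
      ((Finset.univ.val.map f).map fun j => X - C (zpw ζ j)).prod := by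
  rw [Matrix.charpoly_diagonal, Multiset.map_map]
  rfl

theorem roots_prod (hζ : IsPrimitiveRoot ζ r) {s t : Multiset (ZMod r)}
    (h : (s.map fun j => X - C (zpw ζ j)).prod = (t.map fun j => X - C (zpw ζ j)).prod) : s = t := by
  have hs : ∀ s : Multiset (ZMod r), (s.map fun j => X - C (zpw ζ j)).prod.roots = s.map (zpw ζ) := fun s => by
    conv_rhs => rw [← roots_multiset_prod_X_sub_C (s.map (zpw ζ)), Multiset.map_map]
    rfl
  exact Multiset.map_injective (zpw_injective hζ) (by rw [← hs, ← hs, h])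

theorem exists_sym_charpoly (hζ : IsPrimitiveRoot ζ r) {n : ℕ} {M : Matrix (Fin n) (Fin n) F}
    (hM : M ^ r = 1) : ∃ s : Sym (ZMod r) n, M.charpoly = (diagOf ζ s).charpoly := by
  classical
  have hsplit : (X ^ r - 1 : F[X]).Splits := by
    rw [← C_1]
    exact X_pow_sub_one_splits hζ
  have hne : (X ^ r - 1 : F[X]) ≠ 0 := by
    rw [← C_1]; exact X_pow_sub_C_ne_zero (NeZero.pos r) 1
  have hPm : M.charpoly.Monic := Matrix.charpoly_monic M
  have hPs : M.charpoly.Splits := by
    rw [← eq_of_monic_of_associated ?_ hPm (UniqueFactorizationMonoid.prod_normalizedFactors hPm.ne_zero)]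
    · refine multiset_prod_mem _ fun f hf => hsplit.of_dvd hne (factor_dvd_of_pow_eq_one hM
        (UniqueFactorizationMonoid.irreducible_of_normalized_factor f hf)
        (UniqueFactorizationMonoid.dvd_of_mem_normalizedFactors hf))
    · have h := monic_multiset_prod_of_monic (UniqueFactorizationMonoid.normalizedFactors M.charpoly) id
        fun f hf => by
          rw [id, ← UniqueFactorizationMonoid.normalize_normalized_factor f hf]
          exact Polynomial.monic_normalize (UniqueFactorizationMonoid.prime_of_normalized_factor f hf).ne_zero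
      rwa [Multiset.map_id] at h
  have hroot : ∀ x ∈ M.charpoly.roots, ∃ j : ZMod r, zpw ζ j = x := by
    intro x hx
    rw [mem_roots hPm.ne_zero] at hx
    have h := factor_dvd_of_pow_eq_one hM (irreducible_X_sub_C x) (dvd_iff_isRoot.mpr hx)
    rw [dvd_iff_isRoot, IsRoot, eval_sub, eval_pow, eval_X, eval_one, sub_eq_zero] at h
    obtain ⟨i, hi, hix⟩ := hζ.eq_pow_of_pow_eq_one h
    exact ⟨(i : ZMod r), by rw [zpw, ZMod.val_natCast_of_lt hi, hix]⟩
  choose f hf using hroot
  let s : Multiset (ZMod r) := M.charpoly.roots.attach.map fun x => f x.1 x.2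
  have hs : s.map (zpw ζ) = M.charpoly.roots := by
    rw [Multiset.map_map]
    conv_rhs => rw [← Multiset.attach_map_val M.charpoly.roots]
    exact Multiset.map_congr rfl fun x _ => hf x.1 x.2
  have hcard : s.card = n := by
    rw [Multiset.card_map, Multiset.card_attach, ← hPs.natDegree_eq_card_roots, Matrix.charpoly_natDegree_eq_dim,
      Fintype.card_fin]
  let s' : Sym (ZMod r) n := ⟨s, hcard⟩
  refine ⟨s', ?_⟩
  show _ = (Matrix.diagonal fun i => zpw ζ (listing s' i)).charpoly
  rw [charpoly_diag, map_listing]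
  show _ = (s.map fun j => X - C (zpw ζ j)).prod
  conv_lhs => rw [hPs.eq_prod_roots_of_monic hPm, ← hs, Multiset.map_map]
  rfl

omit [NeZero r] in
theorem diag_eq_scalar {n : ℕ} (hζ : IsPrimitiveRoot ζ r) [NeZero r] (s : Sym (ZMod r) n) (hn : 0 < n) :
    (∃ a : F, diagOf ζ s = Matrix.scalar (Fin n) a) ↔ ∃ j, (s : Multiset (ZMod r)) = Multiset.replicate n j := by
  constructor
  · rintro ⟨a, ha⟩
    rw [diagOf, Matrix.scalar_apply, Matrix.diagonal_eq_diagonal_iff] at ha
    refine ⟨listing s ⟨0, hn⟩, Multiset.eq_replicate.mpr ⟨Sym.card_coe, fun x hx => ?_⟩⟩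
    rw [← map_listing s, Multiset.mem_map] at hx
    obtain ⟨i, -, rfl⟩ := hx
    exact zpw_injective hζ ((ha i).trans (ha ⟨0, hn⟩).symm)
  · rintro ⟨j, hj⟩
    refine ⟨zpw ζ j, ?_⟩
    rw [diagOf, Matrix.scalar_apply]
    congr 1
    funext i
    congr 1
    exact Multiset.eq_of_mem_replicate (hj ▸ (map_listing s ▸ Multiset.mem_map_of_mem _ (Finset.mem_univ i)))

end

theorem card_orbit_sum {r n : ℕ} [hr : Fact r.Prime] {β : Type*} [DecidableEq β] (hn : 0 < n)
    (T : Finset (Sym (ZMod r) n)) (Φ : Sym (ZMod r) n → β)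
    (hT : ∀ s, s ∈ T ↔ ¬ ∃ j, (s : Multiset (ZMod r)) = Multiset.replicate n j)
    (hΦ : ∀ s ∈ T, ∀ t ∈ T, (Φ s = Φ t ↔ ∃ k : ZMod r,
      (s : Multiset (ZMod r)) = (t : Multiset (ZMod r)).map (k + ·))) :
    T.card = Nat.choose (n + r - 1) (r - 1) - r ∧
      r * (T.image Φ).card = T.card + (r - 1) * (if r ∣ n then 1 else 0) := by
  classical
  haveI : NeZero r := ⟨hr.out.ne_zero⟩
  have hTcard : T.card = Nat.choose (n + r - 1) (r - 1) - r := by
    let rep : ZMod r → Sym (ZMod r) n := fun j => ⟨Multiset.replicate n j, Multiset.card_replicate n j⟩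
    have hc : Tᶜ = Finset.univ.image rep := by
      ext s
      rw [Finset.mem_compl, hT, not_not, Finset.mem_image]
      exact ⟨fun ⟨j, hj⟩ => ⟨j, Finset.mem_univ _, Sym.ext hj.symm⟩, fun ⟨j, _, hj⟩ => ⟨j, by rw [← hj]; rfl⟩⟩
    have hinj : Function.Injective rep := fun a b h => by
      have := congrArg (fun s : Sym (ZMod r) n => (s : Multiset (ZMod r))) h
      exact Multiset.eq_of_mem_replicate (show a ∈ Multiset.replicate n b by
        rw [← show Multiset.replicate n a = Multiset.replicate n b from this]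
        exact Multiset.mem_replicate.mpr ⟨hn.ne', rfl⟩)
    have h1 := Finset.card_compl_add_card T
    rw [hc, Finset.card_image_of_injective _ hinj, Finset.card_univ, ZMod.card, Sym.card_sym_eq_multichoose,
      ZMod.card, Nat.multichoose_eq] at h1
    have h2 : (r + n - 1).choose n = (n + r - 1).choose (r - 1) := by
      rw [Nat.add_comm r n]
      exact Nat.choose_symm_of_eq_add (by have := hr.out.two_le; omega)
    omega
  refine ⟨hTcard, ?_⟩
  -- shifts preserve `T`
  let sh : ZMod r → Sym (ZMod r) n → Sym (ZMod r) n := fun k s => s.map (k + ·)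
  have hshT : ∀ k s, s ∈ T → sh k s ∈ T := by
    intro k s hs
    rw [hT] at hs ⊢
    rintro ⟨j, hj⟩
    refine hs ⟨-k + j, ?_⟩
    have := congrArg (Multiset.map (-k + ·)) hj
    rw [Sym.coe_map, Multiset.map_map, Multiset.map_replicate] at this
    simpa [Function.comp_def] using this
  have hfib : ∀ s ∈ T, T.filter (fun t => Φ t = Φ s) = Finset.univ.image (fun k => sh k s) := by
    intro s hs
    ext t
    simp only [Finset.mem_filter, Finset.mem_image, Finset.mem_univ, true_and]
    constructor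
    · rintro ⟨ht, hts⟩
      obtain ⟨k, hk⟩ := (hΦ t ht s hs).mp hts
      exact ⟨k, Sym.ext hk.symm⟩
    · rintro ⟨k, rfl⟩
      exact ⟨hshT k s hs, (hΦ _ (hshT k s hs) s hs).mpr ⟨k, Sym.coe_map _ _⟩⟩
  -- the fixed multiset
  have hfixed : ∀ s : Sym (ZMod r) n, ∀ k : ZMod r, k ≠ 0 → sh k s = s →
      ∀ a b : ZMod r, (s : Multiset (ZMod r)).count a = (s : Multiset (ZMod r)).count b := by
    intro s k hk hs a b
    have h1 : ∀ x, (s : Multiset (ZMod r)).count (k + x) = (s : Multiset (ZMod r)).count x := by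
      intro x
      conv_lhs => rw [← hs]
      rw [Sym.coe_map, Multiset.count_map_eq_count' _ _ (add_right_injective k)]
    have h2 : ∀ (i : ℕ) x, (s : Multiset (ZMod r)).count ((i : ZMod r) * k + x) = (s : Multiset (ZMod r)).count x := by
      intro i
      induction i with
      | zero => simp
      | succ i ih =>
        intro x
        rw [show ((i + 1 : ℕ) : ZMod r) * k + x = k + ((i : ZMod r) * k + x) by push_cast; ring, h1, ih]
    have h3 := h2 ((a - b) * k⁻¹).val b
    rw [ZMod.natCast_zmod_val, mul_assoc, inv_mul_cancel₀ hk, mul_one, sub_add_cancel] at h3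
    exact h3
  let c0 : Multiset (ZMod r) := (Finset.univ : Finset (ZMod r)).val.bind fun j => Multiset.replicate (n / r) j
  have hc0count : ∀ a, c0.count a = n / r := by
    intro a
    rw [Multiset.count_bind]
    show ((Finset.univ : Finset (ZMod r)).sum fun j => (Multiset.replicate (n / r) j).count a) = n / r
    rw [Finset.sum_eq_single a (fun j _ hj => by rw [Multiset.count_replicate, if_neg hj])
      (fun h => absurd (Finset.mem_univ a) h), Multiset.count_replicate_self]
  have hsum : ∀ s : Sym (ZMod r) n, (Finset.univ.sum fun a => (s : Multiset (ZMod r)).count a) = n := fun s =>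
    (Multiset.sum_count_eq_card fun a _ => Finset.mem_univ a).trans Sym.card_coe
  have hconst : ∀ s : Sym (ZMod r) n, (∀ a b : ZMod r, (s : Multiset (ZMod r)).count a = (s : Multiset (ZMod r)).count b) →
      r ∣ n ∧ (s : Multiset (ZMod r)) = c0 := by
    intro s hs
    have h := hsum s
    rw [Finset.sum_congr rfl fun a _ => hs a 0, Finset.sum_const, Finset.card_univ, ZMod.card, smul_eq_mul] at h
    refine ⟨⟨_, h.symm⟩, Multiset.ext.mpr fun a => ?_⟩
    rw [hc0count, hs a 0]
    exact ((congrArg (· / r) h).symm.trans (Nat.mul_div_cancel_left _ hr.out.pos)).symm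
  have hcardfib : ∀ s ∈ T, (T.filter (fun t => Φ t = Φ s)).card =
      if (s : Multiset (ZMod r)) = c0 then 1 else r := by
    intro s hs
    rw [hfib s hs]
    split_ifs with h
    · have : ∀ k, sh k s = s := fun k => Sym.ext (by
        rw [Sym.coe_map]
        refine Multiset.ext.mpr fun a => ?_
        rw [show a = k + (-k + a) by ring, Multiset.count_map_eq_count' _ _ (add_right_injective k), h,
          hc0count, hc0count])
      rw [show (Finset.univ.image fun k => sh k s) = {s} by
        ext t; simp [this, eq_comm], Finset.card_singleton]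
    · rw [Finset.card_image_of_injective, Finset.card_univ, ZMod.card]
      intro a b hab
      by_contra hne
      have h' : sh (-b + a) s = s := by
        have := congrArg (sh (-b)) hab
        simp only [sh, Sym.map_map] at this
        simpa [sh, Function.comp_def, ← add_assoc] using this
      exact h (hconst s (hfixed s _ (by rwa [ne_eq, neg_add_eq_zero, eq_comm]) h')).2
  rw [Finset.card_eq_sum_card_image Φ T]
  by_cases hrn : r ∣ n
  · rw [if_pos hrn, mul_one]
    have hc0card : c0.card = n := by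
      rw [← Multiset.sum_count_eq_card fun a _ => Finset.mem_univ a, Finset.sum_congr rfl fun a _ => hc0count a,
        Finset.sum_const, Finset.card_univ, ZMod.card, smul_eq_mul, Nat.mul_div_cancel' hrn]
    let s0 : Sym (ZMod r) n := ⟨c0, hc0card⟩
    have hs0 : s0 ∈ T := by
      rw [hT]
      rintro ⟨j, hj⟩
      have h1 := congrArg (Multiset.count (j + 1)) hj
      change c0.count (j + 1) = _ at h1
      rw [hc0count, Multiset.count_replicate, if_neg (by simp)] at h1
      have := Nat.div_pos (Nat.le_of_dvd hn hrn) hr.out.pos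
      omega
    have hmem : Φ s0 ∈ T.image Φ := Finset.mem_image_of_mem _ hs0
    have hrest : ∀ b ∈ (T.image Φ).erase (Φ s0), (T.filter fun a => Φ a = b).card = r := by
      intro b hb
      obtain ⟨hne, hb⟩ := Finset.mem_erase.mp hb
      obtain ⟨s, hs, rfl⟩ := Finset.mem_image.mp hb
      rw [hcardfib s hs, if_neg fun h : (s : Multiset (ZMod r)) = c0 => hne (congrArg Φ (Sym.ext h : s = s0))]
    have h1 : (T.filter fun t => Φ t = Φ s0).card = 1 := (hcardfib s0 hs0).trans (if_pos rfl)
    rw [← Finset.add_sum_erase _ _ hmem, h1, Finset.sum_congr rfl hrest,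
      Finset.sum_const, smul_eq_mul, Finset.card_erase_of_mem hmem]
    have hpos : 0 < (T.image Φ).card := Finset.card_pos.mpr ⟨_, hmem⟩
    obtain ⟨e, he⟩ : ∃ e, (T.image Φ).card = e + 1 := ⟨(T.image Φ).card - 1, by omega⟩
    rw [he, Nat.add_sub_cancel, mul_add, mul_one, mul_comm e r]
    have := hr.out.two_le
    omega
  · rw [if_neg hrn, mul_zero, add_zero]
    have hrest : ∀ b ∈ T.image Φ, (T.filter fun a => Φ a = b).card = r := by
      intro b hb
      obtain ⟨s, hs, rfl⟩ := Finset.mem_image.mp hb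
      rw [hcardfib s hs, if_neg fun h => hrn (hconst s fun a b => by rw [h, hc0count, hc0count]).1]
    rw [Finset.sum_congr rfl hrest, Finset.sum_const, smul_eq_mul, mul_comm]

theorem card_pgl_prime_classes [Fintype F] {n r : ℕ} (hn : 2 ≤ n) (hr : r.Prime) (hrq : r ∣ Fintype.card F - 1) :
    Nat.card {C : ConjClasses (GL (Fin n) F ⧸ Subgroup.center (GL (Fin n) F)) //
      ∃ g, ConjClasses.mk g = C ∧ orderOf g = r} =
      (Nat.choose (n + r - 1) (r - 1) - r - (if r ∣ n then 1 else 0)) / r + r * (if r ∣ n then 1 else 0) := by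
  classical
  haveI : Fact r.Prime := ⟨hr⟩
  haveI : NeZero r := ⟨hr.ne_zero⟩
  haveI : Nonempty (Fin n) := ⟨⟨0, by omega⟩⟩
  have hrF : ((r : ℕ) : F) ≠ 0 := by
    intro h
    obtain ⟨c, hc⟩ := hrq
    have h1 : ((Fintype.card F - 1 : ℕ) : F) = 0 := by rw [hc, Nat.cast_mul, h, zero_mul]
    rw [Nat.cast_sub Fintype.card_pos, FiniteField.cast_card_eq_zero, Nat.cast_one, zero_sub, neg_eq_zero] at h1
    exact one_ne_zero h1
  set N := r * (Fintype.card F - 1) with hNdef
  have hN : ((N : ℕ) : F) ≠ 0 := by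
    rw [hNdef, Nat.cast_mul, Nat.cast_sub Fintype.card_pos, FiniteField.cast_card_eq_zero, Nat.cast_one, zero_sub]
    exact mul_ne_zero hrF (neg_ne_zero.mpr one_ne_zero)
  have hpowN : ∀ {M : Matrix (Fin n) (Fin n) F} {a : F}, a ≠ 0 → M ^ r = Matrix.scalar (Fin n) a → M ^ N = 1 :=
    fun {M a} ha hM => by
      rw [hNdef, pow_mul, hM, ← map_pow, FiniteField.pow_card_sub_one_eq_one a ha, map_one]
  have hsmul : ∀ {M : Matrix (Fin n) (Fin n) F} {a : F} (c : F), M ^ r = Matrix.scalar (Fin n) a →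
      (c • M) ^ r = Matrix.scalar (Fin n) (c ^ r * a) := fun {M a} c hM => by
    rw [_root_.smul_pow, hM, Matrix.scalar_apply, Matrix.scalar_apply, ← Matrix.diagonal_smul]
    rfl
  have hconj : ∀ (g h : GL (Fin n) F) (a b : F), a ≠ 0 → b ≠ 0 →
      (g : Matrix (Fin n) (Fin n) F) ^ r = Matrix.scalar (Fin n) a →
      (h : Matrix (Fin n) (Fin n) F) ^ r = Matrix.scalar (Fin n) b → ∀ c : Fˣ,
      (g : Matrix (Fin n) (Fin n) F).charpoly = ((c : F) • (h : Matrix (Fin n) (Fin n) F)).charpoly →
      projClass g = projClass h := by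
    intro g h a b ha hb hg hh c hch
    obtain ⟨Y, hY1, hY2⟩ := exists_conj_det (n := n) (by omega) hN (hpowN ha hg)
      (hpowN (mul_ne_zero (pow_ne_zero r c.ne_zero) hb) (hsmul _ hh)) hch one_ne_zero
    exact (projClass_eq_iff g h).mpr
      ⟨c, Matrix.GeneralLinearGroup.mkOfDetNeZero Y (by rw [hY1]; exact one_ne_zero), hY2⟩
  -- consequences of equality of classes
  have hinv : ∀ {g h : GL (Fin n) F} {a b : F}, (g : Matrix (Fin n) (Fin n) F) ^ r = Matrix.scalar (Fin n) a →
      (h : Matrix (Fin n) (Fin n) F) ^ r = Matrix.scalar (Fin n) b → projClass g = projClass h →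
      ∃ c : Fˣ, a = (c : F) ^ r * b ∧
        (g : Matrix (Fin n) (Fin n) F).charpoly = ((c : F) • (h : Matrix (Fin n) (Fin n) F)).charpoly := by
    intro g h a b hg hh hgh
    obtain ⟨c, x, hx⟩ := (projClass_eq_iff g h).mp hgh
    refine ⟨c, ?_, ?_⟩
    · have h1 : ∀ i : ℕ, (x : Matrix (Fin n) (Fin n) F) * (g : Matrix (Fin n) (Fin n) F) ^ i =
          ((c : F) • (h : Matrix (Fin n) (Fin n) F)) ^ i * x := fun i => SemiconjBy.pow_right hx i
      have h2 := h1 r
      rw [hg, hsmul _ hh, ← (Matrix.scalar_commute a (Commute.all a) _).eq] at h2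
      exact Matrix.scalar_inj.mp (x.isUnit.mul_right_cancel h2)
    · have hzd : (x : Matrix (Fin n) (Fin n) F) * (g : Matrix (Fin n) (Fin n) F) *
          ((x⁻¹ : GL (Fin n) F) : Matrix (Fin n) (Fin n) F) = (c : F) • (h : Matrix (Fin n) (Fin n) F) := by
        rw [hx, mul_assoc, Units.mul_inv, mul_one]
      rw [← hzd, Matrix.coe_units_inv, Matrix.charpoly_units_conj]
  have hmksc : ∀ g : GL (Fin n) F, ((QuotientGroup.mk g : GL (Fin n) F ⧸ Subgroup.center (GL (Fin n) F)) = 1) ↔
      ∃ a : F, (g : Matrix (Fin n) (Fin n) F) = Matrix.scalar (Fin n) a := by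
    intro g
    rw [QuotientGroup.eq_one_iff, Matrix.GeneralLinearGroup.mem_center_iff_val_mem_range_scalar]
    exact ⟨fun ⟨a, ha⟩ => ⟨a, ha.symm⟩, fun ⟨a, ha⟩ => ⟨a, ha.symm⟩⟩
  have hord : ∀ g : GL (Fin n) F, (¬ ∃ a : F, (g : Matrix (Fin n) (Fin n) F) = Matrix.scalar (Fin n) a) →
      (∃ a : F, (g : Matrix (Fin n) (Fin n) F) ^ r = Matrix.scalar (Fin n) a) →
      orderOf (QuotientGroup.mk g : GL (Fin n) F ⧸ Subgroup.center (GL (Fin n) F)) = r := by
    intro g h1 h2
    refine orderOf_eq_prime ?_ (mt (hmksc g).mp h1)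
    rw [← QuotientGroup.mk_pow, hmksc, Units.val_pow_eq_pow_val]
    exact h2
  -- roots of unity
  obtain ⟨ζu, hζu⟩ := exists_prime_orderOf_dvd_card' (G := Fˣ) r (by
    rw [Nat.card_units, Nat.card_eq_fintype_card]; exact hrq)
  set ζ : F := (ζu : F) with hζdef
  have hζ : IsPrimitiveRoot ζ r := by
    rw [hζdef, IsPrimitiveRoot.iff_orderOf, orderOf_units, hζu]
  -- split classes
  have hD : ∀ s : Sym (ZMod r) n, ∃ g : GL (Fin n) F, (g : Matrix (Fin n) (Fin n) F) = diagOf ζ s := fun s =>
    ⟨Units.ofPowEqOne _ r (diagOf_pow hζ s) hr.ne_zero, rfl⟩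
  choose D hDv using hD
  let Φ := fun s => projClass (D s)
  set T : Finset (Sym (ZMod r) n) :=
    Finset.univ.filter fun s => ¬ ∃ j, (s : Multiset (ZMod r)) = Multiset.replicate n j with hTdef
  have hΦ : ∀ s ∈ T, ∀ t ∈ T, (Φ s = Φ t ↔ ∃ k : ZMod r,
      (s : Multiset (ZMod r)) = (t : Multiset (ZMod r)).map (k + ·)) := by
    intro s _ t _
    have hmap : ∀ k : ZMod r, Matrix.charpoly (zpw ζ k • diagOf ζ t) =
        (((t : Multiset (ZMod r)).map (k + ·)).map fun j => X - C (zpw ζ j)).prod := fun k => by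
      rw [smul_diagOf hζ, charpoly_diag]
      congr 2
      conv_rhs => rw [← map_listing t, Multiset.map_map]
      rfl
    have hpl : ∀ u : Sym (ZMod r) n, (diagOf ζ u).charpoly =
        ((u : Multiset (ZMod r)).map fun j => X - C (zpw ζ j)).prod := fun u => by
      rw [diagOf, charpoly_diag, map_listing]
    have hsc : ∀ u : Sym (ZMod r) n, (D u : Matrix (Fin n) (Fin n) F) ^ r = Matrix.scalar (Fin n) 1 := fun u => by
      rw [hDv, diagOf_pow hζ, map_one]
    constructor
    · intro h
      obtain ⟨c, hc1, hc2⟩ := hinv (hsc s) (hsc t) h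
      rw [mul_one] at hc1
      obtain ⟨i, hi, hic⟩ := hζ.eq_pow_of_pow_eq_one hc1.symm
      refine ⟨(i : ZMod r), roots_prod hζ ?_⟩
      rw [← hpl, ← hmap, ← hDv s, hc2, hDv t]
      congr 2
      rw [zpw, ZMod.val_natCast_of_lt hi, hic]
    · rintro ⟨k, hk⟩
      refine hconj _ _ 1 1 one_ne_zero one_ne_zero (hsc s) (hsc t) (Units.mk0 _ (zpw_ne_zero hζ k)) ?_
      show _ = Matrix.charpoly (zpw ζ k • (D t : Matrix (Fin n) (Fin n) F))
      rw [hDv, hDv, hpl, hmap, hk]
  obtain ⟨hTcard, himg⟩ := card_orbit_sum (hn := by omega) T Φ (fun s => by simp [hTdef]) hΦ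
  -- non-split classes
  let P : Subgroup Fˣ := (powMonoidHom r : Fˣ →* Fˣ).range
  have hP : P.index = r := by
    have h := P.card_mul_index
    have h2 : Nat.card P * r = Nat.card Fˣ := by
      have h3 := Subgroup.card_mul_index (powMonoidHom r : Fˣ →* Fˣ).ker
      rw [Subgroup.index_ker, IsCyclic.card_powMonoidHom_ker, Nat.gcd_eq_right (by
        rw [Nat.card_units, Nat.card_eq_fintype_card]; exact hrq)] at h3
      rw [mul_comm]
      exact h3
    rw [← h2] at h
    exact Nat.eq_of_mul_eq_mul_left Nat.card_pos h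
  have hnp : ∀ x : Fˣ ⧸ P, x ≠ 1 → ∀ b : F, b ^ r ≠ ((x.out : Fˣ) : F) := by
    intro x hx b hb
    apply hx
    have hb0 : b ≠ 0 := fun h => by
      rw [h, zero_pow hr.ne_zero] at hb
      exact x.out.ne_zero hb.symm
    rw [← QuotientGroup.out_eq' x, QuotientGroup.eq_one_iff]
    exact ⟨Units.mk0 b hb0, Units.ext hb⟩
  have hE : ∀ x : {x : Fˣ ⧸ P // x ≠ 1 ∧ r ∣ n}, ∃ g : GL (Fin n) F,
      (g : Matrix (Fin n) (Fin n) F) ^ r = Matrix.scalar (Fin n) ((x.1.out : Fˣ) : F) := fun x => by
    obtain ⟨M, hM⟩ := exists_pow_eq_scalar_of_irreducible hr (hnp x.1 x.2.1) x.2.2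
    exact ⟨Units.ofPowEqOne M N (hpowN (Units.ne_zero _) hM) (fun h => hN (by rw [h, Nat.cast_zero])), hM⟩
  choose E hEv using hE
  let A : Set (ConjClasses (GL (Fin n) F ⧸ Subgroup.center (GL (Fin n) F))) := ↑(T.image Φ)
  let B : Set (ConjClasses (GL (Fin n) F ⧸ Subgroup.center (GL (Fin n) F))) := Set.range fun x => projClass (E x)
  have hAB : Disjoint A B := by
    rw [Set.disjoint_left]
    rintro C hA ⟨x, rfl⟩
    obtain ⟨s, -, hs⟩ := Finset.mem_image.mp hA
    obtain ⟨c, hc, -⟩ := hinv (hEv x) (g := E x) (h := D s) (b := 1) (by rw [hDv, diagOf_pow hζ, map_one]) hs.symm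
    rw [mul_one] at hc
    exact hnp x.1 x.2.1 _ hc.symm
  have hEinj : Function.Injective fun x => projClass (E x) := by
    intro x y h
    obtain ⟨c, hc, -⟩ := hinv (hEv x) (hEv y) h
    apply Subtype.ext
    rw [← QuotientGroup.out_eq' x.1, ← QuotientGroup.out_eq' y.1]
    refine QuotientGroup.eq.mpr ⟨c⁻¹, ?_⟩
    apply Units.ext
    rw [powMonoidHom_apply, Units.val_pow_eq_pow_val, Units.val_mul, Units.val_inv_eq_inv_val, Units.val_inv_eq_inv_val,
      hc, inv_pow, mul_inv, mul_assoc, inv_mul_cancel₀ (Units.ne_zero _), mul_one]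
  have hset : {C : ConjClasses (GL (Fin n) F ⧸ Subgroup.center (GL (Fin n) F)) |
      ∃ g, ConjClasses.mk g = C ∧ orderOf g = r} = A ∪ B := by
    ext C
    constructor
    · rintro ⟨g, rfl, hg⟩
      obtain ⟨g, rfl⟩ := QuotientGroup.mk_surjective g
      have hns : ¬ ∃ a : F, (g : Matrix (Fin n) (Fin n) F) = Matrix.scalar (Fin n) a := fun h => by
        rw [(hmksc g).mpr h, orderOf_one] at hg
        exact hr.ne_one hg.symm
      obtain ⟨a, ha⟩ : ∃ a : F, (g : Matrix (Fin n) (Fin n) F) ^ r = Matrix.scalar (Fin n) a := by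
        rw [← Units.val_pow_eq_pow_val, ← hmksc, QuotientGroup.mk_pow, ← hg]
        exact pow_orderOf_eq_one _
      have ha0 : a ≠ 0 := fun h0 => by
        rw [h0, map_zero] at ha
        have := congrArg Matrix.det ha
        rw [Matrix.det_zero, Matrix.det_pow] at this
        exact pow_ne_zero r (Matrix.GeneralLinearGroup.det_ne_zero g) this
      by_cases hp : ∃ b : F, b ^ r = a
      · left
        obtain ⟨b, hb⟩ := hp
        have hb0 : b ≠ 0 := fun h => ha0 (by rw [← hb, h, zero_pow hr.ne_zero])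
        set M := b⁻¹ • (g : Matrix (Fin n) (Fin n) F) with hM
        have hM1 : M ^ r = 1 := by
          rw [hM, hsmul _ ha, inv_pow, hb, inv_mul_cancel₀ ha0, map_one]
        obtain ⟨s, hs⟩ := exists_sym_charpoly hζ hM1
        obtain ⟨Y, hY1, hY2⟩ := exists_conj_det (n := n) (by omega) hrF hM1 (diagOf_pow hζ s) hs one_ne_zero
        let y : GL (Fin n) F := Matrix.GeneralLinearGroup.mkOfDetNeZero Y (by rw [hY1]; exact one_ne_zero)
        have hgs : Y * (g : Matrix (Fin n) (Fin n) F) = (b • diagOf ζ s) * Y := by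
          rw [Matrix.smul_mul, ← hY2, hM, Matrix.mul_smul, smul_inv_smul₀ hb0]
        have heq : projClass g = Φ s :=
          (projClass_eq_iff g (D s)).mpr ⟨Units.mk0 b hb0, y, by rw [hDv]; exact hgs⟩
        refine Finset.mem_coe.mpr (Finset.mem_image.mpr ⟨s, ?_, heq.symm⟩)
        simp only [hTdef, Finset.mem_filter, Finset.mem_univ, true_and]
        intro hj
        obtain ⟨t, ht⟩ := (diag_eq_scalar hζ s (by omega)).mpr hj
        refine hns ⟨b * t, y.isUnit.mul_left_cancel ?_⟩
        show Y * _ = Y * _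
        rw [hgs, ht, ← map_smul_scalar]
      · right
        push Not at hp
        obtain ⟨hrn, hch⟩ := eq_pow_of_factor_eq (f := X ^ r - C a) (monic_X_pow_sub_C a hr.ne_zero)
          (X_pow_sub_C_irreducible_of_prime hr hp) (M := (g : Matrix (Fin n) (Fin n) F)) (by
            rw [map_sub, map_pow, aeval_X, aeval_C, ha, sub_eq_zero]; rfl)
        rw [natDegree_X_pow_sub_C] at hrn hch
        let x : Fˣ ⧸ P := QuotientGroup.mk (Units.mk0 a ha0)
        have hx : x ≠ 1 := fun h => by
          obtain ⟨c, hc⟩ := (QuotientGroup.eq_one_iff _).mp h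
          exact hp _ (congrArg Units.val hc)
        refine ⟨⟨x, hx, hrn⟩, ?_⟩
        obtain ⟨c, hc⟩ := QuotientGroup.eq.mp (QuotientGroup.out_eq' x).symm
        -- `x.out = a * c ^ r`
        have hout : ((x.out : Fˣ) : F) = a * (c : F) ^ r := by
          have h := congrArg (fun u : Fˣ => ((Units.mk0 a ha0 * u : Fˣ) : F)) hc
          simp only [mul_inv_cancel_left, powMonoidHom_apply, Units.val_mul, Units.val_mk0,
            Units.val_pow_eq_pow_val] at h
          exact h.symm
        refine hconj _ g _ a (Units.ne_zero _) ha0 (hEv _) ha c ?_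
        obtain ⟨-, hch2⟩ := eq_pow_of_factor_eq (f := X ^ r - C ((x.out : Fˣ) : F))
          (monic_X_pow_sub_C _ hr.ne_zero) (X_pow_sub_C_irreducible_of_prime hr (hnp x hx))
          (M := (c : F) • (g : Matrix (Fin n) (Fin n) F)) (by
            rw [map_sub, map_pow, aeval_X, aeval_C, hsmul _ ha, hout, mul_comm, sub_eq_zero]; rfl)
        obtain ⟨-, hch3⟩ := eq_pow_of_factor_eq (f := X ^ r - C ((x.out : Fˣ) : F))
          (monic_X_pow_sub_C _ hr.ne_zero) (X_pow_sub_C_irreducible_of_prime hr (hnp x hx))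
          (M := (E ⟨x, hx, hrn⟩ : Matrix (Fin n) (Fin n) F)) (by
            rw [map_sub, map_pow, aeval_X, aeval_C, hEv, sub_eq_zero]; rfl)
        rw [hch2, hch3]
    · rintro (hC | ⟨x, rfl⟩)
      · obtain ⟨s, hs, rfl⟩ := Finset.mem_image.mp hC
        simp only [hTdef, Finset.mem_filter, Finset.mem_univ, true_and] at hs
        refine ⟨_, rfl, hord _ (fun h => hs ((diag_eq_scalar hζ s (by omega)).mp (hDv s ▸ h))) ⟨1, ?_⟩⟩
        rw [hDv, diagOf_pow hζ, map_one]
      · refine ⟨_, rfl, hord _ ?_ ⟨_, hEv x⟩⟩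
        rintro ⟨a, ha⟩
        have h := hEv x
        rw [ha, ← map_pow, Matrix.scalar_inj] at h
        exact hnp x.1 x.2.1 a h
  have hBcard : B.ncard = (r - 1) * (if r ∣ n then 1 else 0) := by
    rw [Set.ncard_range_of_injective hEinj, Nat.card_eq_fintype_card, Fintype.card_subtype]
    split_ifs with h
    · simp only [h, and_true, mul_one]
      rw [Finset.filter_ne' _ 1, Finset.card_erase_of_mem (Finset.mem_univ _), Finset.card_univ,
        ← Nat.card_eq_fintype_card, ← Subgroup.index_eq_card, hP]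
    · simp [h]
  show Nat.card ↥{C : ConjClasses (GL (Fin n) F ⧸ Subgroup.center (GL (Fin n) F)) |
      ∃ g, ConjClasses.mk g = C ∧ orderOf g = r} = _
  rw [hset, Nat.card_coe_set_eq, Set.ncard_union_eq hAB, hBcard, Set.ncard_coe_finset, ← hTcard]
  have h2r := hr.two_le
  split_ifs with h
  · simp only [h, if_true, mul_one] at himg ⊢
    obtain ⟨e, he⟩ : ∃ e, (T.image Φ).card = e + 1 := by
      refine ⟨(T.image Φ).card - 1, ?_⟩
      rcases Nat.eq_zero_or_pos (T.image Φ).card with h0 | h0
      · rw [h0, mul_zero] at himg; omega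
      · omega
    rw [he] at himg ⊢
    rw [mul_add, mul_one] at himg
    rw [show T.card - 1 = r * e by omega, Nat.mul_div_cancel_left _ hr.pos]
    omega
  · simp only [h, if_false, mul_zero, add_zero, Nat.sub_zero] at himg ⊢
    rw [← himg, Nat.mul_div_cancel_left _ hr.pos]
where
  map_smul_scalar {n : ℕ} {b t : F} {Y : Matrix (Fin n) (Fin n) F} :
      Y * Matrix.scalar (Fin n) (b * t) = (b • Matrix.scalar (Fin n) t) * Y := by
    rw [← (Matrix.scalar_commute (b * t) (Commute.all _) Y).eq]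
    congr 1
    rw [Matrix.scalar_apply, Matrix.scalar_apply, ← Matrix.diagonal_smul]
    rfl

end Cfsg.Agent.GLSemi
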