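import Cfsg.Agent.Lib.Dickson.Exists
import Cfsg.Agent.Lib.LinearGroup.Simple
import Cfsg.Agent.Lib.LinearGroup.Card
import Cfsg.Agent.FGS80.Burnside

/-!
The action of `PSL₂(11)` on eleven points.
-/

set_option autoImplicit false

namespace Cfsg.Agent.PSL211

variable {F : Type*} [Field F] [Fintype F]

theorem natCast_ne_zero_of_card (hF : Fintype.card F = 11) {m : ℕ} (hm : ¬ 11 ∣ m) : (m : F) ≠ 0 := by
  haveI : Fact (Nat.Prime 11) := ⟨by norm_num⟩
  haveI : CharP F 11 := charP_of_card_eq_prime_pow (f := 1) (by rw [pow_one, hF])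
  rwa [Ne, CharP.cast_eq_zero_iff F 11]

theorem isSimple (hF : Fintype.card F = 11) :
    IsSimpleGroup (Matrix.ProjectiveSpecialLinearGroup (Fin 2) F) := by
  refine LinearGroup.isSimpleGroup_PSL' fun _ => ⟨2, ?_, ?_⟩
  · exact_mod_cast natCast_ne_zero_of_card hF (m := 2) (by norm_num)
  · intro h
    apply natCast_ne_zero_of_card hF (m := 3) (by norm_num)
    push_cast
    linear_combination h

theorem card_psl (hF : Fintype.card F = 11) :
    Nat.card (Matrix.ProjectiveSpecialLinearGroup (Fin 2) F) = 660 := by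
  have h := LinearGroup.gcd_mul_card_PSL_two (F := F)
  rw [Nat.card_eq_fintype_card (α := F), hF] at h
  norm_num at h
  omega

theorem exists_icosahedral (hF : Fintype.card F = 11) :
    ∃ H : Subgroup (Matrix.ProjectiveSpecialLinearGroup (Fin 2) F),
      H.index = 11 ∧ Nonempty (H ≃* alternatingGroup (Fin 5)) := by
  have h5 : (5 : F) ≠ 0 := by exact_mod_cast natCast_ne_zero_of_card hF (m := 5) (by norm_num)
  obtain ⟨H, ⟨e⟩⟩ := Dickson.exists_A5 (F := F) (Or.inl (by rw [Nat.card_eq_fintype_card, hF]; norm_num)) h5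
  refine ⟨H, ?_, ⟨e⟩⟩
  have h := H.card_mul_index
  rw [card_psl hF, Nat.card_congr e.toEquiv, Nat.card_eq_fintype_card, show Fintype.card (alternatingGroup (Fin 5)) = 60
    from by rw [← Nat.card_eq_fintype_card, nat_card_alternatingGroup, Nat.card_fin]; rfl] at h
  omega

theorem two_transitive (hF : Fintype.card F = 11) {H : Subgroup (Matrix.ProjectiveSpecialLinearGroup (Fin 2) F)}
    (hH : H.index = 11) :
    MulAction.IsMultiplyPretransitive (Matrix.ProjectiveSpecialLinearGroup (Fin 2) F)
      ((Matrix.ProjectiveSpecialLinearGroup (Fin 2) F) ⧸ H) 2 := by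
  classical
  haveI := isSimple hF
  haveI : Fintype ((Matrix.ProjectiveSpecialLinearGroup (Fin 2) F) ⧸ H) := Fintype.ofFinite _
  have hne : H ≠ ⊤ := fun h => by rw [h, Subgroup.index_top] at hH; omega
  haveI : FaithfulSMul (Matrix.ProjectiveSpecialLinearGroup (Fin 2) F)
      ((Matrix.ProjectiveSpecialLinearGroup (Fin 2) F) ⧸ H) := by
    have hcore : H.normalCore = ⊥ := by
      rcases (Subgroup.normalCore_normal H).eq_bot_or_eq_top with h | h
      · exact h
      · exact absurd (top_le_iff.mp (h ▸ Subgroup.normalCore_le H)) hne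
    constructor
    intro a b hab
    have hk : a⁻¹ * b ∈ H.normalCore := by
      rw [Subgroup.normalCore_eq_ker, MonoidHom.mem_ker]
      ext x
      show (a⁻¹ * b) • x = x
      rw [mul_smul, ← hab, inv_smul_smul]
    rw [hcore, Subgroup.mem_bot, inv_mul_eq_one] at hk
    exact hk
  haveI : Fact (Nat.Prime 11) := ⟨by norm_num⟩
  rcases FGS80.Burnside.isSolvable_or_two_transitive (G := Matrix.ProjectiveSpecialLinearGroup (Fin 2) F)
    (Ω := (Matrix.ProjectiveSpecialLinearGroup (Fin 2) F) ⧸ H) (p := 11)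
    (by rw [← Nat.card_eq_fintype_card, ← Subgroup.index_eq_card, hH]) with h | h
  · exfalso
    have hcomm := IsSimpleGroup.comm_iff_isSolvable.mpr h
    have hp : (Nat.card (Matrix.ProjectiveSpecialLinearGroup (Fin 2) F)).Prime := by
      letI : CommGroup (Matrix.ProjectiveSpecialLinearGroup (Fin 2) F) :=
        { (inferInstance : Group _) with mul_comm := hcomm }
      exact IsSimpleGroup.prime_card
    rw [card_psl hF] at hp
    norm_num at hp
  · exact h

end Cfsg.Agent.PSL211
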