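import Cfsg.Agent.Lib.GLSemisimple.PSL211Count

/-!
Exactly two classes of eleven icosahedral subgroups in `PSL₂(11)`.
-/

set_option autoImplicit false

namespace Cfsg.Agent.PSL211

open Matrix
open scoped MatrixGroups Pointwise

variable {F : Type*} [Field F] [Fintype F]

local notation "GG" => Matrix.ProjectiveSpecialLinearGroup (Fin 2) F

theorem card_units (hF : Fintype.card F = 11) : Nat.card Fˣ = 10 := by
  rw [Nat.card_units, Nat.card_eq_fintype_card, hF]

theorem zElt_injective (hF : Fintype.card F = 11) : Function.Injective (zElt (F := F)) := by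
  intro b b' h
  rcases mk_eq_mk_iff.mp h with h | h
  · exact Units.ext (congrArg (fun m : SL(2, F) => (m : Matrix (Fin 2) (Fin 2) F) 0 1) h).symm
  · have h2 := congrArg (fun m : SL(2, F) => (m : Matrix (Fin 2) (Fin 2) F)) h
    simp only [Matrix.SpecialLinearGroup.coe_neg] at h2
    have h' := congrFun (congrFun h2 0) 0
    simp [zMat] at h'
    exact absurd (by linear_combination h') (four_facts hF).1

theorem zElt_mem_zSet (hF : Fintype.card F = 11) (b : Fˣ) : zElt b ∈ zSet (uElt hF) := by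
  obtain ⟨h2, h3, h5, h11⟩ := four_facts hF
  have hu : (b : F) * ((b⁻¹ : Fˣ) : F) = 1 := b.mul_inv
  refine ⟨?_, ?_, ?_⟩
  · rw [zElt, ← QuotientGroup.mk_pow, mk_eq_one_iff]
    right
    apply Subtype.ext
    rw [Matrix.SpecialLinearGroup.coe_pow, Matrix.SpecialLinearGroup.coe_neg, Matrix.SpecialLinearGroup.coe_one,
      sq, Dickson.sl_sq, show Dickson.str (zMat b) = (0 : F) from by
        show Matrix.trace (zMat b : Matrix (Fin 2) (Fin 2) F) = 0
        rw [zMat]; simp [Matrix.trace_fin_two_of],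
      zero_smul, zero_sub]
  · rw [zElt, ne_eq, mk_eq_one_iff]
    rintro (h | h) <;>
    · have := congrArg (fun m : SL(2, F) => (m : Matrix (Fin 2) (Fin 2) F) 0 1) h
      simp [zMat] at this
  · rw [uElt, zElt, ← QuotientGroup.mk_mul, ← QuotientGroup.mk_pow, mk_eq_one_iff]
    left
    apply Subtype.ext
    set W : SL(2, F) := uMat hF * zMat b with hW
    have ht : Dickson.str W = -1 := by
      show Matrix.trace (W : Matrix (Fin 2) (Fin 2) F) = _
      rw [hW, Matrix.SpecialLinearGroup.coe_mul, uMat, zMat]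
      simp [Matrix.mul_fin_two, Matrix.trace_fin_two_of]
      ring
    rw [Matrix.SpecialLinearGroup.coe_pow, Matrix.SpecialLinearGroup.coe_one, pow_succ, sq, Dickson.sl_sq, ht,
      sub_mul, smul_mul_assoc, Dickson.sl_sq, ht, one_mul]
    module

/-- Conjugation by `diag(ν, 1)` on `SL₂`. -/
noncomputable def diagConjSL (ν : Fˣ) : SL(2, F) →* SL(2, F) where
  toFun g := ⟨!![g.1 0 0, (ν : F) * g.1 0 1; ((ν⁻¹ : Fˣ) : F) * g.1 1 0, g.1 1 1], by
    have hd : g.1 0 0 * g.1 1 1 - g.1 0 1 * g.1 1 0 = 1 := by rw [← Matrix.det_fin_two]; exact g.2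
    rw [Matrix.det_fin_two_of]
    linear_combination hd - (g.1 0 1 * g.1 1 0) * ν.mul_inv⟩
  map_one' := by
    apply Subtype.ext
    simp [Matrix.one_fin_two]
  map_mul' g h := by
    apply Subtype.ext
    show !![(g * h).1 0 0, (ν : F) * (g * h).1 0 1; ((ν⁻¹ : Fˣ) : F) * (g * h).1 1 0, (g * h).1 1 1] =
      !![g.1 0 0, (ν : F) * g.1 0 1; ((ν⁻¹ : Fˣ) : F) * g.1 1 0, g.1 1 1] *
      !![h.1 0 0, (ν : F) * h.1 0 1; ((ν⁻¹ : Fˣ) : F) * h.1 1 0, h.1 1 1]
    simp only [Matrix.SpecialLinearGroup.coe_mul]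
    have hu : (ν : F) * (ν : F)⁻¹ = 1 := mul_inv_cancel₀ ν.ne_zero
    ext i j
    fin_cases i <;> fin_cases j <;> simp [Matrix.mul_apply, Fin.sum_univ_two]
    · linear_combination (-(g.1 0 1 * h.1 1 0)) * hu
    · ring
    · ring
    · linear_combination (-(g.1 1 0 * h.1 0 1)) * hu

omit [Fintype F] in
theorem diagConjSL_val (ν : Fˣ) (g : SL(2, F)) : (diagConjSL ν g : Matrix (Fin 2) (Fin 2) F) =
    !![g.1 0 0, (ν : F) * g.1 0 1; ((ν⁻¹ : Fˣ) : F) * g.1 1 0, g.1 1 1] := rfl

/-- Conjugation by `diag(ν, 1)` on `PSL₂`. -/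
noncomputable def diagConj (ν : Fˣ) : GG →* GG :=
  QuotientGroup.lift _ ((QuotientGroup.mk' _).comp (diagConjSL ν)) (by
    intro g hg
    rw [MonoidHom.mem_ker, MonoidHom.comp_apply, QuotientGroup.mk'_apply, mk_eq_one_iff]
    rw [Matrix.SpecialLinearGroup.mem_center_iff] at hg
    obtain ⟨r, hr, hg⟩ := hg
    rw [Fintype.card_fin] at hr
    rcases sq_eq_one_iff.mp hr with h | h <;> subst h
    · left; apply Subtype.ext; simp [diagConjSL_val, ← hg, Matrix.scalar_apply, Matrix.one_fin_two]
    · right; apply Subtype.ext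
      rw [Matrix.SpecialLinearGroup.coe_neg, Matrix.SpecialLinearGroup.coe_one]
      simp [diagConjSL_val, ← hg, Matrix.scalar_apply, Matrix.one_fin_two])

omit [Fintype F] in
theorem diagConj_mk (ν : Fˣ) (g : SL(2, F)) :
    diagConj ν (QuotientGroup.mk g) = QuotientGroup.mk (diagConjSL ν g) := rfl

omit [Fintype F] in
theorem diagConj_zElt (ν b : Fˣ) : diagConj ν (zElt b) = zElt (ν * b) := by
  rw [zElt, zElt, diagConj_mk]
  congr 1
  apply Subtype.ext
  rw [diagConjSL_val]
  simp [zMat]
  ring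

theorem diagConj_uElt (hF : Fintype.card F = 11) (ν : Fˣ) : diagConj ν (uElt hF) = uElt hF := by
  rw [uElt, diagConj_mk]
  congr 1
  apply Subtype.ext
  rw [diagConjSL_val]
  simp [uMat]

omit [Fintype F] in
theorem diagConj_injective (ν : Fˣ) : Function.Injective (diagConj ν) := by
  intro x y h
  obtain ⟨g, rfl⟩ := QuotientGroup.mk_surjective x
  obtain ⟨g', rfl⟩ := QuotientGroup.mk_surjective y
  have hinv : ∀ g : SL(2, F), diagConjSL ν⁻¹ (diagConjSL ν g) = g := fun g => by
    apply Subtype.ext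
    ext i j
    fin_cases i <;> fin_cases j <;> simp [diagConjSL_val, ← mul_assoc]
  have h' := congrArg (diagConj ν⁻¹) h
  simpa only [diagConj_mk, hinv] using h'

/-- The icosahedral subgroups through the reference element. -/
def IsIcoThrough (hF : Fintype.card F = 11) (H : Subgroup GG) : Prop :=
  Nonempty (H ≃* alternatingGroup (Fin 5)) ∧ uElt hF ∈ H

theorem zCount (hF : Fintype.card F = 11) {H : Subgroup GG} (hH : IsIcoThrough hF H) :
    Nat.card {b : Fˣ // zElt b ∈ H} = 5 := by
  obtain ⟨⟨e⟩, hu⟩ := hH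
  rw [← (subgroup_counts e (orderOf_uElt hF) hu).1]
  refine Nat.card_congr (Equiv.ofBijective (fun b => ⟨zElt b.1, zElt_mem_zSet hF b.1, b.2⟩) ⟨?_, ?_⟩)
  · intro a b h
    exact Subtype.ext (zElt_injective hF (congrArg Subtype.val h))
  · rintro ⟨z, hz, hzH⟩
    obtain ⟨b, rfl⟩ := zSet_subset hF hz
    exact ⟨⟨b, hzH⟩, rfl⟩

theorem two_of_three (hF : Fintype.card F = 11) {H K L : Subgroup GG} (hH : IsIcoThrough hF H)
    (hK : IsIcoThrough hF K) (hL : IsIcoThrough hF L) (hne : H ≠ K) : L = H ∨ L = K := by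
  classical
  by_contra hcon
  push Not at hcon
  have key : ∀ {A B : Subgroup GG}, IsIcoThrough hF A → IsIcoThrough hF B → A ≠ B →
      ∀ b : Fˣ, zElt b ∈ A → zElt b ∉ B := by
    intro A B hA hB hAB b ha hb
    obtain ⟨⟨eA⟩, huA⟩ := hA
    obtain ⟨⟨eB⟩, huB⟩ := hB
    exact hAB ((eq_closure eA (orderOf_uElt hF) huA (zElt_mem_zSet hF b) ha).trans
      (eq_closure eB (orderOf_uElt hF) huB (zElt_mem_zSet hF b) hb).symm)
  let S : Subgroup GG → Finset Fˣ := fun A => Finset.univ.filter fun b => zElt b ∈ A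
  have hS : ∀ {A}, IsIcoThrough hF A → (S A).card = 5 := fun {A} hA => by
    rw [← zCount hF hA, Nat.card_eq_fintype_card, Fintype.card_subtype]
  have hd : ∀ {A B}, IsIcoThrough hF A → IsIcoThrough hF B → A ≠ B → Disjoint (S A) (S B) := by
    intro A B hA hB hAB
    rw [Finset.disjoint_left]
    intro b ha hb
    exact key hA hB hAB b (Finset.mem_filter.mp ha).2 (Finset.mem_filter.mp hb).2
  have h1 : (S H ∪ S K ∪ S L).card = 15 := by
    rw [Finset.card_union_of_disjoint (Finset.disjoint_union_left.mpr ⟨hd hH hL hcon.1.symm, hd hK hL hcon.2.symm⟩),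
      Finset.card_union_of_disjoint (hd hH hK hne), hS hH, hS hK, hS hL]
  have h2 := Finset.card_le_univ (S H ∪ S K ∪ S L)
  rw [h1, ← Nat.card_eq_fintype_card, card_units hF] at h2
  omega

theorem normalizer_le (hF : Fintype.card F = 11) {H : Subgroup GG} (hH : IsIcoThrough hF H) {g : GG}
    (hg : ∃ k : Fin 5, g * uElt hF = uElt hF ^ (k : ℕ) * g) : g ∈ H := by
  classical
  obtain ⟨⟨e⟩, hu⟩ := hH
  haveI : Fact (Nat.Prime 5) := ⟨by norm_num⟩
  set u := uElt hF with hu_def
  have hord := orderOf_uElt hF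
  let P : Sylow 5 GG := Sylow.ofCard (Subgroup.zpowers u) (by
    rw [Nat.card_zpowers, hord, card_psl hF, Nat.factorization_def _ (by norm_num)]
    rw [show (660 : ℕ) = 5 * 132 by norm_num, padicValNat.mul (by norm_num) (by norm_num), padicValNat_self,
      padicValNat.eq_zero_of_not_dvd (by norm_num : ¬ 5 ∣ 132)]
    norm_num)
  set N := Subgroup.normalizer ((P : Subgroup GG) : Set GG) with hN
  have hpred : ∀ g : GG, (∃ k : Fin 5, g * u = u ^ (k : ℕ) * g) ↔ g ∈ N := by
    intro g
    constructor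
    · rintro ⟨k, hk⟩
      rw [hN]
      refine Subgroup.mem_normalizer_fintype fun x hx => ?_
      change x ∈ Subgroup.zpowers u at hx
      obtain ⟨j, rfl⟩ := Subgroup.mem_zpowers_iff.mp hx
      show g * u ^ j * g⁻¹ ∈ Subgroup.zpowers u
      rw [← conj_zpow]
      refine Subgroup.zpow_mem _ ?_ j
      rw [hk, mul_inv_cancel_right]
      exact Subgroup.pow_mem _ (Subgroup.mem_zpowers u) _
    · intro hg
      have h1 : g * u * g⁻¹ ∈ Subgroup.zpowers u :=
        (Subgroup.mem_normalizer_iff.mp hg u).mp (Subgroup.mem_zpowers u)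
      obtain ⟨j, hj, hju⟩ := (isOfFinOrder_of_finite u).mem_zpowers_iff_mem_range_orderOf.mp h1 |> fun h => by
        simpa using Finset.mem_image.mp h
      rw [hord] at hj
      exact ⟨⟨j, hj⟩, by simp only; rw [hju, inv_mul_cancel_right]⟩
  -- the order of the normaliser
  have hbound : Nat.card {g : GG // ∃ k : Fin 5, g * u = u ^ (k : ℕ) * g} ≤ 20 := by
    let f : Fˣ ⊕ Fˣ → GG := Sum.elim
      (fun a => QuotientGroup.mk (⟨!![(a : F), 0; 0, ((a⁻¹ : Fˣ) : F)], by simp [Matrix.det_fin_two_of]⟩ : SL(2, F)))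
      (fun a => QuotientGroup.mk (⟨!![0, (a : F); -((a⁻¹ : Fˣ) : F), 0], by simp [Matrix.det_fin_two_of]⟩ : SL(2, F)))
    have hsub : {g : GG | ∃ k : Fin 5, g * u = u ^ (k : ℕ) * g} ⊆ Set.range f := by
      rintro g ⟨k, hk⟩
      obtain ⟨M, rfl⟩ := QuotientGroup.mk_surjective g
      obtain ⟨h2, h3, h5, h11⟩ := four_facts hF
      set D : SL(2, F) := uMat hF ^ (k : ℕ) with hD
      have hD' : (D : Matrix (Fin 2) (Fin 2) F) = !![3 ^ (k : ℕ), 0; 0, 4 ^ (k : ℕ)] := by
        rw [hD, Matrix.SpecialLinearGroup.coe_pow, uMat]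
        induction (k : ℕ) with
        | zero => simp [Matrix.one_fin_two]
        | succ i ih =>
          show !![(3 : F), 0; 0, 4] ^ (i + 1) = _
          rw [pow_succ, ih]
          simp [Matrix.mul_fin_two, pow_succ]
      rw [hu_def, uElt, ← QuotientGroup.mk_pow, ← QuotientGroup.mk_mul, ← QuotientGroup.mk_mul, ← hD,
        mk_eq_mk_iff] at hk
      obtain ⟨s, hs00, hs01, hs10, hs11⟩ : ∃ s : F,
          M.1 0 0 * 3 = s * (3 ^ (k : ℕ) * M.1 0 0) ∧ M.1 0 1 * 4 = s * (3 ^ (k : ℕ) * M.1 0 1) ∧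
          M.1 1 0 * 3 = s * (4 ^ (k : ℕ) * M.1 1 0) ∧ M.1 1 1 * 4 = s * (4 ^ (k : ℕ) * M.1 1 1) := by
        rcases hk with h | h
        · refine ⟨1, ?_⟩
          have hh := congrArg (fun m : SL(2, F) => (m : Matrix (Fin 2) (Fin 2) F)) h
          simp only [Matrix.SpecialLinearGroup.coe_mul, hD'] at hh
          have p := congrFun (congrFun hh 0) 0
          have q := congrFun (congrFun hh 0) 1
          have r := congrFun (congrFun hh 1) 0
          have t := congrFun (congrFun hh 1) 1
          simp [uMat, Matrix.mul_apply, Fin.sum_univ_two] at p q r t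
          simp only [one_mul]
          exact ⟨p.symm, q.symm, r.symm, t.symm⟩
        · refine ⟨-1, ?_⟩
          have hh := congrArg (fun m : SL(2, F) => (m : Matrix (Fin 2) (Fin 2) F)) h
          simp only [Matrix.SpecialLinearGroup.coe_mul, Matrix.SpecialLinearGroup.coe_neg, hD'] at hh
          have p := congrFun (congrFun hh 0) 0
          have q := congrFun (congrFun hh 0) 1
          have r := congrFun (congrFun hh 1) 0
          have t := congrFun (congrFun hh 1) 1
          simp [uMat, Matrix.mul_apply, Fin.sum_univ_two] at p q r t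
          exact ⟨by linear_combination p, by linear_combination q, by linear_combination r, by linear_combination t⟩
      have hdet : M.1 0 0 * M.1 1 1 - M.1 0 1 * M.1 1 0 = 1 := by rw [← Matrix.det_fin_two]; exact M.2
      by_cases h00 : M.1 0 0 = 0
      · rw [h00, zero_mul, zero_sub] at hdet
        have h11' : M.1 1 1 = 0 := by
          by_contra hne
          have hb : M.1 0 1 ≠ 0 := fun h => by rw [h] at hdet; simp at hdet
          have hc : M.1 1 0 ≠ 0 := fun h => by rw [h] at hdet; simp at hdet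
          have e1 : (3 : F) = s * 4 ^ (k : ℕ) := mul_left_cancel₀ hc (by linear_combination hs10)
          have e2 : (4 : F) = s * 4 ^ (k : ℕ) := mul_left_cancel₀ hne (by linear_combination hs11)
          exact one_ne_zero (show (1 : F) = 0 by linear_combination e2 - e1)
        have hb : M.1 0 1 ≠ 0 := fun h => by rw [h] at hdet; simp at hdet
        refine ⟨Sum.inr (Units.mk0 _ hb), ?_⟩
        show QuotientGroup.mk _ = QuotientGroup.mk M
        congr 1
        apply Subtype.ext
        ext i j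
        fin_cases i <;> fin_cases j <;> simp [h00, h11']
        field_simp
        linear_combination hdet
      · have h01 : M.1 0 1 = 0 := by
          by_contra hne
          have e1 : (3 : F) = s * 3 ^ (k : ℕ) := mul_left_cancel₀ h00 (by linear_combination hs00)
          have e2 : (4 : F) = s * 3 ^ (k : ℕ) := mul_left_cancel₀ hne (by linear_combination hs01)
          exact one_ne_zero (show (1 : F) = 0 by linear_combination e2 - e1)
        rw [h01, zero_mul, sub_zero] at hdet
        have h10 : M.1 1 0 = 0 := by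
          by_contra hne
          have hd : M.1 1 1 ≠ 0 := fun h => by rw [h] at hdet; simp at hdet
          have e1 : (3 : F) = s * 4 ^ (k : ℕ) := mul_left_cancel₀ hne (by linear_combination hs10)
          have e2 : (4 : F) = s * 4 ^ (k : ℕ) := mul_left_cancel₀ hd (by linear_combination hs11)
          exact one_ne_zero (show (1 : F) = 0 by linear_combination e2 - e1)
        refine ⟨Sum.inl (Units.mk0 _ h00), ?_⟩
        show QuotientGroup.mk _ = QuotientGroup.mk M
        congr 1
        apply Subtype.ext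
        ext i j
        fin_cases i <;> fin_cases j <;> simp [h01, h10]
        field_simp
        linear_combination -hdet
    have := Nat.card_mono (Set.finite_range f) hsub
    refine this.trans ((Finite.card_range_le f).trans ?_)
    rw [Nat.card_sum, card_units hF]
  have hcardN : Nat.card {g : GG // ∃ k : Fin 5, g * u = u ^ (k : ℕ) * g} = Nat.card N :=
    Nat.card_congr (Equiv.subtypeEquivRight hpred)
  have hinH := (subgroup_counts e hord hu).2
  have hsubN : Nat.card {g : GG // (∃ k : Fin 5, g * u = u ^ (k : ℕ) * g) ∧ g ∈ H} ≤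
      Nat.card {g : GG // ∃ k : Fin 5, g * u = u ^ (k : ℕ) * g} :=
    Nat.card_le_card_of_injective (fun g => ⟨g.1, g.2.1⟩) (fun a b h => Subtype.ext (congrArg (fun x => x.1) h))
  have hsyl : Nat.card (Sylow 5 GG) * Nat.card N = 660 := by
    rw [Sylow.card_eq_index_normalizer P, mul_comm]
    exact (Subgroup.card_mul_index N).trans (card_psl hF)
  have hmod : Nat.card (Sylow 5 GG) % 5 = 1 := card_sylow_modEq_one 5 GG
  have hN10 : Nat.card N = 10 := by
    rw [hinH, hcardN] at hsubN
    rw [hcardN] at hbound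
    have hdvd : Nat.card N ∣ 660 := Dvd.intro_left _ hsyl
    have hdiv : Nat.card (Sylow 5 GG) = 660 / Nat.card N := by
      rw [← hsyl, Nat.mul_div_cancel _ (by omega)]
    rw [hdiv] at hmod
    generalize Nat.card N = m at *
    interval_cases m <;> first | rfl | omega
  -- all of the normaliser lies in `H`
  have hinj : Function.Injective (fun g : {g : GG // (∃ k : Fin 5, g * u = u ^ (k : ℕ) * g) ∧ g ∈ H} =>
      (⟨g.1, g.2.1⟩ : {g : GG // ∃ k : Fin 5, g * u = u ^ (k : ℕ) * g})) :=
    fun a b h => Subtype.ext (congrArg (fun x => x.1) h)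
  obtain ⟨⟨g', hg'⟩, hgeq⟩ := ((Nat.bijective_iff_injective_and_card _).mpr
    ⟨hinj, by rw [hinH, hcardN, hN10]⟩).2 ⟨g, hg⟩
  have := congrArg Subtype.val hgeq
  simp only at this
  rw [← this]
  exact hg'.2

theorem exists_conj_through (hF : Fintype.card F = 11) {H : Subgroup GG}
    (hH : Nonempty (H ≃* alternatingGroup (Fin 5))) :
    ∃ g : GG, IsIcoThrough hF (MulAut.conj g • H) := by
  obtain ⟨e⟩ := hH
  haveI : Fact (Nat.Prime 5) := ⟨by norm_num⟩
  have h60 : Nat.card H = 60 := by
    rw [Nat.card_congr e.toEquiv, nat_card_alternatingGroup, Nat.card_fin]; rfl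
  obtain ⟨v, hv⟩ := exists_prime_orderOf_dvd_card' (G := H) 5 (by rw [h60]; norm_num)
  have hv' : orderOf (v : GG) = 5 := by rwa [Subgroup.orderOf_coe]
  have hfact : (Nat.card GG).factorization 5 = 1 := by
    rw [card_psl hF, Nat.factorization_def _ (by norm_num), show (660 : ℕ) = 5 * 132 by norm_num,
      padicValNat.mul (by norm_num) (by norm_num), padicValNat_self,
      padicValNat.eq_zero_of_not_dvd (by norm_num : ¬ 5 ∣ 132)]
  let P : Sylow 5 GG := Sylow.ofCard (Subgroup.zpowers (v : GG)) (by rw [Nat.card_zpowers, hv', hfact, pow_one])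
  let Q : Sylow 5 GG := Sylow.ofCard (Subgroup.zpowers (uElt hF))
    (by rw [Nat.card_zpowers, orderOf_uElt hF, hfact, pow_one])
  obtain ⟨g, hg⟩ := MulAction.exists_smul_eq GG P Q
  refine ⟨g, ⟨(Subgroup.equivSMul (MulAut.conj g) H).symm.trans e⟩, ?_⟩
  have hmem : uElt hF ∈ (MulAut.conj g • (P : Subgroup GG) : Subgroup GG) := by
    have h1 : ((g • P : Sylow 5 GG) : Subgroup GG) = (Q : Subgroup GG) := congrArg (fun S : Sylow 5 GG => (S : Subgroup GG)) hg
    show uElt hF ∈ ((g • P : Sylow 5 GG) : Subgroup GG)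
    rw [h1]
    exact Subgroup.mem_zpowers _
  exact Subgroup.pointwise_smul_le_pointwise_smul_iff.mpr
    (show (P : Subgroup GG) ≤ H from (Subgroup.zpowers_le).mpr v.2) hmem

theorem conj_eq_self (hF : Fintype.card F = 11) {H : Subgroup GG} (hH : IsIcoThrough hF H) {g : GG}
    (hgu : uElt hF ∈ MulAut.conj g • H) : MulAut.conj g • H = H := by
  obtain ⟨⟨e⟩, hu⟩ := hH
  haveI : Fact (Nat.Prime 5) := ⟨by norm_num⟩
  rw [Subgroup.mem_smul_pointwise_iff_exists] at hgu
  obtain ⟨v, hv, hgv⟩ := hgu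
  have hgv' : g * v * g⁻¹ = uElt hF := hgv
  have h60 : Nat.card H = 60 := by
    rw [Nat.card_congr e.toEquiv, nat_card_alternatingGroup, Nat.card_fin]; rfl
  have hfH : (Nat.card H).factorization 5 = 1 := by
    rw [h60, Nat.factorization_def _ (by norm_num), show (60 : ℕ) = 5 * 12 by norm_num,
      padicValNat.mul (by norm_num) (by norm_num), padicValNat_self,
      padicValNat.eq_zero_of_not_dvd (by norm_num : ¬ 5 ∣ 12)]
  have hv5 : orderOf v = 5 := by
    rw [← orderOf_uElt hF, ← hgv', show g * v * g⁻¹ = MulAut.conj g v from rfl,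
      MulEquiv.orderOf_eq]
  let P : Sylow 5 H := Sylow.ofCard (Subgroup.zpowers (⟨v, hv⟩ : H))
    (by rw [Nat.card_zpowers, ← Subgroup.orderOf_coe, hv5, hfH, pow_one])
  let Q : Sylow 5 H := Sylow.ofCard (Subgroup.zpowers (⟨uElt hF, hu⟩ : H))
    (by rw [Nat.card_zpowers, ← Subgroup.orderOf_coe, orderOf_uElt hF, hfH, pow_one])
  obtain ⟨h, hh⟩ := MulAction.exists_smul_eq H P Q
  have hmem : (h * ⟨v, hv⟩ * h⁻¹ : H) ∈ Subgroup.zpowers (⟨uElt hF, hu⟩ : H) := by
    have h1 : ((h • P : Sylow 5 H) : Subgroup H) = (Q : Subgroup H) := congrArg (fun S : Sylow 5 H => (S : Subgroup H)) hh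
    have h2 : (h * ⟨v, hv⟩ * h⁻¹ : H) ∈ ((h • P : Sylow 5 H) : Subgroup H) :=
      Subgroup.smul_mem_pointwise_smul _ (MulAut.conj h) _ (Subgroup.mem_zpowers _)
    rw [h1] at h2
    exact h2
  obtain ⟨j, hj⟩ := Subgroup.mem_zpowers_iff.mp hmem
  have hj' : uElt hF ^ j = (h : GG) * v * (h : GG)⁻¹ := by
    have := congrArg (Subtype.val) hj
    simpa using this
  have hw : (h : GG) * g⁻¹ ∈ H := by
    refine normalizer_le hF ⟨⟨e⟩, hu⟩ ?_
    refine ⟨⟨(j % 5).toNat, by omega⟩, ?_⟩
    have h5 : uElt hF ^ (j % 5).toNat = uElt hF ^ j := by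
      rw [← zpow_natCast, Int.toNat_of_nonneg (Int.emod_nonneg _ (by norm_num))]
      have := zpow_mod_orderOf (uElt hF) j
      rw [orderOf_uElt hF] at this
      exact_mod_cast this
    simp only
    rw [h5, hj', ← hgv']
    group
  have hg : g ∈ H := by
    have := mul_mem (inv_mem hw) h.2
    simpa using this
  exact Subgroup.conj_smul_eq_self_of_mem hg

theorem classes (hF : Fintype.card F = 11) :
    Nat.card {H : Subgroup GG // Nonempty (H ≃* alternatingGroup (Fin 5))} = 22 ∧
      ∃ H K : Subgroup GG, Nonempty (H ≃* alternatingGroup (Fin 5)) ∧ Nonempty (K ≃* alternatingGroup (Fin 5)) ∧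
        (∀ g : GG, MulAut.conj g • H ≠ K) ∧
        ∀ L : Subgroup GG, Nonempty (L ≃* alternatingGroup (Fin 5)) →
          ∃ g : GG, MulAut.conj g • L = H ∨ MulAut.conj g • L = K := by
  classical
  obtain ⟨H₀, -, hH₀⟩ := exists_icosahedral hF
  obtain ⟨g₀, hH⟩ := exists_conj_through hF hH₀
  set H := MulAut.conj g₀ • H₀ with hHdef
  haveI : IsCyclic Fˣ := inferInstance
  obtain ⟨ν, hν⟩ := IsCyclic.exists_generator (α := Fˣ)
  set K := H.map (diagConj ν) with hKdef
  have hK : IsIcoThrough hF K :=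
    ⟨⟨(Subgroup.equivMapOfInjective H _ (diagConj_injective ν)).symm.trans hH.1.some⟩,
      ⟨uElt hF, hH.2, diagConj_uElt hF ν⟩⟩
  have hne : H ≠ K := by
    intro hEq
    have h5 := zCount hF hH
    obtain ⟨b₀, hb₀⟩ : ∃ b, zElt b ∈ H := by
      by_contra hcon
      push Not at hcon
      haveI : IsEmpty {b : Fˣ // zElt b ∈ H} := ⟨fun b => hcon b.1 b.2⟩
      rw [Nat.card_of_isEmpty] at h5
      omega
    have hstep : ∀ b, zElt b ∈ H → zElt (ν * b) ∈ H := fun b hb => by
      have hmem : diagConj ν (zElt b) ∈ H.map (diagConj ν) := Subgroup.mem_map_of_mem _ hb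
      rw [← hKdef, ← hEq, diagConj_zElt] at hmem
      exact hmem
    have hall : ∀ b, zElt b ∈ H := by
      intro b
      obtain ⟨m, hm⟩ := (isOfFinOrder_of_finite ν).mem_powers_iff_mem_zpowers.mpr (hν (b * b₀⁻¹))
      have : ∀ i : ℕ, zElt (ν ^ i * b₀) ∈ H := by
        intro i
        induction i with
        | zero => simpa using hb₀
        | succ i ih => rw [pow_succ', mul_assoc]; exact hstep _ ih
      have h := this m
      simp only at hm
      rw [hm, inv_mul_cancel_right] at h
      exact h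
    rw [Nat.card_congr (Equiv.subtypeUnivEquiv hall), card_units hF] at h5
    omega
  have hnc : ∀ g : GG, MulAut.conj g • H ≠ K := fun g hg =>
    hne ((conj_eq_self hF hH (hg ▸ hK.2)).symm.trans hg)
  have hcover : ∀ L : Subgroup GG, Nonempty (L ≃* alternatingGroup (Fin 5)) →
      ∃ g : GG, MulAut.conj g • L = H ∨ MulAut.conj g • L = K := by
    intro L hL
    obtain ⟨g, hg⟩ := exists_conj_through hF hL
    exact ⟨g, two_of_three hF hH hK hg hne⟩
  refine ⟨?_, H, K, hH.1, hK.1, hnc, hcover⟩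
  -- count
  have hidx : ∀ {A : Subgroup GG}, IsIcoThrough hF A → A.index = 11 := by
    intro A hA
    have h60 : Nat.card A = 60 := by
      rw [Nat.card_congr hA.1.some.toEquiv, nat_card_alternatingGroup, Nat.card_fin]; rfl
    have := A.card_mul_index
    rw [h60, card_psl hF] at this
    omega
  have hnorm : ∀ {A : Subgroup GG}, IsIcoThrough hF A → ∀ g, MulAut.conj g • A = A → g ∈ A := by
    intro A hA g hg
    haveI := isSimple hF
    have hle : A ≤ Subgroup.normalizer (A : Set GG) := Subgroup.le_normalizer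
    have h1 := Subgroup.index_dvd_of_le hle
    rw [hidx hA] at h1
    rcases (Nat.dvd_prime (by norm_num)).mp h1 with h | h
    · exfalso
      have hn : A.Normal := Subgroup.normalizer_eq_top_iff.mp (Subgroup.index_eq_one.mp h)
      have hi := hidx hA
      rcases hn.eq_bot_or_eq_top with h' | h'
      · rw [h', Subgroup.index_bot, card_psl hF] at hi; omega
      · rw [h', Subgroup.index_top] at hi; omega
    · have hgN : g ∈ Subgroup.normalizer (A : Set GG) := by
        rw [Subgroup.mem_normalizer_iff]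
        intro x
        conv_rhs => rw [← hg]
        exact (Subgroup.smul_mem_pointwise_smul_iff (a := MulAut.conj g) (S := A) (x := x)).symm
      have : Subgroup.normalizer (A : Set GG) ≤ A := by
        have hmul := Subgroup.relIndex_mul_index hle
        rw [h, hidx hA] at hmul
        exact Subgroup.relIndex_eq_one.mp (by omega)
      exact this hgN
  let f : (GG ⧸ H) ⊕ (GG ⧸ K) → {L : Subgroup GG // Nonempty (L ≃* alternatingGroup (Fin 5))} :=
    Sum.elim
      (fun x => ⟨MulAut.conj x.out • H, ⟨(Subgroup.equivSMul _ H).symm.trans hH.1.some⟩⟩)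
      (fun x => ⟨MulAut.conj x.out • K, ⟨(Subgroup.equivSMul _ K).symm.trans hK.1.some⟩⟩)
  have hconj_eq : ∀ {A : Subgroup GG}, IsIcoThrough hF A → ∀ x y : GG ⧸ A,
      MulAut.conj x.out • A = MulAut.conj y.out • A → x = y := by
    intro A hA x y h
    rw [← QuotientGroup.out_eq' x, ← QuotientGroup.out_eq' y, QuotientGroup.eq]
    refine hnorm hA _ ?_
    rw [map_mul, mul_smul, ← h, ← mul_smul, ← map_mul, inv_mul_cancel, map_one, one_smul]
  have hmix : ∀ g g' : GG, MulAut.conj g • H ≠ MulAut.conj g' • K := fun g g' h => by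
    apply hnc (g'⁻¹ * g)
    rw [map_mul, mul_smul, h, ← mul_smul, ← map_mul, inv_mul_cancel, map_one, one_smul]
  have hf : Function.Bijective f := by
    constructor
    · rintro (x | x) (y | y) h
      · exact congrArg Sum.inl (hconj_eq hH x y (congrArg Subtype.val h))
      · exact absurd (congrArg Subtype.val h) (hmix _ _)
      · exact absurd (congrArg Subtype.val h).symm (hmix _ _)
      · exact congrArg Sum.inr (hconj_eq hK x y (congrArg Subtype.val h))
    · rintro ⟨L, hL⟩
      have hsm : ∀ (A : Subgroup GG) (g : GG), MulAut.conj g • L = A →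
          L = MulAut.conj (QuotientGroup.mk g⁻¹ : GG ⧸ A).out • A := by
        intro A g hg
        obtain ⟨a, ha⟩ := QuotientGroup.mk_out_eq_mul A g⁻¹
        rw [ha, map_mul, mul_smul, Subgroup.conj_smul_eq_self_of_mem a.2, ← hg, ← mul_smul, ← map_mul, inv_mul_cancel,
          map_one, one_smul]
      obtain ⟨g, hg | hg⟩ := hcover L hL
      · exact ⟨Sum.inl _, Subtype.ext (hsm H g hg).symm⟩
      · exact ⟨Sum.inr _, Subtype.ext (hsm K g hg).symm⟩
  rw [← Nat.card_congr (Equiv.ofBijective f hf), Nat.card_sum, ← Subgroup.index_eq_card, ← Subgroup.index_eq_card,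
    hidx hH, hidx hK]

end Cfsg.Agent.PSL211
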