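import Cfsg.Agent.Lib.GLSemisimple.PSL211

/-!
The two classes of icosahedral subgroups of `PSL₂(11)`.
-/

set_option autoImplicit false

namespace Cfsg.Agent.PSL211

open Matrix
open scoped MatrixGroups

theorem alt5_facts : ∀ u : alternatingGroup (Fin 5), u ^ 5 = 1 → u ≠ 1 →
    Fintype.card {z : alternatingGroup (Fin 5) // z ^ 2 = 1 ∧ z ≠ 1 ∧ (u * z) ^ 3 = 1} = 5 ∧
      Fintype.card {g : alternatingGroup (Fin 5) // ∃ k : Fin 5, g * u = u ^ (k : ℕ) * g} = 10 := by
  decide +kernel

section abstract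

variable {G : Type*} [Group G] [Finite G]

/-- The involutions `z` with `(uz)^3 = 1`. -/
def zSet (u : G) : Set G := {z | z ^ 2 = 1 ∧ z ≠ 1 ∧ (u * z) ^ 3 = 1}

theorem subgroup_counts {H : Subgroup G} (e : H ≃* alternatingGroup (Fin 5)) {u : G} (hu : orderOf u = 5)
    (huH : u ∈ H) :
    Nat.card {z : G // z ∈ zSet u ∧ z ∈ H} = 5 ∧
      Nat.card {g : G // (∃ k : Fin 5, g * u = u ^ (k : ℕ) * g) ∧ g ∈ H} = 10 := by
  have h1 : (e ⟨u, huH⟩) ^ 5 = 1 := by
    rw [← map_pow, show (⟨u, huH⟩ : H) ^ 5 = 1 from Subtype.ext (by simpa [← hu] using pow_orderOf_eq_one u), map_one]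
  have h2 : e ⟨u, huH⟩ ≠ 1 := by
    rw [ne_eq, MulEquiv.map_eq_one_iff]
    intro h
    have := congrArg Subtype.val h
    simp only [Subgroup.coe_one] at this
    rw [this, orderOf_one] at hu
    omega
  obtain ⟨ha, hb⟩ := alt5_facts _ h1 h2
  have aux : ∀ (P : G → Prop) (Q : alternatingGroup (Fin 5) → Prop), (∀ x : H, P x ↔ Q (e x)) →
      Nat.card {z : G // P z ∧ z ∈ H} = Nat.card {y // Q y} := fun P Q hPQ =>
    Nat.card_congr
      { toFun := fun z => ⟨e ⟨z.1, z.2.2⟩, (hPQ _).mp z.2.1⟩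
        invFun := fun y => ⟨(e.symm y.1 : H), (hPQ _).mpr (by rw [e.apply_symm_apply]; exact y.2), (e.symm y.1).2⟩
        left_inv := fun z => Subtype.ext (by simp)
        right_inv := fun y => Subtype.ext (by simp) }
  constructor
  · rw [aux (fun z => z ∈ zSet u) (fun y => y ^ 2 = 1 ∧ y ≠ 1 ∧ (e ⟨u, huH⟩ * y) ^ 3 = 1) (fun x => ?_),
      Nat.card_eq_fintype_card, ha]
    rw [← map_pow, ← map_mul, ← map_pow, ne_eq, MulEquiv.map_eq_one_iff, MulEquiv.map_eq_one_iff,
      MulEquiv.map_eq_one_iff]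
    simp only [zSet, Set.mem_setOf_eq, ne_eq, Subtype.ext_iff, SubmonoidClass.coe_pow, Subgroup.coe_mul, Subgroup.coe_one]
  · rw [aux (fun g => ∃ k : Fin 5, g * u = u ^ (k : ℕ) * g)
      (fun y => ∃ k : Fin 5, y * e ⟨u, huH⟩ = e ⟨u, huH⟩ ^ (k : ℕ) * y) (fun x => ?_),
      Nat.card_eq_fintype_card, hb]
    refine exists_congr fun k => ?_
    rw [← map_pow, ← map_mul, ← map_mul, e.injective.eq_iff, Subtype.ext_iff]
    simp

theorem eq_closure {H : Subgroup G} (e : H ≃* alternatingGroup (Fin 5)) {u z : G} (hu : orderOf u = 5)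
    (huH : u ∈ H) (hz : z ∈ zSet u) (hzH : z ∈ H) : H = Subgroup.closure {u, z} := by
  haveI : Fact (Nat.Prime 2) := ⟨Nat.prime_two⟩
  haveI : Fact (Nat.Prime 3) := ⟨Nat.prime_three⟩
  set K := Subgroup.closure ({u, z} : Set G) with hK
  have huK : u ∈ K := Subgroup.subset_closure (Set.mem_insert _ _)
  have hzK : z ∈ K := Subgroup.subset_closure (Set.mem_insert_of_mem _ rfl)
  have hle : K ≤ H := (Subgroup.closure_le H).mpr (Set.insert_subset huH (Set.singleton_subset_iff.mpr hzH))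
  have h2 : orderOf z = 2 := orderOf_eq_prime hz.1 hz.2.1
  have h3 : orderOf (u * z) = 3 := orderOf_eq_prime hz.2.2 fun h => by
    rw [mul_eq_one_iff_eq_inv] at h
    rw [h, orderOf_inv] at hu
    omega
  have hd : ∀ {x : G}, x ∈ K → orderOf x ∣ Nat.card K := fun hx => Subgroup.orderOf_dvd_natCard K hx
  have h30 : 30 ∣ Nat.card K := by
    have a := hd huK
    have b := hd hzK
    have c := hd (mul_mem huK hzK)
    rw [hu] at a; rw [h2] at b; rw [h3] at c
    exact Nat.Coprime.mul_dvd_of_dvd_of_dvd (by norm_num : Nat.Coprime 6 5)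
      (Nat.Coprime.mul_dvd_of_dvd_of_dvd (by norm_num : Nat.Coprime 2 3) b c) a
  have h60 : Nat.card H = 60 := by
    rw [Nat.card_congr e.toEquiv, nat_card_alternatingGroup, Nat.card_fin]; rfl
  have hmul := (K.subgroupOf H).card_mul_index
  rw [Nat.card_congr (Subgroup.subgroupOfEquivOfLe hle).toEquiv, h60] at hmul
  obtain ⟨c, hc⟩ := h30
  rw [hc] at hmul
  have hidx : (K.subgroupOf H).index ≤ 2 := by
    have hc0 : 0 < c := by
      rcases Nat.eq_zero_or_pos c with h | h
      · subst h; simp at hmul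
      · exact h
    have : 30 * (K.subgroupOf H).index ≤ 30 * 2 := by
      calc 30 * (K.subgroupOf H).index ≤ 30 * (c * (K.subgroupOf H).index) :=
            Nat.mul_le_mul_left _ (Nat.le_mul_of_pos_left _ hc0)
        _ = 30 * 2 := by rw [← mul_assoc]; exact hmul
    omega
  haveI : IsSimpleGroup (alternatingGroup (Fin 5)) := alternatingGroup.isSimpleGroup_five
  haveI : IsSimpleGroup H := e.isSimpleGroup
  have hn : (K.subgroupOf H).Normal := by
    have h0 : (K.subgroupOf H).index ≠ 0 := Subgroup.index_ne_zero_of_finite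
    rcases (show (K.subgroupOf H).index = 1 ∨ (K.subgroupOf H).index = 2 by omega) with h | h
    · rw [Subgroup.index_eq_one.mp h]; infer_instance
    · exact Subgroup.normal_of_index_eq_two h
  rcases hn.eq_bot_or_eq_top with h | h
  · exfalso
    have hmem : (⟨u, huH⟩ : H) ∈ K.subgroupOf H := huK
    rw [h, Subgroup.mem_bot] at hmem
    have := congrArg Subtype.val hmem
    simp only [Subgroup.coe_one] at this
    rw [this, orderOf_one] at hu
    omega
  · exact le_antisymm (Subgroup.subgroupOf_eq_top.mp h) hle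

end abstract

variable {F : Type*} [Field F] [Fintype F]

/-- Lift of the reference element of order five. -/
noncomputable def uMat (hF : Fintype.card F = 11) : SL(2, F) :=
  ⟨!![3, 0; 0, 4], by
    have h11 : ((11 : ℕ) : F) = 0 := hF ▸ FiniteField.cast_card_eq_zero F
    rw [Matrix.det_fin_two_of]
    push_cast at h11
    linear_combination h11⟩

/-- The reference element of order five. -/
noncomputable def uElt (hF : Fintype.card F = 11) : Matrix.ProjectiveSpecialLinearGroup (Fin 2) F :=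
  QuotientGroup.mk (uMat hF)

/-- The candidate involutions. -/
noncomputable def zMat (b : Fˣ) : SL(2, F) :=
  ⟨!![1, (b : F); -2 * ((b⁻¹ : Fˣ) : F), -1], by
    rw [Matrix.det_fin_two_of]
    have : (b : F) * ((b⁻¹ : Fˣ) : F) = 1 := b.mul_inv
    linear_combination 2 * this⟩

/-- The candidate involutions in `PSL`. -/
noncomputable def zElt (b : Fˣ) : Matrix.ProjectiveSpecialLinearGroup (Fin 2) F := QuotientGroup.mk (zMat b)

omit [Fintype F] in
theorem mk_eq_mk_iff {x y : SL(2, F)} :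
    (QuotientGroup.mk x : Matrix.ProjectiveSpecialLinearGroup (Fin 2) F) = QuotientGroup.mk y ↔ y = x ∨ y = -x := by
  rw [QuotientGroup.eq, Matrix.SpecialLinearGroup.mem_center_iff]
  constructor
  · rintro ⟨r, hr, hr2⟩
    rw [Fintype.card_fin] at hr
    rcases sq_eq_one_iff.mp hr with h | h
    · left
      subst h
      have : x⁻¹ * y = 1 := Subtype.ext (by rw [← hr2]; simp)
      exact (inv_mul_eq_one.mp this).symm
    · right
      subst h
      have : x⁻¹ * y = -1 := Subtype.ext (by rw [← hr2, map_neg, map_one]; rfl)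
      rw [inv_mul_eq_iff_eq_mul.mp this, mul_neg, mul_one]
  · rintro (rfl | rfl)
    · exact ⟨1, one_pow _, by simp⟩
    · exact ⟨-1, by simp, by rw [map_neg, map_one, mul_neg, inv_mul_cancel]; rfl⟩

omit [Fintype F] in
theorem mk_eq_one_iff {x : SL(2, F)} :
    (QuotientGroup.mk x : Matrix.ProjectiveSpecialLinearGroup (Fin 2) F) = 1 ↔ x = 1 ∨ x = -1 := by
  rw [← QuotientGroup.mk_one, eq_comm, mk_eq_mk_iff]

theorem four_facts (hF : Fintype.card F = 11) :
    (2 : F) ≠ 0 ∧ (3 : F) ≠ 0 ∧ (5 : F) ≠ 0 ∧ ((11 : F) = 0) := by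
  refine ⟨?_, ?_, ?_, ?_⟩
  · exact_mod_cast natCast_ne_zero_of_card hF (m := 2) (by norm_num)
  · exact_mod_cast natCast_ne_zero_of_card hF (m := 3) (by norm_num)
  · exact_mod_cast natCast_ne_zero_of_card hF (m := 5) (by norm_num)
  · have h11 : ((11 : ℕ) : F) = 0 := hF ▸ FiniteField.cast_card_eq_zero F
    exact_mod_cast h11

theorem orderOf_uElt (hF : Fintype.card F = 11) : orderOf (uElt hF) = 5 := by
  obtain ⟨h2, h3, h5, h11⟩ := four_facts hF
  haveI : Fact (Nat.Prime 5) := ⟨by norm_num⟩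
  refine orderOf_eq_prime ?_ ?_
  · rw [uElt, ← QuotientGroup.mk_pow, mk_eq_one_iff]
    left
    apply Subtype.ext
    rw [Matrix.SpecialLinearGroup.coe_pow, Matrix.SpecialLinearGroup.coe_one, uMat]
    show !![(3 : F), 0; 0, 4] ^ 5 = 1
    simp [pow_succ, Matrix.mul_fin_two, Matrix.one_fin_two]
    constructor
    · linear_combination (22 : F) * h11
    · linear_combination (93 : F) * h11
  · rw [uElt, ne_eq, mk_eq_one_iff]
    rintro (h | h)
    · have := congrArg (fun m : SL(2, F) => (m : Matrix (Fin 2) (Fin 2) F) 0 0) h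
      simp [uMat] at this
      exact h2 (by linear_combination this)
    · have := congrArg (fun m : SL(2, F) => (m : Matrix (Fin 2) (Fin 2) F) 0 0) h
      simp [uMat] at this
      exact h2 (mul_left_cancel₀ h2 (by linear_combination this))

theorem zSet_subset (hF : Fintype.card F = 11) :
    zSet (uElt hF) ⊆ Set.range (zElt (F := F)) := by
  obtain ⟨h2, h3, h5, h11⟩ := four_facts hF
  rintro z ⟨hz2, hz1, hz3⟩
  obtain ⟨Z, rfl⟩ := QuotientGroup.mk_surjective z
  rw [ne_eq, mk_eq_one_iff] at hz1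
  rw [← QuotientGroup.mk_pow, mk_eq_one_iff] at hz2
  rw [uElt, ← QuotientGroup.mk_mul, ← QuotientGroup.mk_pow, mk_eq_one_iff] at hz3
  have hdet : Z.1 0 0 * Z.1 1 1 - Z.1 0 1 * Z.1 1 0 = 1 := by
    rw [← Matrix.det_fin_two]; exact Z.2
  have heta : ∀ (a b : F), (Z.1 0 1 = 0 ∧ Z.1 1 0 = 0 ∧ Z.1 0 0 = a ∧ Z.1 1 1 = b) → a = b → a ^ 2 = 1 := by
    rintro a b ⟨e1, e2, e3, e4⟩ rfl
    rw [e1, e2, e3, e4] at hdet
    linear_combination hdet
  -- the trace vanishes
  have htr : Z.1 1 1 = - Z.1 0 0 := by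
    rw [eq_neg_iff_add_eq_zero]
    by_contra hs
    apply hz1
    obtain ⟨ε, hε, e00, e01, e10, e11⟩ : ∃ ε : F, (ε = 1 ∨ ε = -1) ∧
        Z.1 0 0 * Z.1 0 0 + Z.1 0 1 * Z.1 1 0 = ε ∧ Z.1 0 0 * Z.1 0 1 + Z.1 0 1 * Z.1 1 1 = 0 ∧
        Z.1 1 0 * Z.1 0 0 + Z.1 1 1 * Z.1 1 0 = 0 ∧ Z.1 1 0 * Z.1 0 1 + Z.1 1 1 * Z.1 1 1 = ε := by
      rcases hz2 with h | h <;>
      · have hh := congrArg (fun m : SL(2, F) => (m : Matrix (Fin 2) (Fin 2) F)) h
        simp only [sq, Matrix.SpecialLinearGroup.coe_mul, Matrix.SpecialLinearGroup.coe_neg,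
          Matrix.SpecialLinearGroup.coe_one] at hh
        have a := congrFun (congrFun hh 0) 0
        have b := congrFun (congrFun hh 0) 1
        have c := congrFun (congrFun hh 1) 0
        have d := congrFun (congrFun hh 1) 1
        simp [Matrix.mul_apply, Fin.sum_univ_two] at a b c d
        exact ⟨_, by simp, a, b, c, d⟩
    have hb : Z.1 0 1 = 0 := (mul_eq_zero.mp (show (Z.1 1 1 + Z.1 0 0) * Z.1 0 1 = 0 by linear_combination e01)).resolve_left hs
    have hc : Z.1 1 0 = 0 := (mul_eq_zero.mp (show (Z.1 1 1 + Z.1 0 0) * Z.1 1 0 = 0 by linear_combination e10)).resolve_left hs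
    have hd : Z.1 0 0 = Z.1 1 1 := sub_eq_zero.mp ((mul_eq_zero.mp (show (Z.1 1 1 + Z.1 0 0) * (Z.1 0 0 - Z.1 1 1) = 0 by
      linear_combination e00 - e11)).resolve_left hs)
    rcases sq_eq_one_iff.mp (heta _ _ ⟨hb, hc, rfl, rfl⟩ hd) with h | h
    · left
      apply Subtype.ext
      ext i j
      fin_cases i <;> fin_cases j <;> simp [hb, hc, ← hd, h]
    · right
      apply Subtype.ext
      ext i j
      fin_cases i <;> fin_cases j <;> simp [hb, hc, ← hd, h]
  -- the trace of `uz`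
  set a := Z.1 0 0 with ha
  set b := Z.1 0 1 with hb
  set c := Z.1 1 0 with hc
  rw [htr] at hdet
  have ha2 : a ^ 2 = 1 := by
    by_contra hne
    set W : SL(2, F) := uMat hF * Z with hWdef
    have hW : (W : Matrix (Fin 2) (Fin 2) F) = !![3 * a, 3 * b; 4 * c, -(4 * a)] := by
      rw [hWdef, Matrix.SpecialLinearGroup.coe_mul, uMat]
      ext i j
      fin_cases i <;> fin_cases j <;> simp [Matrix.mul_apply, Fin.sum_univ_two, ha, hb, hc, htr]
    have hsq := Dickson.sl_sq W
    have ht : Dickson.str W = -a := by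
      show Matrix.trace (W : Matrix (Fin 2) (Fin 2) F) = _
      rw [hW, Matrix.trace_fin_two_of]
      ring
    rw [ht] at hsq
    have hcube : ((W ^ 3 : SL(2, F)) : Matrix (Fin 2) (Fin 2) F) =
        (a ^ 2 - 1) • (W : Matrix (Fin 2) (Fin 2) F) + a • 1 := by
      rw [Matrix.SpecialLinearGroup.coe_pow, pow_succ, sq, hsq, sub_mul, smul_mul_assoc, hsq, one_mul]
      module
    obtain ⟨ε, e01, e10, e00, e11⟩ : ∃ ε : F,
        (a ^ 2 - 1) * (3 * b) = 0 ∧ (a ^ 2 - 1) * (4 * c) = 0 ∧ (a ^ 2 - 1) * (3 * a) + a = ε ∧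
        (a ^ 2 - 1) * (-(4 * a)) + a = ε := by
      rcases hz3 with h | h <;>
      · rw [h, hW] at hcube
        have p := congrFun (congrFun hcube 0) 0
        have q := congrFun (congrFun hcube 0) 1
        have r := congrFun (congrFun hcube 1) 0
        have s := congrFun (congrFun hcube 1) 1
        simp at p q r s
        refine ⟨_, ?_, ?_, p.symm, ?_⟩
        · simpa using q
        · simpa using r
        · linear_combination -s
    have h12 : (a ^ 2 - 1) ≠ 0 := fun h => hne (sub_eq_zero.mp h)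
    have hb0 : b = 0 := (mul_eq_zero.mp ((mul_eq_zero.mp e01).resolve_left h12)).resolve_left h3
    have h4 : (4 : F) ≠ 0 := by
      intro h; exact h2 (mul_left_cancel₀ h2 (by linear_combination h))
    have hc0 : c = 0 := (mul_eq_zero.mp ((mul_eq_zero.mp e10).resolve_left h12)).resolve_left h4
    have h7a : (a ^ 2 - 1) * (7 * a) = 0 := by linear_combination e00 - e11
    have h7 : (7 : F) ≠ 0 := by exact_mod_cast natCast_ne_zero_of_card hF (m := 7) (by norm_num)
    have ha0 : a = 0 := (mul_eq_zero.mp ((mul_eq_zero.mp h7a).resolve_left h12)).resolve_left h7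
    rw [hb0, hc0, ha0] at hdet
    exact one_ne_zero (by linear_combination -hdet)
  have hbne : b ≠ 0 := by
    intro h
    rw [h] at hdet
    exact h2 (by linear_combination -hdet - ha2)
  have hbc : b * c = -2 := by linear_combination -hdet - ha2
  refine ⟨Units.mk0 (b * a) (mul_ne_zero hbne fun h => by rw [h] at ha2; simp at ha2), ?_⟩
  rw [zElt, mk_eq_mk_iff]
  rcases sq_eq_one_iff.mp ha2 with h | h
  · left
    apply Subtype.ext
    ext i j
    fin_cases i <;> fin_cases j <;> simp [zMat, ← ha, ← hb, ← hc, htr, h]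
    field_simp
    linear_combination hbc
  · right
    refine neg_eq_iff_eq_neg.mp ?_
    apply Subtype.ext
    ext i j
    fin_cases i <;> fin_cases j <;> simp [zMat, Matrix.SpecialLinearGroup.coe_neg, Matrix.neg_apply, ← ha, ← hb, ← hc, htr, h]
    field_simp
    linear_combination -hbc

end Cfsg.Agent.PSL211
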