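import Cfsg.Agent.Lib.GLSemisimple.Classes

/-!
Counting classes of elements of a given prime order, prime to the characteristic, in `GL_n`.
-/

set_option autoImplicit false

namespace Cfsg.Agent.GLSemi

open Polynomial UniqueFactorizationMonoid

variable {F : Type*} [Field F]

/-- Bijection between `Sym (Option S) m` and monic polynomials of degree `n` built from `L` and the members of
`S`, all of degree `i`. -/
theorem card_admPoly_of_factors [DecidableEq F] (n N i : ℕ) (hi : 0 < i) (L : F[X]) (hL : L.Monic) (hLi : Irreducible L)
    (hL1 : L.natDegree = 1) (S : Finset F[X]) (hS : ∀ f ∈ S, f.Monic ∧ Irreducible f ∧ f.natDegree = i ∧ f ≠ L)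
    (hfac : ∀ f : F[X], f.Monic → Irreducible f → (f ∣ X ^ N - 1 ↔ f = L ∨ f ∈ S)) :
    Nat.card ↥(AdmPoly F n N) = Nat.choose (n / i + S.card) S.card := by
  classical
  set m := n / i with hm
  let g : Option ↥S → F[X] := fun o => o.elim (L ^ i) (fun f => f.1)
  let b : Sym (Option ↥S) m → F[X] := fun s => L ^ (n % i) * ((s : Multiset (Option ↥S)).map g).prod
  -- the multiset of factors
  let fm : Option ↥S → Multiset F[X] := fun o => o.elim (Multiset.replicate i L) (fun f => {f.1})
  let M : Sym (Option ↥S) m → Multiset F[X] := fun s =>
    Multiset.replicate (n % i) L + (s : Multiset (Option ↥S)).bind fm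
  have hM_irr : ∀ s, ∀ f ∈ M s, f.Monic ∧ Irreducible f ∧ (f = L ∨ f ∈ S) := by
    intro s f hf
    rcases Multiset.mem_add.mp hf with h | h
    · obtain rfl := Multiset.eq_of_mem_replicate h
      exact ⟨hL, hLi, Or.inl rfl⟩
    · obtain ⟨o, -, ho⟩ := Multiset.mem_bind.mp h
      rcases o with _ | ⟨x, hx⟩
      · obtain rfl := Multiset.eq_of_mem_replicate ho
        exact ⟨hL, hLi, Or.inl rfl⟩
      · rw [Multiset.mem_singleton.mp ho]
        exact ⟨(hS x hx).1, (hS x hx).2.1, Or.inr hx⟩
  have hb : ∀ s, b s = (M s).prod := by
    intro s
    simp only [b, M, Multiset.prod_add, Multiset.prod_replicate, Multiset.prod_bind]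
    congr 2
    refine Multiset.map_congr rfl fun o _ => ?_
    rcases o with _ | x <;> simp [g, fm]
  have hnf : ∀ s, normalizedFactors (b s) = M s := by
    intro s
    rw [hb, normalizedFactors_prod_eq _ fun f hf => (hM_irr s f hf).2.1]
    conv_rhs => rw [← Multiset.map_id (M s)]
    exact Multiset.map_congr rfl fun f hf => (hM_irr s f hf).1.normalize_eq_self
  have hmon : ∀ s, (b s).Monic := by
    intro s
    rw [hb]
    have h := monic_multiset_prod_of_monic (M s) id fun f hf => (hM_irr s f hf).1
    rwa [Multiset.map_id] at h
  have hgd : ∀ o, (g o).natDegree = i ∧ (g o).Monic := by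
    intro o
    rcases o with _ | x
    · exact ⟨by simp [g, natDegree_pow, hL1], hL.pow i⟩
    · exact ⟨(hS x.1 x.2).2.2.1, (hS x.1 x.2).1⟩
  have hdeg : ∀ s, (b s).natDegree = n := by
    intro s
    have hp : ((s : Multiset (Option ↥S)).map g).prod.Monic := monic_multiset_prod_of_monic _ _ fun o _ => (hgd o).2
    rw [show b s = L ^ (n % i) * ((s : Multiset (Option ↥S)).map g).prod from rfl,
      (hL.pow _).natDegree_mul hp, natDegree_pow, hL1, natDegree_multiset_prod_of_monic]
    · rw [Multiset.map_map, show (Polynomial.natDegree ∘ g) = fun _ => i from funext fun o => (hgd o).1,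
        Multiset.map_const', Multiset.sum_replicate, Sym.card_coe, smul_eq_mul, mul_one, hm]
      exact Nat.mod_add_div' n i
    · intro f hf
      obtain ⟨o, -, rfl⟩ := Multiset.mem_map.mp hf
      exact (hgd o).2
  have hinj : Function.Injective b := by
    intro s s' h
    apply Sym.coe_injective
    have hc : ∀ x : ↥S, (s : Multiset (Option ↥S)).count (some x) = (s' : Multiset (Option ↥S)).count (some x) := by
      intro x
      have key : ∀ s : Sym (Option ↥S) m, (M s).count x.1 = (s : Multiset (Option ↥S)).count (some x) := by
        intro s
        have hne : (L : F[X]) ≠ x.1 := fun h => (hS x.1 x.2).2.2.2 h.symm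
        simp only [M, Multiset.count_add, Multiset.count_bind]
        rw [Multiset.count_replicate, if_neg hne, zero_add]
        induction (s : Multiset (Option ↥S)) using Multiset.induction_on with
        | empty => simp
        | cons o t ih =>
          rw [Multiset.map_cons, Multiset.sum_cons, ih, Multiset.count_cons]
          rcases o with _ | y
          · simp [fm, Multiset.count_replicate, hne]
          · by_cases hxy : x = y
            · subst hxy; simp [fm]; ring
            · simp [fm, Multiset.count_singleton, hxy, fun h => hxy (Subtype.ext h)]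
      rw [← key s, ← key s', ← hnf, ← hnf, h]
    ext o
    rcases o with _ | x
    · have h1 : (Finset.univ.sum fun o => (s : Multiset (Option ↥S)).count o) = m :=
        (Multiset.sum_count_eq_card (fun a _ => Finset.mem_univ a)).trans Sym.card_coe
      have h2 : (Finset.univ.sum fun o => (s' : Multiset (Option ↥S)).count o) = m :=
        (Multiset.sum_count_eq_card (fun a _ => Finset.mem_univ a)).trans Sym.card_coe
      rw [Fintype.sum_option] at h1 h2
      rw [Finset.sum_congr rfl fun x _ => hc x] at h1
      omega
    · exact hc x
  have himg : Set.range b = AdmPoly F n N := by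
    ext P
    constructor
    · rintro ⟨s, rfl⟩
      refine ⟨hmon s, hdeg s, fun f hf hfd => ?_⟩
      obtain ⟨f', hf', hass⟩ := exists_mem_normalizedFactors_of_dvd (hmon s).ne_zero hf hfd
      rw [hnf] at hf'
      obtain ⟨h1, h2, h3⟩ := hM_irr s f' hf'
      exact hass.dvd.trans ((hfac f' h1 h2).mpr h3)
    · rintro ⟨hP, hPd, hall⟩
      let A := normalizedFactors P
      have hA : ∀ f ∈ A, f = L ∨ f ∈ S := fun f hf =>
        (hfac f (Polynomial.monic_normalize (prime_of_normalized_factor f hf).ne_zero |>
          fun h => by rwa [normalize_normalized_factor f hf] at h)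
          (irreducible_of_normalized_factor f hf)).mp
          (hall f (irreducible_of_normalized_factor f hf) (dvd_of_mem_normalizedFactors hf))
      have hprod : A.prod = P := by
        have h1 : A.prod.Monic := by
          have := monic_multiset_prod_of_monic A id fun f hf => by
            rcases hA f hf with rfl | h
            exacts [hL, (hS f h).1]
          rwa [Multiset.map_id] at this
        exact eq_of_monic_of_associated h1 hP (prod_normalizedFactors hP.ne_zero)
      let B := A.filter (fun f => f ∈ S)
      let C := A.filter (fun f => ¬ f ∈ S)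
      have hBC : B + C = A := Multiset.filter_add_not _ A
      have hC : C = Multiset.replicate C.card L := Multiset.eq_replicate_card.mpr fun f hf => by
        obtain ⟨h1, h2⟩ := Multiset.mem_filter.mp hf
        exact (hA f h1).resolve_right h2
      have hsum : i * B.card + C.card = n := by
        rw [← hPd, ← hprod, natDegree_multiset_prod_of_monic]
        · rw [← hBC, Multiset.map_add, Multiset.sum_add]
          conv_rhs => rw [hC, Multiset.map_replicate, hL1, Multiset.sum_replicate, smul_eq_mul, mul_one]
          rw [Multiset.map_congr rfl fun f hf => (hS f (Multiset.mem_filter.mp hf).2).2.2.1,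
            Multiset.map_const', Multiset.sum_replicate, smul_eq_mul, mul_comm]
        · intro f hf
          rcases hA f hf with rfl | h
          exacts [hL, (hS f h).1]
      have hle : B.card ≤ m := by
        rw [hm, Nat.le_div_iff_mul_le hi, mul_comm]; omega
      let T : Multiset ↥S := B.attach.map fun f => ⟨f.1, (Multiset.mem_filter.mp f.2).2⟩
      have hT : T.card = B.card := by simp [T]
      let s : Sym (Option ↥S) m := ⟨T.map some + Multiset.replicate (m - B.card) none, by
        rw [Multiset.card_add, Multiset.card_map, hT, Multiset.card_replicate]; omega⟩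
      refine ⟨s, ?_⟩
      rw [hb, ← hprod, ← hBC]
      simp only [M, s, Sym.coe_mk, Multiset.add_bind, Multiset.prod_add, Multiset.prod_bind, Multiset.map_map,
        Multiset.map_replicate, Multiset.prod_replicate]
      rw [hC, Multiset.prod_replicate]
      have hBprod : (T.map (fun x => (fm (some x)).prod)).prod = B.prod := by
        simp [fm, T, Multiset.map_map, Function.comp_def]
      have hexp : n % i + i * (m - B.card) = C.card := by
        have := Nat.mod_add_div n i
        rw [← hm] at this
        have h2 : i * (m - B.card) = i * m - i * B.card := Nat.mul_sub _ _ _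
        have h3 : i * B.card ≤ i * m := Nat.mul_le_mul_left i hle
        omega
      show L ^ (n % i) * ((T.map fun x => (fm (some x)).prod).prod * (fm none).prod ^ (m - B.card)) = _
      rw [hBprod]
      simp only [fm, Option.elim_none, Multiset.prod_replicate]
      rw [← pow_mul, mul_left_comm, ← pow_add, hexp]
  rw [← himg, Nat.card_range_of_injective hinj, Nat.card_eq_fintype_card, Sym.card_sym_eq_multichoose,
    Fintype.card_option, Fintype.card_coe, Nat.multichoose_eq]
  rw [Nat.add_right_comm, Nat.add_sub_cancel, Nat.add_comm S.card m, Nat.choose_symm_add]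

end Cfsg.Agent.GLSemi
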