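import Mathlib

/-!
Bounding the number of tuples `(a_1, …, a_K)` of monic polynomials with nonzero constant terms and
`∑ i · deg a_i = n` by `q^n`.
-/

set_option autoImplicit false

namespace Cfsg.Agent.GLSemi

open Polynomial

variable (F : Type*) [Field F]

/-- Tuples of monic polynomials with nonzero constant term and weighted degree `n`. -/
def TupSet (K n : ℕ) : Set (Fin K → F[X]) :=
  {t | (∀ i, (t i).Monic ∧ (t i).coeff 0 ≠ 0) ∧ ∑ i : Fin K, ((i : ℕ) + 1) * (t i).natDegree = n}

/-- The tuples whose last entry is not constant. -/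
def TopSet (K n : ℕ) : Set (F[X] × (Fin K → F[X])) :=
  {z | z.1.Monic ∧ z.1.coeff 0 ≠ 0 ∧ 1 ≤ z.1.natDegree ∧ (∀ i, (z.2 i).Monic ∧ (z.2 i).coeff 0 ≠ 0) ∧
    (K + 1) * z.1.natDegree + ∑ i : Fin K, ((i : ℕ) + 1) * (z.2 i).natDegree = n}

variable {F}

/-- Removing the linear coefficient. -/
noncomputable def dropOne (P : F[X]) : F[X] := X * P.divX.divX + C (P.coeff 0)

theorem coeff_dropOne_zero (P : F[X]) : (dropOne P).coeff 0 = P.coeff 0 := by simp [dropOne]

theorem coeff_dropOne_succ (P : F[X]) (i : ℕ) : (dropOne P).coeff (i + 1) = P.coeff (i + 2) := by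
  simp [dropOne, coeff_X_mul, coeff_divX, coeff_C]

theorem dropOne_spec {P : F[X]} (hP : P.Monic) {d : ℕ} (hd : P.natDegree = d + 2) :
    (dropOne P).Monic ∧ (dropOne P).natDegree = d + 1 := by
  have h1 : (dropOne P).coeff (d + 1) = 1 := by
    rw [coeff_dropOne_succ, ← hd]; exact hP.coeff_natDegree
  have h2 : (dropOne P).natDegree ≤ d + 1 := by
    rw [natDegree_le_iff_coeff_eq_zero]
    intro m hm
    obtain ⟨i, rfl⟩ := Nat.exists_eq_succ_of_ne_zero (show m ≠ 0 by omega)
    rw [Nat.succ_eq_add_one, coeff_dropOne_succ]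
    exact coeff_eq_zero_of_natDegree_lt (by omega)
  have h3 : (dropOne P).natDegree = d + 1 :=
    le_antisymm h2 (le_natDegree_of_ne_zero (by rw [h1]; exact one_ne_zero))
  refine ⟨?_, h3⟩
  rw [Monic, leadingCoeff, h3, h1]

theorem top_step {K n m : ℕ} (hn : n = K + 1 + m) :
    ∀ z : TopSet F K n,
      (∃ x : Fˣ × TupSet F K m, z.1.1 = X + C (x.1 : F) ∧ z.1.2 = x.2.1) ∨
        ∃ x : F × TopSet F K m, z.1.1.coeff 1 = x.1 ∧ x.2.1 = (dropOne z.1.1, z.1.2) := by
  rintro ⟨⟨P, t⟩, hP, h0, hd, ht, hs⟩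
  rcases Nat.lt_or_ge P.natDegree 2 with h | h
  · have hd1 : P.natDegree = 1 := by simp only at hd; omega
    refine Or.inl ⟨(Units.mk0 _ h0, ⟨t, ht, ?_⟩), ?_, rfl⟩
    · simp only at hs
      rw [hd1] at hs
      omega
    · have := hP.eq_X_add_C hd1
      exact this
  · obtain ⟨d, hd2⟩ : ∃ d, P.natDegree = d + 2 := ⟨P.natDegree - 2, by omega⟩
    obtain ⟨hm, hdeg⟩ := dropOne_spec hP hd2
    refine Or.inr ⟨(P.coeff 1, ⟨(dropOne P, t), hm, ?_, ?_, ht, ?_⟩), rfl, rfl⟩
    · simp only
      rw [coeff_dropOne_zero]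
      exact h0
    · exact (Nat.succ_pos d).trans_eq hdeg.symm
    · simp only at hs ⊢
      rw [hd2] at hs
      rw [hdeg, mul_add, mul_one]
      rw [show d + 2 = (d + 1) + 1 from rfl, mul_add, mul_add, mul_one] at hs
      omega

theorem exists_top_injection {K n m : ℕ} (hn : n = K + 1 + m) :
    ∃ f : TopSet F K n → (Fˣ × TupSet F K m) ⊕ (F × TopSet F K m), Function.Injective f := by
  classical
  refine ⟨fun z => if h : ∃ x : Fˣ × TupSet F K m, z.1.1 = X + C (x.1 : F) ∧ z.1.2 = x.2.1 then Sum.inl h.choose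
    else Sum.inr ((top_step hn z).resolve_left h).choose, ?_⟩
  intro z w hzw
  dsimp only at hzw
  split_ifs at hzw with h1 h2 h2
  · have a := h1.choose_spec
    have b := h2.choose_spec
    rw [Sum.inl.inj hzw] at a
    exact Subtype.ext (Prod.ext (a.1.trans b.1.symm) (a.2.trans b.2.symm))
  · have a := ((top_step hn z).resolve_left h1).choose_spec
    have b := ((top_step hn w).resolve_left h2).choose_spec
    rw [Sum.inr.inj hzw] at a
    have hc := a.1.trans b.1.symm
    have hd : (dropOne z.1.1, z.1.2) = (dropOne w.1.1, w.1.2) := a.2.symm.trans b.2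
    obtain ⟨hd1, hd2⟩ := Prod.mk.inj hd
    refine Subtype.ext (Prod.ext (Polynomial.ext fun i => ?_) hd2)
    rcases i with _ | _ | i
    · rw [← coeff_dropOne_zero, hd1, coeff_dropOne_zero]
    · exact hc
    · rw [← coeff_dropOne_succ, hd1, coeff_dropOne_succ]

variable [Fintype F]

theorem top_bound (K : ℕ)
    (hT : ∀ m, Finite (TupSet F K m) ∧
      (0 < m → Fintype.card F ^ K * Nat.card (TupSet F K m) + Fintype.card F ^ m ≤ Fintype.card F ^ (K + m)) ∧
      (m = 0 → Nat.card (TupSet F K m) ≤ 1)) :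
    ∀ n, Finite (TopSet F K n) ∧
      Fintype.card F ^ (K + 1) * Nat.card (TopSet F K n) ≤ (Fintype.card F - 1) * Fintype.card F ^ n := by
  classical
  set q := Fintype.card F with hq
  have hq1 : 1 ≤ q := Fintype.card_pos
  intro n
  induction' n using Nat.strong_induction_on with n ih
  rcases Nat.lt_or_ge n (K + 1) with h | h
  · haveI : IsEmpty (TopSet F K n) := ⟨fun ⟨z, _, _, hd, _, hs⟩ => by
      have := Nat.le_mul_of_pos_right (K + 1) hd
      omega⟩
    exact ⟨inferInstance, by rw [Nat.card_of_isEmpty, mul_zero]; exact Nat.zero_le _⟩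
  obtain ⟨m, rfl⟩ := Nat.exists_eq_add_of_le h
  obtain ⟨hTf, hTb, hT0⟩ := hT m
  obtain ⟨hDf, hD⟩ := ih m (by omega)
  obtain ⟨f, hf⟩ := exists_top_injection (F := F) (K := K) (n := K + 1 + m) (m := m) rfl
  refine ⟨Finite.of_injective f hf, ?_⟩
  have hle := Nat.card_le_card_of_injective f hf
  rw [Nat.card_sum, Nat.card_prod, Nat.card_prod, Nat.card_units, Nat.card_eq_fintype_card (α := F), ← hq] at hle
  set T := Nat.card (TupSet F K m) with hTdef
  set D := Nat.card (TopSet F K m) with hDdef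
  obtain ⟨e, he⟩ : ∃ e, q = e + 1 := ⟨q - 1, by omega⟩
  rw [he] at hle hD hTb ⊢
  rw [Nat.add_sub_cancel] at hle hD ⊢
  have hmain : (e + 1) ^ (K + 1) * (e * T + (e + 1) * D) ≤ e * (e + 1) ^ (K + 1 + m) := by
    rcases Nat.eq_zero_or_pos m with rfl | hm
    · have hT1 : T ≤ 1 := hT0 rfl
      have hD0 : D = 0 := by
        haveI : IsEmpty (TopSet F K 0) := ⟨fun ⟨z, _, _, hd, _, hs⟩ => by
          have := Nat.le_mul_of_pos_right (K + 1) hd
          omega⟩
        exact Nat.card_of_isEmpty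
      rw [hD0, mul_zero, add_zero, add_zero, mul_comm e ((e + 1) ^ (K + 1))]
      exact Nat.mul_le_mul_left _ (((Nat.mul_le_mul_left e hT1).trans (mul_one e).le))
    · have h1 := hTb hm
      calc (e + 1) ^ (K + 1) * (e * T + (e + 1) * D)
          = e * (e + 1) * ((e + 1) ^ K * T) + (e + 1) * ((e + 1) ^ (K + 1) * D) := by ring
        _ ≤ e * (e + 1) * ((e + 1) ^ K * T) + (e + 1) * (e * (e + 1) ^ m) :=
            Nat.add_le_add_left (Nat.mul_le_mul_left _ hD) _
        _ = e * (e + 1) * ((e + 1) ^ K * T + (e + 1) ^ m) := by ring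
        _ ≤ e * (e + 1) * (e + 1) ^ (K + m) := Nat.mul_le_mul_left _ h1
        _ = e * (e + 1) ^ (K + 1 + m) := by ring
  exact (Nat.mul_le_mul_left _ hle).trans hmain

theorem tup_bound : ∀ K n, Finite (TupSet F K n) ∧
    (0 < n → Fintype.card F ^ K * Nat.card (TupSet F K n) + Fintype.card F ^ n ≤ Fintype.card F ^ (K + n)) ∧
    (n = 0 → Nat.card (TupSet F K n) ≤ 1) := by
  classical
  intro K
  induction K with
  | zero =>
    intro n
    refine ⟨Finite.of_subsingleton, fun hn => ?_, fun _ => Finite.card_le_one_iff_subsingleton.mpr inferInstance⟩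
    haveI : IsEmpty (TupSet F 0 n) := ⟨fun ⟨t, _, hs⟩ => by
      rw [Fin.sum_univ_zero] at hs; omega⟩
    rw [Nat.card_of_isEmpty, mul_zero, zero_add, zero_add]
  | succ K ih =>
    intro n
    obtain ⟨hDf, hD⟩ := top_bound K ih n
    obtain ⟨hTf, hTb, hT0⟩ := ih n
    have hsplit : ∀ t : TupSet F (K + 1) n,
        (t.1 (Fin.last K) = 1 ∧ (fun i : Fin K => t.1 i.castSucc) ∈ TupSet F K n) ∨
          (t.1 (Fin.last K), fun i : Fin K => t.1 i.castSucc) ∈ TopSet F K n := by
      rintro ⟨t, ht, hs⟩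
      rw [Fin.sum_univ_castSucc] at hs
      simp only [Fin.coe_castSucc, Fin.val_last] at hs
      rcases Nat.eq_zero_or_pos (t (Fin.last K)).natDegree with h | h
      · refine Or.inl ⟨(ht _).1.natDegree_eq_zero.mp h, fun i => ht _, ?_⟩
        simp only
        rw [h, mul_zero, add_zero] at hs
        exact hs
      · exact Or.inr ⟨(ht _).1, (ht _).2, h, fun i => ht _, by simp only; rw [add_comm] at hs; exact hs⟩
    let f : TupSet F (K + 1) n → TupSet F K n ⊕ TopSet F K n := fun t =>
      if h : t.1 (Fin.last K) = 1 ∧ (fun i : Fin K => t.1 i.castSucc) ∈ TupSet F K n then Sum.inl ⟨_, h.2⟩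
      else Sum.inr ⟨_, (hsplit t).resolve_left h⟩
    have hf : Function.Injective f := by
      intro t u htu
      simp only [f] at htu
      split_ifs at htu with h1 h2 h2
      · have h := congrArg Subtype.val (Sum.inl.inj htu)
        exact Subtype.ext (funext fun i => by
          cases i using Fin.lastCases with
          | last => rw [h1.1, h2.1]
          | cast i => exact congrFun h i)
      · have h := Prod.mk.inj (congrArg Subtype.val (Sum.inr.inj htu))
        exact Subtype.ext (funext fun i => by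
          cases i using Fin.lastCases with
          | last => exact h.1
          | cast i => exact congrFun h.2 i)
    have hle := Nat.card_le_card_of_injective f hf
    rw [Nat.card_sum] at hle
    refine ⟨Finite.of_injective f hf, fun hn => ?_, fun hn => ?_⟩
    · have h1 := hTb hn
      obtain ⟨e, he⟩ : ∃ e, Fintype.card F = e + 1 := ⟨Fintype.card F - 1, by have := Fintype.card_pos (α := F); omega⟩
      rw [he] at h1 hD ⊢
      rw [Nat.add_sub_cancel] at hD
      calc (e + 1) ^ (K + 1) * Nat.card (TupSet F (K + 1) n) + (e + 1) ^ n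
          ≤ (e + 1) ^ (K + 1) * (Nat.card (TupSet F K n) + Nat.card (TopSet F K n)) + (e + 1) ^ n :=
            Nat.add_le_add_right (Nat.mul_le_mul_left _ hle) _
        _ = (e + 1) * ((e + 1) ^ K * Nat.card (TupSet F K n)) +
            (e + 1) ^ (K + 1) * Nat.card (TopSet F K n) + (e + 1) ^ n := by ring
        _ ≤ (e + 1) * ((e + 1) ^ K * Nat.card (TupSet F K n)) + e * (e + 1) ^ n + (e + 1) ^ n :=
            Nat.add_le_add_right (Nat.add_le_add_left hD _) _
        _ = (e + 1) * ((e + 1) ^ K * Nat.card (TupSet F K n) + (e + 1) ^ n) := by ring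
        _ ≤ (e + 1) * (e + 1) ^ (K + n) := Nat.mul_le_mul_left _ h1
        _ = (e + 1) ^ (K + 1 + n) := by ring
    · subst hn
      haveI : IsEmpty (TopSet F K 0) := ⟨fun ⟨z, _, _, hd, _, hs⟩ => by
        have := Nat.le_mul_of_pos_right (K + 1) hd
        omega⟩
      rw [Nat.card_of_isEmpty (α := TopSet F K 0)] at hle
      exact hle.trans (hT0 rfl)

theorem card_tupSet_le {K n : ℕ} (hn : 0 < n) : Nat.card (TupSet F K n) ≤ Fintype.card F ^ n := by
  have h := (tup_bound (F := F) K n).2.1 hn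
  rw [pow_add] at h
  exact Nat.le_of_mul_le_mul_left ((Nat.le_add_right _ _).trans h) (pow_pos Fintype.card_pos _)

end Cfsg.Agent.GLSemi
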